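import Cfsg.Agent.Lib.Helper24.BrauerPair4

/-!
# Characters lying over characters of a subgroup: central characters
-/

set_option autoImplicit false

namespace Cfsg.Agent.Lib.Helper24

open Cfsg Cfsg.Agent.Lib.Helper2 Cfsg.Agent.Lib.Helper6
open scoped ComplexConjugate Classical

attribute [local instance] irrFintype

section

variable {T C : Type*} [Group T] [Group C] [Fintype T] [Fintype C]

/-- Every irreducible character of a subgroup lies under an irreducible character. -/
theorem exists_irr_over (ι : C →* T) (hι : Function.Injective ι) (ξ : IrrCharacter C) :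
    ∃ ψ : IrrCharacter T, classInner ((ψ : T → ℂ) ∘ ι) (ξ : C → ℂ) ≠ 0 := by
  by_contra hcon
  push Not at hcon
  apply irr_one_ne_zero ξ.2
  have h1 : ∀ c : C, coef (1 : IrrCharacter T → ℂ) (ι c) = if c = 1 then 1 else 0 := by
    intro c
    rw [coef_one', delta_apply]
    by_cases hc : c = 1
    · rw [if_pos hc, if_pos (by rw [hc, map_one])]
    · rw [if_neg hc, if_neg (fun h => hc (hι (by rw [h, map_one])))]
  have h2 : ∑ c : C, coef (1 : IrrCharacter T → ℂ) (ι c) * (ξ : C → ℂ) c = (ξ : C → ℂ) 1 := by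
    simp only [h1]
    simp
  rw [← h2]
  simp only [coef_apply, Finset.mul_sum, Finset.sum_mul]
  rw [Finset.sum_comm]
  apply Finset.sum_eq_zero
  intro ψ _
  have h3 := hcon ψ
  rw [classInner] at h3
  have h4 : ∑ c : C, (ψ : T → ℂ) (ι c) * conj ((ξ : C → ℂ) c) = 0 := by
    rcases mul_eq_zero.mp h3 with h | h
    · exact absurd (inv_eq_zero.mp h) card_ne_zero_complex
    · exact h
  have h5 : ∑ c : C, conj ((ψ : T → ℂ) (ι c)) * (ξ : C → ℂ) c = 0 := by
    have := congrArg conj h4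
    simpa [map_sum] using this
  have h6 : ∀ c : C, (Nat.card T : ℂ)⁻¹ * ((1 : IrrCharacter T → ℂ) ψ * ((ψ : T → ℂ) 1 *
      conj ((ψ : T → ℂ) (ι c)))) * (ξ : C → ℂ) c = (Nat.card T : ℂ)⁻¹ * (ψ : T → ℂ) 1 *
      (conj ((ψ : T → ℂ) (ι c)) * (ξ : C → ℂ) c) := fun c => by
    rw [Pi.one_apply]; ring
  simp_rw [h6]
  rw [← Finset.mul_sum, h5, mul_zero]

/-- If `ξ` is a constituent of the restriction of `ψ`, the central characters of `ψ` and `ξ` agree
on central elements supported on the subgroup. -/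
theorem om_eq_of_constituent (ι : C →* T) (hι : Function.Injective ι) {ψ : T → ℂ}
    (hψ : IsIrrCharacter T ψ) (ξ : IrrCharacter C) (hc : classInner (ψ ∘ ι) (ξ : C → ℂ) ≠ 0)
    {y : T → ℂ} (hy : IsClassFunction T y) (hsupp : ∀ t, t ∉ Set.range ι → y t = 0) :
    om ψ y = om (ξ : C → ℂ) (y ∘ ι) := by
  have hyC : IsClassFunction C (y ∘ ι) := by
    intro c k
    simp only [Function.comp_apply, map_mul, map_inv]
    exact hy _ _
  have hφ : IsCharacter C (ψ ∘ ι) := IsCharacter.comp_hom ι (IsIrrCharacter.isCharacter hψ)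
  obtain ⟨n, hn⟩ := IsCharacter.exists_eq_sum hφ
  -- the operator `L`
  have hL : ∀ c' : C, ∑ c : C, (y ∘ ι) c * (ψ ∘ ι) (c * c') = om ψ y * (ψ ∘ ι) c' := by
    intro c'
    rw [Function.comp_apply, ← sum_class_mul_irr hψ hy (ι c')]
    apply Fintype.sum_of_injective ι hι
    · intro t ht
      rw [hsupp t ht, zero_mul]
    · intro c
      simp only [Function.comp_apply, map_mul]
  have hL2 : ∀ c' : C, ∑ c : C, (y ∘ ι) c * (ψ ∘ ι) (c * c') =
      (∑ η : IrrCharacter C, ((n η : ℂ) * om (η : C → ℂ) (y ∘ ι)) • (η : C → ℂ)) c' := by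
    intro c'
    rw [hn]
    simp only [Finset.sum_apply, Pi.smul_apply, smul_eq_mul, Finset.mul_sum]
    rw [Finset.sum_comm]
    refine Finset.sum_congr rfl fun η _ => ?_
    rw [mul_assoc, ← sum_class_mul_irr η.2 hyC c', Finset.mul_sum]
    refine Finset.sum_congr rfl fun c _ => ?_
    ring
  have h1 : (∑ η : IrrCharacter C, ((n η : ℂ) * om (η : C → ℂ) (y ∘ ι)) • (η : C → ℂ)) =
      om ψ y • (ψ ∘ ι) := by
    ext c'
    rw [← hL2, hL]
    rfl
  have h2 := congrArg (fun F => classInner F (ξ : C → ℂ)) h1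
  simp only [classInner_sum_irr_left, classInner_smul_left] at h2
  have h3 : classInner (ψ ∘ ι) (ξ : C → ℂ) = n ξ := by
    rw [hn, classInner_sum_irr_left]
  rw [h3] at h2 hc
  have h4 : (n ξ : ℂ) * (om (ξ : C → ℂ) (y ∘ ι) - om ψ y) = 0 := by
    rw [mul_sub, h2]; ring
  rcases mul_eq_zero.mp h4 with h | h
  · exact absurd h hc
  · exact (sub_eq_zero.mp h).symm

end

end Cfsg.Agent.Lib.Helper24
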