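import Cfsg.Agent.Lib.Helper24.CharInt

/-!
# Values of irreducible characters on central elements
-/

set_option autoImplicit false
open Cfsg

namespace Cfsg.Agent.Lib.Helper24

open Cfsg.Agent.Lib.Helper2 Cfsg.Agent.Lib.Helper6
open scoped ComplexConjugate

section

variable {G : Type*} [Group G]

/-- A central element acts by a scalar: `χ(z w) = χ(z) χ(w) / χ(1)`. -/
theorem central_mul [Finite G] {χ : G → ℂ} (hχ : IsIrrCharacter G χ) {z : G}
    (hz : z ∈ Subgroup.center G) (w : G) : χ (z * w) = χ z * χ w / χ 1 := by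
  cases nonempty_fintype G
  have h := schur_average hχ z w
  have h1 : ∀ a : G, χ (a * z * a⁻¹ * w) = χ (z * w) := by
    intro a
    have : a * z * a⁻¹ = z := by
      rw [Subgroup.mem_center_iff.mp hz a, mul_assoc, mul_inv_cancel, mul_one]
    rw [this]
  simp only [h1, Finset.sum_const, Finset.card_univ, nsmul_eq_mul] at h
  rw [← Nat.card_eq_fintype_card] at h
  have hG0 : (Nat.card G : ℂ) ≠ 0 := card_ne_zero_complex
  apply mul_left_cancel₀ hG0
  rw [h]
  ring

/-- The central character `z ↦ χ(z)/χ(1)` as a monoid homomorphism on a central subgroup. -/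
noncomputable def centralHom [Finite G] {χ : G → ℂ} (hχ : IsIrrCharacter G χ) (N : Subgroup G)
    (hN : N ≤ Subgroup.center G) : N →* ℂ where
  toFun z := χ z / χ 1
  map_one' := by
    have := irr_one_ne_zero hχ
    simp [this]
  map_mul' a b := by
    have h0 := irr_one_ne_zero hχ
    rw [Subgroup.coe_mul, central_mul hχ (hN a.2)]
    field_simp

theorem centralHom_apply [Finite G] {χ : G → ℂ} (hχ : IsIrrCharacter G χ) (N : Subgroup G)
    (hN : N ≤ Subgroup.center G) (z : N) : centralHom hχ N hN z = χ z / χ 1 := rfl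

theorem norm_centralHom [Finite G] {χ : G → ℂ} (hχ : IsIrrCharacter G χ) (N : Subgroup G)
    (hN : N ≤ Subgroup.center G) (z : N) : ‖centralHom hχ N hN z‖ = 1 := by
  have h : (centralHom hχ N hN z) ^ orderOf z = 1 := by
    rw [← map_pow, pow_orderOf_eq_one, map_one]
  exact Complex.norm_eq_one_of_pow_eq_one h (orderOf_pos z).ne'

theorem norm_central [Finite G] {χ : G → ℂ} (hχ : IsIrrCharacter G χ) {z : G}
    (hz : z ∈ Subgroup.center G) : ‖χ z‖ = ‖χ 1‖ := by
  have h := norm_centralHom hχ (Subgroup.center G) le_rfl ⟨z, hz⟩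
  rw [centralHom_apply, norm_div] at h
  have h0 : ‖χ 1‖ ≠ 0 := norm_ne_zero_iff.mpr (irr_one_ne_zero hχ)
  field_simp at h
  exact h

/-- `|Z(G)| χ(1)² ≤ |G|`. -/
theorem card_center_mul_degree_sq_le [Finite G] {χ : G → ℂ} (hχ : IsIrrCharacter G χ) :
    Nat.card (Subgroup.center G) * charDegree χ ^ 2 ≤ Nat.card G := by
  classical
  cases nonempty_fintype G
  have h := sum_mul_conj_self hχ
  have h1 : ∑ g : G, ‖χ g‖ ^ 2 = (Nat.card G : ℝ) := by
    have h2 : ((∑ g : G, ‖χ g‖ ^ 2 : ℝ) : ℂ) = ((Nat.card G : ℝ) : ℂ) := by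
      push_cast
      rw [← h]
      refine Finset.sum_congr rfl fun g _ => ?_
      rw [Complex.mul_conj, Complex.normSq_eq_norm_sq]
      push_cast
      rfl
    exact_mod_cast h2
  have h3 : ∑ g ∈ Finset.univ.filter (fun g : G => g ∈ Subgroup.center G), ‖χ g‖ ^ 2 ≤
      ∑ g : G, ‖χ g‖ ^ 2 :=
    Finset.sum_le_sum_of_subset_of_nonneg (Finset.filter_subset _ _) (fun _ _ _ => by positivity)
  have h4 : ∑ g ∈ Finset.univ.filter (fun g : G => g ∈ Subgroup.center G), ‖χ g‖ ^ 2 =
      (Nat.card (Subgroup.center G) : ℝ) * (charDegree χ : ℝ) ^ 2 := by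
    have h5 : ∀ g ∈ Finset.univ.filter (fun g : G => g ∈ Subgroup.center G),
        ‖χ g‖ ^ 2 = (charDegree χ : ℝ) ^ 2 := by
      intro g hg
      rw [norm_central hχ (Finset.mem_filter.mp hg).2,
        ← charDegree_cast (IsIrrCharacter.isCharacter hχ)]
      simp
    rw [Finset.sum_congr rfl h5, Finset.sum_const, nsmul_eq_mul]
    congr 2
    rw [Nat.card_eq_fintype_card, Fintype.card_subtype]
  rw [h4, h1] at h3
  exact_mod_cast h3

end

end Cfsg.Agent.Lib.Helper24
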