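import Cfsg.Agent.Lib.Helper24.BlockTransport

/-!
# Conjugation of blocks of subgroups
-/

set_option autoImplicit false

namespace Cfsg.Agent.Lib.Helper24

open Cfsg Cfsg.Agent.Lib.Helper2 Cfsg.Agent.Lib.Helper6
open scoped ComplexConjugate Classical

attribute [local instance] irrFintype

section conjugation

variable {G : Type*} [Group G]

/-- the conjugate `x • β` of a function on `G` -/
def cjF (x : G) (β : G → ℂ) : G → ℂ := fun g => β (x⁻¹ * g * x)

theorem cjF_apply (x : G) (β : G → ℂ) (g : G) : cjF x β g = β (x⁻¹ * g * x) := rfl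

theorem cjF_one (β : G → ℂ) : cjF 1 β = β := by
  ext g; simp [cjF]

theorem cjF_mul (x y : G) (β : G → ℂ) : cjF (x * y) β = cjF x (cjF y β) := by
  ext g
  simp only [cjF]
  congr 1
  group

theorem cjF_inv_cjF (x : G) (β : G → ℂ) : cjF x⁻¹ (cjF x β) = β := by
  rw [← cjF_mul, inv_mul_cancel, cjF_one]

theorem cjF_cjF_inv (x : G) (β : G → ℂ) : cjF x (cjF x⁻¹ β) = β := by
  rw [← cjF_mul, mul_inv_cancel, cjF_one]

theorem cjF_eq_iff (x : G) (β : G → ℂ) : cjF x β = β ↔ ∀ g, β (x * g * x⁻¹) = β g := by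
  constructor
  · intro h g
    have := congrFun h (x * g * x⁻¹)
    rw [cjF_apply] at this
    rw [← this]
    congr 1
    group
  · intro h
    ext g
    rw [cjF_apply, ← h (x⁻¹ * g * x)]
    congr 1
    group

theorem cjF_of_class {β : G → ℂ} (h : IsClassFunction G β) (x : G) : cjF x β = β :=
  (cjF_eq_iff x β).mpr fun g => h g x

/-- `K' = x K x⁻¹` -/
def IsConjSub (x : G) (K K' : Subgroup G) : Prop := ∀ g, g ∈ K' ↔ x⁻¹ * g * x ∈ K

theorem isConjSub_map (x : G) (K : Subgroup G) :
    IsConjSub x K (K.map (MulAut.conj x).toMonoidHom) := fun _ => mem_cj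

theorem isConjSub_of_mem_normalizer {x : G} {K : Subgroup G}
    (hx : x ∈ Subgroup.normalizer (K : Set G)) : IsConjSub x K K :=
  fun g => Subgroup.mem_normalizer_iff''.mp hx g

theorem IsConjSub.mem_normalizer {x : G} {K : Subgroup G} (h : IsConjSub x K K) :
    x ∈ Subgroup.normalizer (K : Set G) := Subgroup.mem_normalizer_iff''.mpr h

theorem IsConjSub.eq_map {x : G} {K K' : Subgroup G} (h : IsConjSub x K K') :
    K' = K.map (MulAut.conj x).toMonoidHom := by
  ext g
  rw [h g, mem_cj]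

theorem IsConjSub.centralizer {x : G} {Q Q' : Subgroup G} (h : IsConjSub x Q Q') :
    IsConjSub x (cz Q) (cz Q') := by
  intro g
  rw [Subgroup.mem_centralizer_iff, Subgroup.mem_centralizer_iff]
  constructor
  · intro hg u hu
    have h1 : x * u * x⁻¹ ∈ Q' := by
      rw [h]
      simpa [mul_assoc] using hu
    have h2 := hg _ h1
    calc u * (x⁻¹ * g * x) = x⁻¹ * ((x * u * x⁻¹) * g) * x := by group
      _ = x⁻¹ * (g * (x * u * x⁻¹)) * x := by rw [h2]
      _ = _ := by group
  · intro hg u hu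
    have h2 := hg _ ((h u).mp hu)
    calc u * g = x * ((x⁻¹ * u * x) * (x⁻¹ * g * x)) * x⁻¹ := by group
      _ = x * ((x⁻¹ * g * x) * (x⁻¹ * u * x)) * x⁻¹ := by rw [h2]
      _ = _ := by group

theorem IsConjSub.normalizer {x : G} {Q Q' : Subgroup G} (h : IsConjSub x Q Q') :
    IsConjSub x (Subgroup.normalizer (Q : Set G)) (Subgroup.normalizer (Q' : Set G)) := by
  intro g
  rw [Subgroup.mem_normalizer_iff, Subgroup.mem_normalizer_iff]
  constructor
  · intro hg u
    have h1 := hg (x * u * x⁻¹)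
    have e1 : x⁻¹ * (x * u * x⁻¹) * x = u := by group
    have e2 : x⁻¹ * (g * (x * u * x⁻¹) * g⁻¹) * x = x⁻¹ * g * x * u * (x⁻¹ * g * x)⁻¹ := by group
    change x * u * x⁻¹ ∈ Q' ↔ g * (x * u * x⁻¹) * g⁻¹ ∈ Q' at h1
    rw [h, h, e1, e2] at h1
    exact h1
  · intro hg u
    have h1 := hg (x⁻¹ * u * x)
    have e2 : x⁻¹ * g * x * (x⁻¹ * u * x) * (x⁻¹ * g * x)⁻¹ = x⁻¹ * (g * u * g⁻¹) * x := by group
    change u ∈ Q' ↔ g * u * g⁻¹ ∈ Q'
    rw [h, h, ← e2]
    exact h1

theorem IsConjSub.mono {x : G} {Q Q' R R' : Subgroup G} (h : IsConjSub x Q Q')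
    (h' : IsConjSub x R R') (hQR : Q ≤ R) : Q' ≤ R' :=
  fun g hg => (h' g).mpr (hQR ((h g).mp hg))

theorem IsConjSub.mul {x y : G} {K K' K'' : Subgroup G} (h : IsConjSub x K K')
    (h' : IsConjSub y K' K'') : IsConjSub (y * x) K K'' := by
  intro g
  rw [h' g, h]
  have : x⁻¹ * (y⁻¹ * g * y) * x = (y * x)⁻¹ * g * (y * x) := by group
  rw [this]

theorem IsConjSub.inv {x : G} {K K' : Subgroup G} (h : IsConjSub x K K') :
    IsConjSub x⁻¹ K' K := by
  intro g
  rw [h]
  have : x⁻¹ * (x⁻¹⁻¹ * g * x⁻¹) * x = g := by group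
  rw [this]

/-- the isomorphism `K' ≃* K`, `k ↦ x⁻¹ k x` -/
def conjIso {x : G} {K K' : Subgroup G} (h : IsConjSub x K K') : K' ≃* K where
  toFun k := ⟨x⁻¹ * k * x, (h k).mp k.2⟩
  invFun k := ⟨x * k * x⁻¹, (h _).mpr (by
    have : x⁻¹ * (x * (k : G) * x⁻¹) * x = k := by group
    rw [this]; exact k.2)⟩
  left_inv k := by
    apply Subtype.ext
    show x * (x⁻¹ * (k : G) * x) * x⁻¹ = k
    group
  right_inv k := by
    apply Subtype.ext
    show x⁻¹ * (x * (k : G) * x⁻¹) * x = k
    group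
  map_mul' a b := by
    apply Subtype.ext
    show x⁻¹ * ((a : G) * b) * x = (x⁻¹ * a * x) * (x⁻¹ * b * x)
    group

theorem conjIso_coe {x : G} {K K' : Subgroup G} (h : IsConjSub x K K') (k : K') :
    ((conjIso h k : K) : G) = x⁻¹ * k * x := rfl

theorem IsConjSub.isPGroup {p : ℕ} {x : G} {K K' : Subgroup G} (h : IsConjSub x K K')
    (hK : IsPGroup p K) : IsPGroup p K' := hK.of_equiv (conjIso h).symm

theorem IsConjSub.card_eq {x : G} {K K' : Subgroup G} (h : IsConjSub x K K') :
    Nat.card K' = Nat.card K := Nat.card_congr (conjIso h).toEquiv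

variable [Fintype G] {M : Ideal AlgInt}

/-- the conjugate of a set of irreducible characters of `K`, on `K' = x K x⁻¹` -/
def conjSet {x : G} {K K' : Subgroup G} (h : IsConjSub x K K') (e : Set (IrrCharacter K)) :
    Set (IrrCharacter K') := blockMap (conjIso h) e

theorem sbc_conjSet {x : G} {K K' : Subgroup G} (h : IsConjSub x K K')
    (e : Set (IrrCharacter K)) :
    subgroupBlockCoeff K' (conjSet h e) = cjF x (subgroupBlockCoeff K e) := by
  ext g
  rw [cjF_apply]
  by_cases hg : g ∈ K'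
  · rw [sbc_mem K' _ hg, sbc_mem K _ ((h g).mp hg), conjSet, blockCoeff_blockMap]
    rfl
  · rw [sbc_not_mem K' _ hg, sbc_not_mem K _ (fun hc => hg ((h g).mpr hc))]

theorem isPBlock_conjSet {x : G} {K K' : Subgroup G} (h : IsConjSub x K K')
    {e : Set (IrrCharacter K)} (he : IsPBlock M e) : IsPBlock M (conjSet h e) :=
  isPBlock_blockMap _ he

theorem conjSet_principalBlock {x : G} {K K' : Subgroup G} (h : IsConjSub x K K') :
    conjSet h (principalBlock M K) = principalBlock M K' := blockMap_principalBlock _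

omit [Fintype G] in
/-- `IsConjCharOf` in terms of the conjugation isomorphism -/
theorem isConjCharOf_iff {x : G} {K : Subgroup G} (h : IsConjSub x K K) (χ χ' : K → ℂ) :
    IsConjCharOf K x χ χ' ↔ χ' = χ ∘ conjIso h := by
  constructor
  · intro hc
    ext k
    apply hc
    rw [conjIso_coe]
    group
  · rintro rfl k k' hk
    show χ (conjIso h k') = χ k
    congr 1
    apply Subtype.ext
    rw [conjIso_coe, hk]
    group

theorem stabilizesBlock_iff (K : Subgroup G) (e : Set (IrrCharacter K)) (x : G) :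
    StabilizesBlock K e x ↔ x ∈ Subgroup.normalizer (K : Set G) ∧
      cjF x (subgroupBlockCoeff K e) = subgroupBlockCoeff K e := by
  constructor
  · rintro ⟨hx, hs⟩
    refine ⟨hx, ?_⟩
    have h := isConjSub_of_mem_normalizer hx
    rw [← sbc_conjSet h]
    congr 1
    have hsub : conjSet h e ⊆ e := by
      rintro _ ⟨χ, hχ, rfl⟩
      obtain ⟨χ', hχ', hc⟩ := hs χ hχ
      have : χ' = irrMap (conjIso h) χ := Subtype.ext ((isConjCharOf_iff h _ _).mp hc)
      rw [← this]
      exact hχ'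
    apply Set.eq_of_subset_of_ncard_le hsub _ (Set.toFinite _)
    rw [conjSet, blockMap, Set.ncard_image_of_injective _ (irrMap (conjIso h)).injective]
  · rintro ⟨hx, hs⟩
    refine ⟨hx, fun χ hχ => ?_⟩
    have h := isConjSub_of_mem_normalizer hx
    rw [← sbc_conjSet h] at hs
    have h1 := sbc_injective K hs
    refine ⟨irrMap (conjIso h) χ, ?_, (isConjCharOf_iff h _ _).mpr rfl⟩
    rw [← h1]
    exact (mem_blockMap _ _ _).mpr hχ

omit [Fintype G] in
theorem isConjSub_cz_map (Q : Subgroup G) (x : G) :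
    IsConjSub x (cz Q) (cz (Q.map (MulAut.conj x).toMonoidHom)) :=
  (isConjSub_map x Q).centralizer

theorem conjBlock_eq_conjSet (Q : Subgroup G) (x : G) (f : Set (IrrCharacter (cz Q))) :
    conjBlock Q x f = conjSet (isConjSub_cz_map Q x) f := by
  ext ξ'
  constructor
  · rintro ⟨ξ, hξ, hc⟩
    refine ⟨ξ, hξ, ?_⟩
    apply Subtype.ext
    ext c'
    rw [irrMap_apply]
    symm
    apply hc
    rw [conjIso_coe]
    group
  · rintro ⟨ξ, hξ, rfl⟩
    refine ⟨ξ, hξ, fun c c' hcc => ?_⟩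
    rw [irrMap_apply]
    have : conjIso (isConjSub_cz_map Q x) c' = c := by
      apply Subtype.ext
      rw [conjIso_coe, hcc]
      group
    rw [this]

theorem sbc_conjBlock (Q : Subgroup G) (x : G) (f : Set (IrrCharacter (cz Q))) :
    subgroupBlockCoeff (cz (Q.map (MulAut.conj x).toMonoidHom)) (conjBlock Q x f) =
      cjF x (subgroupBlockCoeff (cz Q) f) := by
  rw [conjBlock_eq_conjSet, sbc_conjSet]

/-- Equality of Brauer pair indices can be tested on the idempotents. -/
theorem brauerPairIdx_ext {P P' : Subgroup G} {e : Set (IrrCharacter (cz P))}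
    {e' : Set (IrrCharacter (cz P'))} (hP : P = P')
    (he : subgroupBlockCoeff (cz P) e = subgroupBlockCoeff (cz P') e') :
    (⟨P, e⟩ : BrauerPairIdx G) = ⟨P', e'⟩ := by
  subst hP
  rw [sbc_injective _ he]

end conjugation

end Cfsg.Agent.Lib.Helper24
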