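import Cfsg.Agent.Lib.Helper24.BrauerLocal2
import Cfsg.Prelude.Def_BlockFusion

/-!
# The fusion system of a block: conjugacy, fully centralized / normalized, centric subgroups
-/

set_option autoImplicit false

namespace Cfsg.Agent.Lib.Helper24

open Cfsg Cfsg.Agent.Lib.Helper2 Cfsg.Agent.Lib.Helper6
open scoped ComplexConjugate Classical

attribute [local instance] irrFintype

section

variable {G : Type*} [Group G] [Fintype G] {M : Ideal AlgInt} {p : ℕ}

/-- membership in the block fusion system, with the block `f` of the source fixed -/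
theorem blockFusion_mem_iff (hM : IsPModular p M) {B : Set (IrrCharacter G)} {P : Subgroup G}
    {e : Set (IrrCharacter (cz P))} {F : FusionSystem P}
    (hF : IsBlockFusionSystemOn p M B P e F) {Q : Subgroup G} {f : Set (IrrCharacter (cz Q))}
    (hle : SubpairLE p M Q f P e) (φ : Q →* G) :
    φ ∈ F.Hom Q ↔ ∃ g : G, (∀ u : Q, φ u = g * (u : G) * g⁻¹) ∧
      SubpairLE p M (Q.map (MulAut.conj g).toMonoidHom) (conjBlock Q g f) P e := by
  rw [hF.2 Q φ]
  constructor
  · rintro ⟨-, g, hg, -, f', hf', hle'⟩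
    have : f' = f := PLE_unique hM _ ⟨P, e⟩ Q f' f rfl hf' hle
    subst this
    exact ⟨g, hg, hle'⟩
  · rintro ⟨g, hg, hle'⟩
    exact ⟨PLE.le hle, g, hg, PLE.le hle', f, hle, hle'⟩

theorem blockFusion_isConj_iff (hM : IsPModular p M) {B : Set (IrrCharacter G)} {P : Subgroup G}
    {e : Set (IrrCharacter (cz P))} {F : FusionSystem P}
    (hF : IsBlockFusionSystemOn p M B P e F) {Q : Subgroup G} {f : Set (IrrCharacter (cz Q))}
    (hle : SubpairLE p M Q f P e) (Q' : Subgroup G) :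
    F.IsConj Q Q' ↔ ∃ g : G, Q' = Q.map (MulAut.conj g).toMonoidHom ∧
      SubpairLE p M (Q.map (MulAut.conj g).toMonoidHom) (conjBlock Q g f) P e := by
  constructor
  · rintro ⟨φ, hφ, rfl⟩
    obtain ⟨g, hg, hle'⟩ := (blockFusion_mem_iff hM hF hle φ).mp hφ
    refine ⟨g, ?_, hle'⟩
    ext y
    constructor
    · rintro ⟨u, rfl⟩
      exact ⟨u, u.2, by rw [hg]; rfl⟩
    · rintro ⟨u, hu, rfl⟩
      exact ⟨⟨u, hu⟩, by rw [hg]; rfl⟩
  · rintro ⟨g, rfl, hle'⟩
    refine ⟨(MulAut.conj g).toMonoidHom.comp Q.subtype,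
      (blockFusion_mem_iff hM hF hle _).mpr ⟨g, fun u => rfl, hle'⟩, ?_⟩
    rw [MonoidHom.range_eq_map, ← Subgroup.map_map, ← MonoidHom.range_eq_map, Subgroup.range_subtype]

theorem blockDefect_conjBlock (Q : Subgroup G) (x : G) (f : Set (IrrCharacter (cz Q))) :
    blockDefect p (conjBlock Q x f) = blockDefect p f := by
  rw [conjBlock_eq_conjSet, conjSet, blockDefect_blockMap]

omit [Fintype G] in
theorem card_subgroupOf_inf (A K : Subgroup G) :
    Nat.card ((A ⊓ K).subgroupOf K) = Nat.card (A ⊓ K : Subgroup G) :=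
  Nat.card_congr (Subgroup.subgroupOfEquivOfLe inf_le_right).toEquiv

/-- `|C_P(Q)| ≤ p^d(f)`, with equality iff `C_P(Q)` is a defect group of `f`. -/
theorem card_centralizerIn_le (hM : IsPModular p M) {P Q : Subgroup G}
    {e : Set (IrrCharacter (cz P))} {f : Set (IrrCharacter (cz Q))}
    (hPe : IsBrauerPair p M P e) (hle : SubpairLE p M Q f P e) :
    Nat.card (P ⊓ cz Q : Subgroup G) ≤ p ^ blockDefect p f ∧
      (Nat.card (P ⊓ cz Q : Subgroup G) = p ^ blockDefect p f ↔
        IsDefectGroup p M f ((P ⊓ cz Q).subgroupOf (cz Q))) := by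
  have : Fact p.Prime := ⟨hM.1⟩
  have hf : IsPBlock M f := (PLE.isBrauerPair_left hle hPe).2
  obtain ⟨D, hD, hDle⟩ := exists_defectGroup_ge_centralizer hM hPe hle
  have hc := IsDefectGroup.card_eq hM hf hD
  rw [← card_subgroupOf_inf]
  refine ⟨hc ▸ Subgroup.card_le_of_le hDle, ?_, fun h => IsDefectGroup.card_eq hM hf h⟩
  intro h
  rw [Subgroup.eq_of_le_of_card_ge hDle (by omega)]
  exact hD

theorem fullyCentralized_iff (hM : IsPModular p M) {B : Set (IrrCharacter G)} {P : Subgroup G}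
    {e : Set (IrrCharacter (cz P))} {F : FusionSystem P}
    (hF : IsBlockFusionSystemOn p M B P e F) {Q : Subgroup G} {f : Set (IrrCharacter (cz Q))}
    (hle : SubpairLE p M Q f P e) :
    F.IsFullyCentralized Q ↔ IsDefectGroup p M f ((P ⊓ cz Q).subgroupOf (cz Q)) := by
  have hmax := hF.1
  have hQf : IsBrauerPairOf p M B Q f := (PLE.isBrauerPairOf_iff hM hle hmax.1.2.1).mp hmax.1
  have h0 := card_centralizerIn_le hM hmax.1.1 hle
  rw [← h0.2]
  constructor
  · rintro ⟨-, h⟩
    obtain ⟨x, hx, hD⟩ := exists_conj_centralizer_defectGroup hM hmax hQf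
    have h1 := h _ ((blockFusion_isConj_iff hM hF hle _).mpr ⟨x, rfl, hx⟩)
    have h2 := (card_centralizerIn_le hM hmax.1.1 hx).2.mpr hD
    rw [blockDefect_conjBlock] at h2
    unfold FusionSystem.centralizerIn at h1
    have h3 := h0.1
    change Nat.card (P ⊓ cz (Q.map (MulAut.conj x).toMonoidHom) : Subgroup G) ≤
      Nat.card (P ⊓ cz Q : Subgroup G) at h1
    omega
  · intro h
    refine ⟨PLE.le hle, fun Q' hQ' => ?_⟩
    obtain ⟨g, rfl, hg⟩ := (blockFusion_isConj_iff hM hF hle _).mp hQ'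
    have h2 := (card_centralizerIn_le hM hmax.1.1 hg).1
    rw [blockDefect_conjBlock] at h2
    unfold FusionSystem.centralizerIn
    change Nat.card (P ⊓ cz (Q.map (MulAut.conj g).toMonoidHom) : Subgroup G) ≤
      Nat.card (P ⊓ cz Q : Subgroup G)
    omega

omit [Fintype G] in
theorem card_center_conj (Q : Subgroup G) (x : G) :
    Nat.card (Q.map (MulAut.conj x).toMonoidHom ⊓ cz (Q.map (MulAut.conj x).toMonoidHom) :
      Subgroup G) = Nat.card (Q ⊓ cz Q : Subgroup G) := by
  have h : IsConjSub x (Q ⊓ cz Q)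
      (Q.map (MulAut.conj x).toMonoidHom ⊓ cz (Q.map (MulAut.conj x).toMonoidHom)) := by
    intro g
    rw [Subgroup.mem_inf, Subgroup.mem_inf, isConjSub_map x Q g, isConjSub_cz_map Q x g]
  exact h.card_eq

theorem centric_iff (hM : IsPModular p M) {B : Set (IrrCharacter G)} {P : Subgroup G}
    {e : Set (IrrCharacter (cz P))} {F : FusionSystem P}
    (hF : IsBlockFusionSystemOn p M B P e F) {Q : Subgroup G} {f : Set (IrrCharacter (cz Q))}
    (hle : SubpairLE p M Q f P e) :
    F.IsCentric Q ↔ IsDefectGroup p M f ((Q ⊓ cz Q).subgroupOf (cz Q)) := by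
  have : Fact p.Prime := ⟨hM.1⟩
  have hmax := hF.1
  have hQP : Q ≤ P := PLE.le hle
  have hf : IsPBlock M f := (PLE.isBrauerPair_left hle hmax.1.1).2
  have hQf : IsBrauerPairOf p M B Q f := (PLE.isBrauerPairOf_iff hM hle hmax.1.2.1).mp hmax.1
  have h0 := card_centralizerIn_le hM hmax.1.1 hle
  have hZ : ∀ {R : Subgroup G}, R ≤ P → (R ⊓ cz R : Subgroup G) ≤ P ⊓ cz R :=
    fun hR => inf_le_inf_right _ hR
  constructor
  · rintro ⟨-, h⟩
    obtain ⟨x, hx, hD⟩ := exists_conj_centralizer_defectGroup hM hmax hQf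
    have h1 := h _ ((blockFusion_isConj_iff hM hF hle _).mpr ⟨x, rfl, hx⟩)
    have h2 := (card_centralizerIn_le hM hmax.1.1 hx).2.mpr hD
    rw [blockDefect_conjBlock] at h2
    have h3 : (P ⊓ cz (Q.map (MulAut.conj x).toMonoidHom) : Subgroup G) ≤
        Q.map (MulAut.conj x).toMonoidHom ⊓ cz (Q.map (MulAut.conj x).toMonoidHom) :=
      le_inf h1 inf_le_right
    have h4 := Subgroup.card_le_of_le h3
    rw [card_center_conj, h2] at h4
    have h5 : (Q ⊓ cz Q : Subgroup G) = P ⊓ cz Q :=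
      Subgroup.eq_of_le_of_card_ge (hZ hQP) (h0.1.trans h4)
    rw [h5, ← h0.2]
    rw [h5] at h4
    exact le_antisymm h0.1 h4
  · intro h
    have hc := IsDefectGroup.card_eq hM hf h
    rw [card_subgroupOf_inf] at hc
    refine ⟨hQP, fun Q' hQ' => ?_⟩
    obtain ⟨g, rfl, hg⟩ := (blockFusion_isConj_iff hM hF hle _).mp hQ'
    have h2 := (card_centralizerIn_le hM hmax.1.1 hg).1
    rw [blockDefect_conjBlock, ← hc, ← card_center_conj Q g] at h2
    have h5 := Subgroup.eq_of_le_of_card_ge (hZ (PLE.le hg)) h2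
    unfold FusionSystem.centralizerIn
    change (P ⊓ cz (Q.map (MulAut.conj g).toMonoidHom) : Subgroup G) ≤ _
    rw [← h5]
    exact inf_le_left

theorem isPairStab_inf (Q : Subgroup G) (f : Set (IrrCharacter (cz Q))) :
    IsPairStab Q f (Subgroup.normalizer (Q : Set G) ⊓ stabSub (cz Q) f) := fun _ => Iff.rfl

/-- `|N_P(Q)| ≤ p^d(F)`, with equality iff `N_P(Q)` is a defect group of `F`. -/
theorem card_normalizerIn_le (hM : IsPModular p M) {P Q : Subgroup G}
    {e : Set (IrrCharacter (cz P))} {f : Set (IrrCharacter (cz Q))}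
    (hPe : IsBrauerPair p M P e) (hle : SubpairLE p M Q f P e) {T : Subgroup G}
    (hT : IsPairStab Q f T) {F : Set (IrrCharacter T)} (hF : IsPBlock M F)
    (hFf : subgroupBlockCoeff T F = subgroupBlockCoeff (cz Q) f) :
    Nat.card (P ⊓ Subgroup.normalizer (Q : Set G) : Subgroup G) ≤ p ^ blockDefect p F ∧
      (Nat.card (P ⊓ Subgroup.normalizer (Q : Set G) : Subgroup G) = p ^ blockDefect p F ↔
        IsDefectGroup p M F ((P ⊓ Subgroup.normalizer (Q : Set G)).subgroupOf T)) := by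
  have : Fact p.Prime := ⟨hM.1⟩
  obtain ⟨hNT, D, hD, hDle⟩ := exists_defectGroup_ge_normalizer hM hPe hle hT hF hFf
  have hc := IsDefectGroup.card_eq hM hF hD
  rw [← Nat.card_congr (Subgroup.subgroupOfEquivOfLe hNT).toEquiv]
  refine ⟨hc ▸ Subgroup.card_le_of_le hDle, ?_, fun h => IsDefectGroup.card_eq hM hF h⟩
  intro h
  rw [Subgroup.eq_of_le_of_card_ge hDle (by omega)]
  exact hD

theorem blockDefect_pairStab_conj {Q : Subgroup G} {f : Set (IrrCharacter (cz Q))}
    {T T' : Subgroup G} (hT : IsPairStab Q f T) (x : G)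
    (hT' : IsPairStab (Q.map (MulAut.conj x).toMonoidHom) (conjBlock Q x f) T')
    {F : Set (IrrCharacter T)} {F' : Set (IrrCharacter T')}
    (hFf : subgroupBlockCoeff T F = subgroupBlockCoeff (cz Q) f)
    (hFf' : subgroupBlockCoeff T' F' =
      subgroupBlockCoeff (cz (Q.map (MulAut.conj x).toMonoidHom)) (conjBlock Q x f)) :
    blockDefect p F' = blockDefect p F := by
  have hTT' := hT.conj x hT'
  have hFF' : F' = conjSet hTT' F := by
    apply sbc_injective
    rw [hFf', sbc_conjSet, hFf, sbc_conjBlock]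
  rw [hFF', conjSet, blockDefect_blockMap]

theorem fullyNormalized_iff (hM : IsPModular p M) {B : Set (IrrCharacter G)} {P : Subgroup G}
    {e : Set (IrrCharacter (cz P))} {F : FusionSystem P}
    (hF : IsBlockFusionSystemOn p M B P e F) {Q : Subgroup G} {f : Set (IrrCharacter (cz Q))}
    (hle : SubpairLE p M Q f P e) {T : Subgroup G} (hT : IsPairStab Q f T)
    {F₁ : Set (IrrCharacter T)} (hF₁ : IsPBlock M F₁)
    (hFf : subgroupBlockCoeff T F₁ = subgroupBlockCoeff (cz Q) f) :
    F.IsFullyNormalized Q ↔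
      IsDefectGroup p M F₁ ((P ⊓ Subgroup.normalizer (Q : Set G)).subgroupOf T) := by
  have hmax := hF.1
  have hQf : IsBrauerPairOf p M B Q f := (PLE.isBrauerPairOf_iff hM hle hmax.1.2.1).mp hmax.1
  have h0 := card_normalizerIn_le hM hmax.1.1 hle hT hF₁ hFf
  rw [← h0.2]
  constructor
  · rintro ⟨-, h⟩
    obtain ⟨x, hx, hD⟩ := exists_conj_normalizer_defectGroup hM hmax hQf hT
    obtain ⟨F', hF', hFf', hD'⟩ := hD _ (isPairStab_inf _ _)
    have h1 := h _ ((blockFusion_isConj_iff hM hF hle _).mpr ⟨x, rfl, hx⟩)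
    have h2 := (card_normalizerIn_le hM hmax.1.1 hx (isPairStab_inf _ _) hF' hFf').2.mpr hD'
    rw [blockDefect_pairStab_conj hT x (isPairStab_inf _ _) hFf hFf'] at h2
    unfold FusionSystem.normalizerIn at h1
    have h3 := h0.1
    omega
  · intro h
    refine ⟨PLE.le hle, fun Q' hQ' => ?_⟩
    obtain ⟨g, rfl, hg⟩ := (blockFusion_isConj_iff hM hF hle _).mp hQ'
    obtain ⟨F', hF', hFf'⟩ := (isPairStab_inf _ _).exists_block hM
      (PLE.isBrauerPair_left hg hmax.1.1)
    have h2 := (card_normalizerIn_le hM hmax.1.1 hg (isPairStab_inf _ _) hF' hFf').1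
    rw [blockDefect_pairStab_conj hT g (isPairStab_inf _ _) hFf hFf'] at h2
    unfold FusionSystem.normalizerIn
    omega

end

end Cfsg.Agent.Lib.Helper24
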