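import Cfsg.Agent.Lib.Helper6.FirstMain2

/-!
# Supports of central idempotents with local integer coefficients
-/

set_option autoImplicit false

namespace Cfsg.Agent.Lib.Helper24

open Cfsg Cfsg.Agent.Lib.Helper2 Cfsg.Agent.Lib.Helper6
open scoped ComplexConjugate Classical

attribute [local instance] irrFintype

section

variable {G : Type*} [Group G] [Fintype G] {M : Ideal AlgInt} {p : ℕ}

theorem conv_eq_zero_of_not_mem (C : Subgroup G) {f f' : G → ℂ} (hf : ∀ x, x ∉ C → f x = 0)
    (hf' : ∀ x, x ∉ C → f' x = 0) {x : G} (hx : x ∉ C) : conv f f' x = 0 := by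
  rw [conv_apply]
  refine Finset.sum_eq_zero fun y _ => ?_
  by_cases hy : y ∈ C
  · rw [hf' _ (fun h => hx (by simpa using C.mul_mem hy h)), mul_zero]
  · rw [hf y hy, zero_mul]

/-- Newton iteration: if an idempotent `ε` of `Z(SG)` is the sum of an element supported on the
subgroup `C` and an element all of whose central character values lie in the local ideal, then
`ε` is supported on `C`. -/
theorem coef_idem_eq_zero_of_not_mem (hM : IsPModular p M) [M.IsPrime] (C : Subgroup G)
    {ε a₁ a₂ : IrrCharacter G → ℂ} (hε : ε * ε = ε) (hεZ : ε ∈ ZS M G) (ha₁ : a₁ ∈ ZS M G)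
    (ha₂ : a₂ ∈ ZS M G) (hsum : a₁ + a₂ = ε) (hsupp : ∀ g, g ∉ C → coef a₁ g = 0)
    (hnil : ∀ ψ, MemLocalIdeal M (a₂ ψ)) {g : G} (hg : g ∉ C) : coef ε g = 0 := by
  have key : ∀ n : ℕ, ∃ x w : IrrCharacter G → ℂ, x ∈ ZS M G ∧ w ∈ ZS M G ∧
      (∀ g, g ∉ C → coef x g = 0) ∧ ε - x = a₂ ^ (2 ^ n) * w := by
    intro n
    induction n with
    | zero =>
      refine ⟨a₁, 1, ha₁, Subring.one_mem _, hsupp, ?_⟩
      rw [← hsum]
      simp
    | succ n ih =>
      obtain ⟨x, w, hx, hw, hxs, hxw⟩ := ih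
      set d : IrrCharacter G → ℂ := a₂ ^ (2 ^ n) * w with hd
      have hdZ : d ∈ ZS M G := Subring.mul_mem _ (Subring.pow_mem _ ha₂ _) hw
      have h3 : (fun _ : IrrCharacter G => (3 : ℂ)) ∈ ZS M G := by
        have := const_mem_ZS (G := G) (M := M) (memLocalRing_natCast 3)
        simpa using this
      have h2 : (fun _ : IrrCharacter G => (2 : ℂ)) ∈ ZS M G := by
        have := const_mem_ZS (G := G) (M := M) (memLocalRing_natCast 2)
        simpa using this
      have h6 : (fun _ : IrrCharacter G => (6 : ℂ)) ∈ ZS M G := by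
        have := const_mem_ZS (G := G) (M := M) (memLocalRing_natCast 6)
        simpa using this
      refine ⟨(3 : ℂ) • (x * x) - (2 : ℂ) • (x * x * x),
        w * w * ((fun _ => (6 : ℂ)) * ε - (fun _ => (3 : ℂ)) - (fun _ => (2 : ℂ)) * d), ?_, ?_, ?_, ?_⟩
      · have e1 : (3 : ℂ) • (x * x) - (2 : ℂ) • (x * x * x) =
            (fun _ => (3 : ℂ)) * (x * x) - (fun _ => (2 : ℂ)) * (x * x * x) := by
          ext ψ; simp
        rw [e1]
        exact Subring.sub_mem _ (Subring.mul_mem _ h3 (Subring.mul_mem _ hx hx))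
          (Subring.mul_mem _ h2 (Subring.mul_mem _ (Subring.mul_mem _ hx hx) hx))
      · exact Subring.mul_mem _ (Subring.mul_mem _ hw hw) (Subring.sub_mem _
          (Subring.sub_mem _ (Subring.mul_mem _ h6 hεZ) h3) (Subring.mul_mem _ h2 hdZ))
      · intro g hg
        have hxx : ∀ g, g ∉ C → coef (x * x) g = 0 := by
          intro g hg
          rw [coef_mul]
          exact conv_eq_zero_of_not_mem C hxs hxs hg
        have hxxx : ∀ g, g ∉ C → coef (x * x * x) g = 0 := by
          intro g hg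
          rw [coef_mul]
          exact conv_eq_zero_of_not_mem C hxx hxs hg
        rw [coef_sub, coef_smul, coef_smul]
        simp only [Pi.sub_apply, Pi.smul_apply, hxx g hg, hxxx g hg]
        simp
      · have hx' : x = ε - d := by rw [← hxw]; ring
        have hpow : a₂ ^ (2 ^ (n + 1)) * (w * w * ((fun _ => (6 : ℂ)) * ε - (fun _ => (3 : ℂ)) -
            (fun _ => (2 : ℂ)) * d)) = d * d * ((fun _ => (6 : ℂ)) * ε - (fun _ => (3 : ℂ)) -
            (fun _ => (2 : ℂ)) * d) := by
          rw [hd, pow_succ, pow_mul]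
          ring
        rw [hpow, hx']
        ext ψ
        have hεψ : ε ψ * ε ψ = ε ψ := congrFun hε ψ
        simp only [Pi.sub_apply, Pi.smul_apply, Pi.mul_apply, smul_eq_mul]
        linear_combination (-(1 - 2 * ε ψ + 6 * d ψ)) * hεψ
  apply eq_zero_of_forall_pDiv hM
  intro t
  obtain ⟨K, hK⟩ := topNil_coef hM hnil t
  obtain ⟨x, w, -, hw, hxs, hxw⟩ := key K
  have h1 : ε = x + a₂ ^ (2 ^ K) * w := by rw [← hxw]; ring
  rw [h1, coef_add, Pi.add_apply, hxs g hg, zero_add, coef_mul, coef_pow, conv_apply]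
  exact PDiv.sum _ fun y _ => PDiv.mul_right (hK _ (Nat.lt_pow_self (by norm_num)).le y) (hw _)

/-- For a normal `p`-subgroup `P`, block idempotents are supported on `C_G(P)`. -/
theorem coef_indicator_eq_zero_of_not_mem_centralizer (hM : IsPModular p M)
    {P : Subgroup G} (hn : P.Normal) (hP : IsPGroup p P) {b : Set (IrrCharacter G)}
    (hb : IsPBlock M b) {h : G} (hh : h ∉ Subgroup.centralizer (P : Set G)) :
    coef (b.indicator 1) h = 0 := by
  have := IsPModular.isPrime hM
  set e : G → ℂ := coef (b.indicator 1) with he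
  have hecl : IsClassFunction G e := isClassFunction_coef _
  have heS : ∀ u, MemLocalRing M (e u) := IsPBlock.indicator_mem_ZS hb
  have hCn : (Subgroup.centralizer (P : Set G)).Normal := inferInstance
  have hCiff : ∀ x y : G, y * x * y⁻¹ ∈ Subgroup.centralizer (P : Set G) ↔
      x ∈ Subgroup.centralizer (P : Set G) := by
    intro x y
    constructor
    · intro hx
      have := hCn.conj_mem _ hx y⁻¹
      simpa [mul_assoc] using this
    · intro hx
      exact hCn.conj_mem _ hx y
  let f₁ : G → ℂ := fun x => if x ∈ Subgroup.centralizer (P : Set G) then e x else 0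
  let f₂ : G → ℂ := fun x => if x ∈ Subgroup.centralizer (P : Set G) then 0 else e x
  have hf₁cl : IsClassFunction G f₁ := by
    intro x y
    simp only [f₁]
    rw [hecl]
    exact if_congr (hCiff x y) rfl rfl
  have hf₂cl : IsClassFunction G f₂ := by
    intro x y
    simp only [f₂]
    rw [hecl]
    exact if_congr (hCiff x y) rfl rfl
  have hf₁S : ∀ x, MemLocalRing M (f₁ x) := by
    intro x
    simp only [f₁]
    split_ifs
    · exact heS x
    · exact memLocalRing_zero
  have hf₂S : ∀ x, MemLocalRing M (f₂ x) := by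
    intro x
    simp only [f₂]
    split_ifs
    · exact memLocalRing_zero
    · exact heS x
  have hsum : e = f₁ + f₂ := by
    ext x
    simp only [f₁, f₂, Pi.add_apply]
    split_ifs <;> simp
  let a₁ : IrrCharacter G → ℂ := fun ψ => om (ψ : G → ℂ) f₁
  let a₂ : IrrCharacter G → ℂ := fun ψ => om (ψ : G → ℂ) f₂
  have ha₁Z : a₁ ∈ ZS M G := om_mem_ZS hf₁cl hf₁S
  have ha₂Z : a₂ ∈ ZS M G := om_mem_ZS hf₂cl hf₂S
  have hc₁ : coef a₁ = f₁ := (eq_coef_om hf₁cl).symm
  have hc₂ : coef a₂ = f₂ := (eq_coef_om hf₂cl).symm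
  have ha₂ : ∀ ψ, MemLocalIdeal M (a₂ ψ) := by
    intro ψ
    simp only [a₂]
    rw [om_eq_sum_classes (irr_isClassFunction ψ.2) hf₂cl]
    refine MemLocalIdeal.sum _ fun C _ => ?_
    by_cases hc : Quotient.out C ∈ Subgroup.centralizer (P : Set G)
    · simp only [f₂, if_pos hc, zero_mul]
      exact memLocalIdeal_zero
    · exact MemLocalIdeal.mul_left (hf₂S _)
        (centralChar_memLocalIdeal_of_not_mem_centralizer hM P hP hc ψ.2)
  have hadd : a₁ + a₂ = b.indicator 1 := by
    apply coef_injective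
    rw [coef_add, hc₁, hc₂, ← hsum]
  have hidem : (b.indicator 1 : IrrCharacter G → ℂ) * b.indicator 1 = b.indicator 1 := by
    ext ψ
    rw [Pi.mul_apply]
    by_cases hψ : ψ ∈ b
    · simp [Set.indicator_of_mem hψ]
    · rw [Set.indicator_of_notMem hψ, mul_zero]
  exact coef_idem_eq_zero_of_not_mem hM (Subgroup.centralizer (P : Set G)) hidem
    (IsPBlock.indicator_mem_ZS hb) ha₁Z ha₂Z hadd (fun g hg => by
      rw [hc₁]; simp only [f₁, if_neg hg]) ha₂ hh

end

end Cfsg.Agent.Lib.Helper24
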