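import Cfsg.Agent.Lib.Helper24.BrauerLocal
import Cfsg.Agent.Lib.Helper24.IdemSupport

/-!
# Central idempotents with local integer coefficients and block idempotents
-/

set_option autoImplicit false

namespace Cfsg.Agent.Lib.Helper24

open Cfsg Cfsg.Agent.Lib.Helper2 Cfsg.Agent.Lib.Helper6
open scoped ComplexConjugate Classical

attribute [local instance] irrFintype

section abstract

variable {H : Type*} [Group H] [Fintype H] {M : Ideal AlgInt}

theorem idem_eq_one_on_block [M.IsPrime] {a : IrrCharacter H → ℂ} (ha : a ∈ ZS M H)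
    (hi : a * a = a) {b : Set (IrrCharacter H)} (hb : IsPBlock M b) {χ₀ : IrrCharacter H}
    (hχ₀ : χ₀ ∈ b) (h0 : a χ₀ ≠ 0) {χ : IrrCharacter H} (hχ : χ ∈ b) : a χ = 1 := by
  have h01 : ∀ ψ, a ψ = 0 ∨ a ψ = 1 := by
    intro ψ
    have h := congrFun hi ψ
    rw [Pi.mul_apply] at h
    have : a ψ * (a ψ - 1) = 0 := by rw [mul_sub, h]; ring
    rcases mul_eq_zero.mp this with h | h
    · exact Or.inl h
    · exact Or.inr (sub_eq_zero.mp h)
  have h1 : a χ₀ = 1 := (h01 χ₀).resolve_left h0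
  rcases h01 χ with h | h
  · exfalso
    have h2 := ZS_congr ha (IsPBlock.sameBlock hb hχ₀ hχ)
    rw [h1, h, sub_zero] at h2
    exact not_memLocalIdeal_one h2
  · exact h

theorem idem_eq_indicator [M.IsPrime] {a : IrrCharacter H → ℂ} (ha : a ∈ ZS M H)
    (hi : a * a = a) {b : Set (IrrCharacter H)} (hb : IsPBlock M b)
    (hab : a * b.indicator 1 = a) (h0 : a ≠ 0) : a = b.indicator 1 := by
  obtain ⟨χ₀, hχ₀⟩ : ∃ χ₀, a χ₀ ≠ 0 := by
    by_contra hcon
    push Not at hcon
    exact h0 (funext hcon)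
  have hoff : ∀ χ, χ ∉ b → a χ = 0 := by
    intro χ hχ
    have := congrFun hab χ
    rw [Pi.mul_apply, Set.indicator_of_notMem hχ, mul_zero] at this
    exact this.symm
  have hχ₀b : χ₀ ∈ b := by
    by_contra hcon
    exact hχ₀ (hoff χ₀ hcon)
  ext χ
  by_cases hχ : χ ∈ b
  · rw [Set.indicator_of_mem hχ, idem_eq_one_on_block ha hi hb hχ₀b hχ₀ hχ]
    rfl
  · rw [Set.indicator_of_notMem hχ, hoff χ hχ]

end abstract

section

variable {G : Type*} [Group G] [Fintype G] {M : Ideal AlgInt} {p : ℕ}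

/-- data of a central idempotent of `S H`, as a function on `G` -/
structure IsCentralIdem (M : Ideal AlgInt) (H : Subgroup G) (v : G → ℂ) : Prop where
  supp : ∀ g, g ∉ H → v g = 0
  inv : ∀ h ∈ H, ∀ g, v (h * g * h⁻¹) = v g
  mem : ∀ g, MemLocalRing M (v g)
  idem : conv v v = v

omit [Fintype G] in
theorem eq_ext_of_supp {H : Subgroup G} {v : G → ℂ} (h : ∀ g, g ∉ H → v g = 0) :
    v = extendByZero H (fun t : H => v t) := by
  ext g
  by_cases hg : g ∈ H
  · rw [extendByZero_mem _ _ hg]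
  · rw [extendByZero_not_mem _ _ hg, h g hg]

omit [Fintype G] in
theorem ext_injective (H : Subgroup G) {f f' : H → ℂ}
    (h : extendByZero H f = extendByZero H f') : f = f' := by
  ext t
  have := congrFun h t
  rwa [extendByZero_coe, extendByZero_coe] at this

theorem IsCentralIdem.exists_coef [M.IsPrime] {H : Subgroup G} {v : G → ℂ}
    (h : IsCentralIdem M H v) :
    ∃ a : IrrCharacter H → ℂ, a ∈ ZS M H ∧ a * a = a ∧ v = extendByZero H (coef a) := by
  have hcl : IsClassFunction H (fun t : H => v t) := fun t k => h.inv k k.2 t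
  refine ⟨fun χ => om (χ : H → ℂ) (fun t : H => v t), om_mem_ZS hcl (fun t => h.mem t), ?_, ?_⟩
  · apply coef_injective
    apply ext_injective H
    rw [coef_mul, ext_conv, ← eq_coef_om hcl, ← eq_ext_of_supp h.supp, h.idem]
  · rw [← eq_coef_om hcl]
    exact eq_ext_of_supp h.supp

theorem isCentralIdem_sbc [M.IsPrime] (H : Subgroup G) {b : Set (IrrCharacter H)}
    (hb : IsPBlock M b) : IsCentralIdem M H (subgroupBlockCoeff H b) :=
  ⟨fun _ hg => sbc_not_mem H b hg, fun _ hh g => sbc_conj_mem H b hh g, sbc_memLocalRing H hb,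
    sbc_idem H b⟩

theorem sbc_ne_zero [M.IsPrime] (H : Subgroup G) {b : Set (IrrCharacter H)} (hb : IsPBlock M b) :
    subgroupBlockCoeff H b ≠ 0 := by
  intro h
  rw [← sbc_empty H] at h
  obtain ⟨χ, hχ⟩ := IsPBlock.nonempty hb
  rw [sbc_injective H h] at hχ
  exact hχ

/-- Block idempotents are primitive. -/
theorem IsCentralIdem.eq_sbc [M.IsPrime] {H : Subgroup G} {v : G → ℂ} (h : IsCentralIdem M H v)
    {b : Set (IrrCharacter H)} (hb : IsPBlock M b) (hvb : conv v (subgroupBlockCoeff H b) = v)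
    (h0 : v ≠ 0) : v = subgroupBlockCoeff H b := by
  obtain ⟨a, haZ, hai, hva⟩ := h.exists_coef
  have h1 : a * b.indicator 1 = a := by
    apply coef_injective
    apply ext_injective H
    rw [coef_mul, ext_conv, ← hva, ← sbc_eq_ext, hvb]
  have h2 : a ≠ 0 := by
    rintro rfl
    apply h0
    rw [hva, coef_zero]
    ext g
    by_cases hg : g ∈ H
    · rw [extendByZero_mem _ _ hg]; rfl
    · rw [extendByZero_not_mem _ _ hg]; rfl
  rw [hva, idem_eq_indicator haZ hai hb h1 h2, sbc_eq_ext]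

/-- Every nonzero central idempotent lies above a block idempotent. -/
theorem IsCentralIdem.exists_block [M.IsPrime] {H : Subgroup G} {v : G → ℂ}
    (h : IsCentralIdem M H v) (h0 : v ≠ 0) :
    ∃ F : Set (IrrCharacter H), IsPBlock M F ∧
      conv (subgroupBlockCoeff H F) v = subgroupBlockCoeff H F := by
  obtain ⟨a, haZ, hai, hva⟩ := h.exists_coef
  obtain ⟨χ₀, hχ₀⟩ : ∃ χ₀, a χ₀ ≠ 0 := by
    by_contra hcon
    push Not at hcon
    apply h0
    have : a = 0 := funext hcon
    rw [hva, this, coef_zero]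
    ext g
    by_cases hg : g ∈ H
    · rw [extendByZero_mem _ _ hg]; rfl
    · rw [extendByZero_not_mem _ _ hg]; rfl
  have hF : IsPBlock M (blockOf M (χ₀ : H → ℂ)) := ⟨χ₀, rfl⟩
  refine ⟨_, hF, ?_⟩
  rw [sbc_eq_ext, hva, ← ext_conv, ← coef_mul]
  congr 2
  ext χ
  rw [Pi.mul_apply]
  by_cases hχ : χ ∈ blockOf M (χ₀ : H → ℂ)
  · rw [idem_eq_one_on_block haZ hai hF (mem_blockOf_self χ₀) hχ₀ hχ, mul_one]
  · rw [Set.indicator_of_notMem hχ, zero_mul]

/-- If all block idempotents of `T` are supported on `K ≤ T`, then the idempotent of a `T`-stable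
block of `K` is a block idempotent of `T`. -/
theorem exists_block_of_stable [M.IsPrime] {K T : Subgroup G} (hKT : K ≤ T)
    {c : Set (IrrCharacter K)} (hc : IsPBlock M c) (hst : T ≤ stabSub K c)
    (hsupp : ∀ F : Set (IrrCharacter T), IsPBlock M F → ∀ g, g ∉ K → subgroupBlockCoeff T F g = 0) :
    ∃ F : Set (IrrCharacter T), IsPBlock M F ∧ subgroupBlockCoeff T F = subgroupBlockCoeff K c := by
  have h1 : IsCentralIdem M T (subgroupBlockCoeff K c) :=
    ⟨fun g hg => sbc_not_mem K c (fun h => hg (hKT h)),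
      fun t ht => (cjF_eq_iff t _).mp ((stabilizesBlock_iff _ _ _).mp (hst ht)).2,
      sbc_memLocalRing K hc, sbc_idem K c⟩
  obtain ⟨F, hF, hFc⟩ := h1.exists_block (sbc_ne_zero K hc)
  refine ⟨F, hF, ?_⟩
  have h2 : IsCentralIdem M K (subgroupBlockCoeff T F) :=
    ⟨hsupp F hF, fun k hk g => sbc_conj_mem T F (hKT hk) g, sbc_memLocalRing T hF, sbc_idem T F⟩
  exact h2.eq_sbc hc hFc (sbc_ne_zero T hF)

/-- Block idempotents of a subgroup `T` with a normal `p`-subgroup `Q` are supported on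
`C_G(Q)`. -/
theorem sbc_eq_zero_of_not_mem_cz (hM : IsPModular p M) {Q T : Subgroup G} (hQ : IsPGroup p Q)
    (hQT : Q ≤ T) (hTN : T ≤ Subgroup.normalizer (Q : Set G)) {F : Set (IrrCharacter T)}
    (hF : IsPBlock M F) {g : G} (hg : g ∉ cz Q) : subgroupBlockCoeff T F g = 0 := by
  by_cases hgT : g ∈ T
  · rw [sbc_mem _ _ hgT, blockCoeff_eq_coef]
    have hn : (Q.subgroupOf T).Normal := (Subgroup.normal_subgroupOf_iff_le_normalizer hQT).mpr hTN
    have hp' : IsPGroup p (Q.subgroupOf T) := hQ.of_equiv (Subgroup.subgroupOfEquivOfLe hQT).symm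
    apply coef_indicator_eq_zero_of_not_mem_centralizer hM hn hp' hF
    intro h
    exact hg ((mem_centralizer_subgroupOf_iff hQT _).mp h)
  · exact sbc_not_mem _ _ hgT

end

end Cfsg.Agent.Lib.Helper24
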