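import Mathlib
import Cfsg.Prelude.Def_BlockRank
import Cfsg.Agent.Lib.Helper24.BlockUtil
import Cfsg.Agent.S0952

/-!
# The `p`-regular rank of a block as a trace
-/

set_option autoImplicit false
open Cfsg

namespace Cfsg.Agent.Lib.Helper24

open Cfsg.Agent.Lib.Helper2 Cfsg.Agent.Lib.Helper6
open scoped ComplexConjugate Classical

attribute [local instance] irrFintype

section

variable {G : Type*} [Group G]

theorem pRegularPart_apply (p : ℕ) (χ : G → ℂ) (g : G) :
    pRegularPart p χ g = if ¬ p ∣ orderOf g then χ g else 0 := by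
  unfold pRegularPart IsPRegular
  congr

theorem pRegularPart_of_reg {p : ℕ} (χ : G → ℂ) {g : G} (hg : ¬ p ∣ orderOf g) :
    pRegularPart p χ g = χ g := by
  rw [pRegularPart_apply, if_pos hg]

theorem pRegularPart_of_sing {p : ℕ} (χ : G → ℂ) {g : G} (hg : p ∣ orderOf g) :
    pRegularPart p χ g = 0 := by
  rw [pRegularPart_apply, if_neg (not_not.mpr hg)]

theorem pRegularPart_one {p : ℕ} (hp : p.Prime) (χ : G → ℂ) : pRegularPart p χ 1 = χ 1 := by
  apply pRegularPart_of_reg
  rw [orderOf_one]
  exact hp.one_lt.ne' ∘ Nat.dvd_one.mp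

/-- `pRegularPart` as a linear map. -/
noncomputable def regL (G : Type*) [Group G] (p : ℕ) : (G → ℂ) →ₗ[ℂ] (G → ℂ) where
  toFun χ := pRegularPart p χ
  map_add' a b := by
    funext g
    simp only [pRegularPart_apply, Pi.add_apply]
    split_ifs <;> simp
  map_smul' c a := by
    funext g
    simp only [pRegularPart_apply, Pi.smul_apply, RingHom.id_apply]
    split_ifs <;> simp

theorem regL_apply (p : ℕ) (χ : G → ℂ) : regL G p χ = pRegularPart p χ := rfl

theorem pRegularPart_idem (p : ℕ) (χ : G → ℂ) :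
    pRegularPart p (pRegularPart p χ) = pRegularPart p χ := by
  funext g
  simp only [pRegularPart_apply]
  split_ifs <;> rfl

theorem isClassFunction_pRegularPart (p : ℕ) {χ : G → ℂ} (hχ : IsClassFunction G χ) :
    IsClassFunction G (pRegularPart p χ) := by
  intro g h
  have : orderOf (h * g * h⁻¹) = orderOf g :=
    orderOf_injective (MulAut.conj h).toMonoidHom (MulAut.conj h).injective g
  simp only [pRegularPart_apply, this, hχ g h]

end

section

variable {G : Type*} [Group G] [Fintype G]

/-- `f ↦ ⟨f, χ⟩` as a linear form. -/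
noncomputable def innerL (χ : G → ℂ) : (G → ℂ) →ₗ[ℂ] ℂ where
  toFun f := classInner f χ
  map_add' a b := classInner_add_left a b χ
  map_smul' c a := classInner_smul_left c a χ

theorem innerL_apply (χ f : G → ℂ) : innerL χ f = classInner f χ := rfl

/-- The projection onto the span of the `p`-regular parts of the members of `B`. -/
noncomputable def blockProj (p : ℕ) (B : Set (IrrCharacter G)) : (G → ℂ) →ₗ[ℂ] (G → ℂ) :=
  ∑ χ ∈ Finset.univ.filter (· ∈ B), (innerL (χ : G → ℂ)).smulRight (pRegularPart p (χ : G → ℂ))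

theorem blockProj_apply (p : ℕ) (B : Set (IrrCharacter G)) (f : G → ℂ) :
    blockProj p B f = ∑ χ ∈ Finset.univ.filter (· ∈ B),
      classInner f (χ : G → ℂ) • pRegularPart p (χ : G → ℂ) := by
  simp [blockProj, LinearMap.sum_apply, innerL_apply]

theorem trace_blockProj (p : ℕ) (B : Set (IrrCharacter G)) :
    LinearMap.trace ℂ (G → ℂ) (blockProj p B) = ∑ χ ∈ Finset.univ.filter (· ∈ B),
      classInner (pRegularPart p (χ : G → ℂ)) (χ : G → ℂ) := by
  simp [blockProj, map_sum, innerL_apply]

theorem classInner_pRegularPart (p : ℕ) (ψ χ : G → ℂ) :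
    classInner (pRegularPart p ψ) χ =
      (Nat.card G : ℂ)⁻¹ * ∑ᶠ x ∈ {x : G | ¬ p ∣ orderOf x}, ψ x * conj (χ x) := by
  unfold classInner
  congr 1
  rw [finsum_mem_def, finsum_eq_sum_of_fintype]
  refine Finset.sum_congr rfl fun x _ => ?_
  by_cases hx : p ∣ orderOf x
  · rw [pRegularPart_of_sing _ hx, Set.indicator_of_notMem (by simpa using hx), zero_mul]
  · rw [pRegularPart_of_reg _ hx, Set.indicator_of_mem (by simpa using hx)]

variable {p : ℕ} [Fact p.Prime] {M : Ideal AlgInt}

theorem classInner_pRegularPart_eq_zero (hM : IsPModular p M) {B : Set (IrrCharacter G)}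
    (hB : IsPBlock M B) {ψ χ : IrrCharacter G} (hψ : ψ ∈ B) (hχ : χ ∉ B) :
    classInner (pRegularPart p (ψ : G → ℂ)) (χ : G → ℂ) = 0 := by
  have := IsPModular.isPrime hM
  rw [classInner_pRegularPart, Cfsg.Agent.S0952.result p M hM ψ χ, mul_zero]
  intro h
  apply hχ
  rw [IsPBlock.eq_blockOf hB hψ]
  exact h

theorem blockProj_pRegularPart (hM : IsPModular p M) {B : Set (IrrCharacter G)}
    (hB : IsPBlock M B) {ψ : IrrCharacter G} (hψ : ψ ∈ B) :
    blockProj p B (pRegularPart p (ψ : G → ℂ)) = pRegularPart p (ψ : G → ℂ) := by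
  have hcl := isClassFunction_pRegularPart p (irr_isClassFunction ψ.2)
  have h1 := classFunction_eq_sum hcl
  have h2 := congrArg (regL G p) h1
  rw [regL_apply, pRegularPart_idem, map_sum] at h2
  simp only [map_smul, regL_apply] at h2
  rw [blockProj_apply, Finset.sum_filter]
  conv_rhs => rw [h2]
  refine Finset.sum_congr rfl fun χ _ => ?_
  split_ifs with h
  · rfl
  · rw [classInner_pRegularPart_eq_zero hM hB hψ h, zero_smul]

theorem blockProj_isProj (hM : IsPModular p M) {B : Set (IrrCharacter G)} (hB : IsPBlock M B) :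
    LinearMap.IsProj
      (Submodule.span ℂ ((fun χ : IrrCharacter G => pRegularPart p (χ : G → ℂ)) '' B))
      (blockProj p B) := by
  constructor
  · intro f
    rw [blockProj_apply]
    refine Submodule.sum_mem _ fun χ hχ => Submodule.smul_mem _ _ (Submodule.subset_span ?_)
    exact ⟨χ, (Finset.mem_filter.mp hχ).2, rfl⟩
  · intro w hw
    have hle : Submodule.span ℂ ((fun χ : IrrCharacter G => pRegularPart p (χ : G → ℂ)) '' B) ≤
        LinearMap.eqLocus (blockProj p B) LinearMap.id := by
      rw [Submodule.span_le]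
      rintro _ ⟨ψ, hψ, rfl⟩
      exact blockProj_pRegularPart hM hB hψ
    exact hle hw

/-- The `p`-regular rank of a block is `∑_{χ ∈ B} ⟨χ°, χ⟩`. -/
theorem blockRank_eq_sum (hM : IsPModular p M) {B : Set (IrrCharacter G)} (hB : IsPBlock M B) :
    (blockRank p B : ℂ) = ∑ χ ∈ Finset.univ.filter (· ∈ B),
      classInner (pRegularPart p (χ : G → ℂ)) (χ : G → ℂ) := by
  rw [← trace_blockProj, (blockProj_isProj hM hB).trace]
  rfl

end

end Cfsg.Agent.Lib.Helper24
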