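import Cfsg.Agent.Lib.Helper24.BrauerPair

/-!
# Transport of characters and blocks along group isomorphisms; conjugation of subgroups
-/

set_option autoImplicit false

namespace Cfsg.Agent.Lib.Helper24

open Cfsg Cfsg.Agent.Lib.Helper2 Cfsg.Agent.Lib.Helper6
open scoped ComplexConjugate Classical

attribute [local instance] irrFintype

section transport

variable {H H' : Type*} [Group H] [Group H'] [Fintype H] [Fintype H'] {M : Ideal AlgInt}

theorem isIrrCharacter_comp_equiv {χ : H → ℂ} (hχ : IsIrrCharacter H χ) (α : H' ≃* H) :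
    IsIrrCharacter H' (χ ∘ α) := by
  apply isIrrCharacter_of_classInner_eq_one
    (IsCharacter.comp_hom α.toMonoidHom (IsIrrCharacter.isCharacter hχ))
  have h := classInner_irr hχ hχ
  rw [if_pos rfl] at h
  rw [← h, classInner, classInner, Nat.card_congr α.toEquiv]
  congr 1
  exact Fintype.sum_equiv α.toEquiv _ _ fun g => rfl

/-- transport of irreducible characters along an isomorphism -/
def irrMap (α : H' ≃* H) : IrrCharacter H ≃ IrrCharacter H' where
  toFun χ := ⟨(χ : H → ℂ) ∘ α, isIrrCharacter_comp_equiv χ.2 α⟩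
  invFun χ := ⟨(χ : H' → ℂ) ∘ α.symm, isIrrCharacter_comp_equiv χ.2 α.symm⟩
  left_inv χ := by
    apply Subtype.ext
    ext g
    simp
  right_inv χ := by
    apply Subtype.ext
    ext g
    simp

theorem irrMap_apply (α : H' ≃* H) (χ : IrrCharacter H) (g : H') :
    (irrMap α χ : H' → ℂ) g = (χ : H → ℂ) (α g) := rfl

theorem irrMap_coe (α : H' ≃* H) (χ : IrrCharacter H) :
    (irrMap α χ : H' → ℂ) = (χ : H → ℂ) ∘ α := rfl

omit [Fintype H] [Fintype H'] in
theorem index_centralizer_equiv (α : H' ≃* H) (g : H') :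
    (Subgroup.centralizer ({α g} : Set H)).index = (Subgroup.centralizer ({g} : Set H')).index := by
  have h1 : Subgroup.centralizer ({g} : Set H') =
      (Subgroup.centralizer ({α g} : Set H)).comap α.toMonoidHom := by
    ext x
    rw [Subgroup.mem_comap, Subgroup.mem_centralizer_singleton_iff,
      Subgroup.mem_centralizer_singleton_iff]
    constructor
    · intro h
      have := congrArg α h
      simpa using this
    · intro h
      apply α.injective
      simpa using h
  rw [h1, Subgroup.index_comap_of_surjective _ α.surjective]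

omit [Fintype H] [Fintype H'] in
theorem centralChar_comp (α : H' ≃* H) (χ : H → ℂ) (g : H') :
    centralChar (χ ∘ α) g = centralChar χ (α g) := by
  unfold centralChar
  rw [index_centralizer_equiv]
  simp

omit [Fintype H] [Fintype H'] in
theorem sameBlock_comp (α : H' ≃* H) {χ ψ : H → ℂ} :
    SameBlock M (χ ∘ α) (ψ ∘ α) ↔ SameBlock M χ ψ := by
  constructor
  · intro h g
    have := h (α.symm g)
    rwa [centralChar_comp, centralChar_comp, MulEquiv.apply_symm_apply] at this
  · intro h g
    rw [centralChar_comp, centralChar_comp]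
    exact h _

/-- transport of a set of irreducible characters -/
def blockMap (α : H' ≃* H) (b : Set (IrrCharacter H)) : Set (IrrCharacter H') := irrMap α '' b

theorem mem_blockMap (α : H' ≃* H) (b : Set (IrrCharacter H)) (χ : IrrCharacter H) :
    irrMap α χ ∈ blockMap α b ↔ χ ∈ b :=
  (irrMap α).injective.mem_set_image

theorem blockMap_blockOf (α : H' ≃* H) (χ : H → ℂ) :
    blockMap α (blockOf M χ) = blockOf M (χ ∘ α) := by
  ext ψ
  obtain ⟨ψ, rfl⟩ := (irrMap α).surjective ψ
  rw [mem_blockMap]
  exact (sameBlock_comp α).symm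

theorem isPBlock_blockMap (α : H' ≃* H) {b : Set (IrrCharacter H)} (hb : IsPBlock M b) :
    IsPBlock M (blockMap α b) := by
  obtain ⟨χ, rfl⟩ := hb
  exact ⟨irrMap α χ, blockMap_blockOf α _⟩

theorem blockCoeff_blockMap (α : H' ≃* H) (b : Set (IrrCharacter H)) (g : H') :
    blockCoeff (blockMap α b) g = blockCoeff b (α g) := by
  rw [blockCoeff_eq_coef, blockCoeff_eq_coef, coef_apply, coef_apply, Nat.card_congr α.toEquiv]
  congr 1
  symm
  refine Fintype.sum_equiv (irrMap α) _ _ fun χ => ?_
  have h1 : (blockMap α b).indicator (1 : IrrCharacter H' → ℂ) (irrMap α χ) =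
      b.indicator (1 : IrrCharacter H → ℂ) χ := by
    by_cases hχ : χ ∈ b
    · rw [Set.indicator_of_mem hχ, Set.indicator_of_mem ((mem_blockMap α b χ).mpr hχ)]
      rfl
    · rw [Set.indicator_of_notMem hχ,
        Set.indicator_of_notMem (fun h => hχ ((mem_blockMap α b χ).mp h))]
  rw [h1, irrMap_apply, irrMap_apply, map_one]

theorem blockMap_principalBlock (α : H' ≃* H) :
    blockMap α (principalBlock M H) = principalBlock M H' := by
  unfold principalBlock
  rw [blockMap_blockOf]
  rfl

end transport

section sbc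

variable {G : Type*} [Group G] [Fintype G] {M : Ideal AlgInt}

theorem sbc_eq_ext (K : Subgroup G) (e : Set (IrrCharacter K)) :
    subgroupBlockCoeff K e = extendByZero K (coef (e.indicator 1)) := by
  ext g
  unfold subgroupBlockCoeff
  by_cases hg : g ∈ K
  · rw [dif_pos hg, extendByZero_mem K _ hg, blockCoeff_eq_coef]
  · rw [dif_neg hg, extendByZero_not_mem K _ hg]

omit [Fintype G] in
theorem sbc_mem (K : Subgroup G) (e : Set (IrrCharacter K)) {g : G} (hg : g ∈ K) :
    subgroupBlockCoeff K e g = blockCoeff e ⟨g, hg⟩ := by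
  unfold subgroupBlockCoeff
  rw [dif_pos hg]

omit [Fintype G] in
theorem sbc_coe (K : Subgroup G) (e : Set (IrrCharacter K)) (k : K) :
    subgroupBlockCoeff K e k = blockCoeff e k := sbc_mem K e k.2

omit [Fintype G] in
theorem sbc_not_mem (K : Subgroup G) (e : Set (IrrCharacter K)) {g : G} (hg : g ∉ K) :
    subgroupBlockCoeff K e g = 0 := by
  unfold subgroupBlockCoeff
  rw [dif_neg hg]

theorem indicator_one_injective {ι : Type*} {A A' : Set ι}
    (h : A.indicator (1 : ι → ℂ) = A'.indicator 1) : A = A' := by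
  ext x
  have := congrFun h x
  by_cases hx : x ∈ A <;> by_cases hx' : x ∈ A'
  · exact ⟨fun _ => hx', fun _ => hx⟩
  · rw [Set.indicator_of_mem hx, Set.indicator_of_notMem hx'] at this
    exact absurd this one_ne_zero
  · rw [Set.indicator_of_notMem hx, Set.indicator_of_mem hx'] at this
    exact absurd this.symm one_ne_zero
  · exact ⟨fun h => absurd h hx, fun h => absurd h hx'⟩

theorem sbc_injective (K : Subgroup G) {e e' : Set (IrrCharacter K)}
    (h : subgroupBlockCoeff K e = subgroupBlockCoeff K e') : e = e' := by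
  apply indicator_one_injective
  apply coef_injective
  ext k
  have := congrFun h k
  rwa [sbc_coe, sbc_coe, blockCoeff_eq_coef, blockCoeff_eq_coef] at this

theorem sbc_idem (K : Subgroup G) (e : Set (IrrCharacter K)) :
    conv (subgroupBlockCoeff K e) (subgroupBlockCoeff K e) = subgroupBlockCoeff K e := by
  rw [sbc_eq_ext, ← ext_conv, coef_indicator_idem]

theorem sbc_conv (K : Subgroup G) (e e' : Set (IrrCharacter K)) :
    conv (subgroupBlockCoeff K e) (subgroupBlockCoeff K e') = subgroupBlockCoeff K (e ∩ e') := by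
  rw [sbc_eq_ext, sbc_eq_ext, sbc_eq_ext, ← ext_conv, ← coef_mul]
  congr 2
  ext χ
  rw [Pi.mul_apply]
  by_cases h : χ ∈ e
  · by_cases h' : χ ∈ e'
    · have h2 : χ ∈ e ∩ e' := ⟨h, h'⟩
      rw [Set.indicator_of_mem h, Set.indicator_of_mem h', Set.indicator_of_mem h2]
      simp
    · have h2 : χ ∉ e ∩ e' := fun hc => h' hc.2
      rw [Set.indicator_of_notMem h', Set.indicator_of_notMem h2, mul_zero]
  · have h2 : χ ∉ e ∩ e' := fun hc => h hc.1
    rw [Set.indicator_of_notMem h, Set.indicator_of_notMem h2, zero_mul]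

theorem sbc_empty (K : Subgroup G) : subgroupBlockCoeff K (∅ : Set (IrrCharacter K)) = 0 := by
  rw [sbc_eq_ext]
  ext g
  by_cases hg : g ∈ K
  · rw [extendByZero_mem K _ hg, Set.indicator_empty]
    exact congrFun coef_zero _
  · rw [extendByZero_not_mem K _ hg]
    rfl

theorem sbc_memLocalRing [M.IsPrime] (K : Subgroup G) {e : Set (IrrCharacter K)}
    (he : IsPBlock M e) (g : G) : MemLocalRing M (subgroupBlockCoeff K e g) := by
  rw [sbc_eq_ext]
  exact memLocalRing_ext K (IsPBlock.indicator_mem_ZS he) g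

theorem sbc_conj_mem (K : Subgroup G) (e : Set (IrrCharacter K)) {k : G} (hk : k ∈ K) (g : G) :
    subgroupBlockCoeff K e (k * g * k⁻¹) = subgroupBlockCoeff K e g := by
  rw [sbc_eq_ext]
  exact ext_conj_inv K (isClassFunction_coef _) ⟨k, hk⟩ g

/-- the block idempotents of `K` sum to one -/
theorem sum_sbc_blocks [M.IsPrime] (K : Subgroup G) :
    ∑ e : {e : Set (IrrCharacter K) // IsPBlock M e}, subgroupBlockCoeff K e.1 = delta := by
  have h1 := sum_indicator_blocks (G := K) (M := M)
  have h2 : ∀ e : Set (IrrCharacter K),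
      e ∈ Finset.univ.image (fun χ : IrrCharacter K => blockOf M (χ : K → ℂ)) ↔ IsPBlock M e := by
    intro e
    rw [Finset.mem_image]
    constructor
    · rintro ⟨χ, -, rfl⟩
      exact ⟨χ, rfl⟩
    · rintro ⟨χ, rfl⟩
      exact ⟨χ, Finset.mem_univ _, rfl⟩
  rw [Finset.sum_subtype _ h2] at h1
  have h3 := congrArg (fun a => extendByZero K (coef a)) h1
  simp only [coef_sum, coef_one', ext_delta] at h3
  rw [← h3]
  ext g
  rw [Finset.sum_apply]
  by_cases hg : g ∈ K
  · rw [extendByZero_mem K _ hg, Finset.sum_apply]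
    refine Finset.sum_congr rfl fun e _ => ?_
    rw [sbc_mem K _ hg, blockCoeff_eq_coef]
  · rw [extendByZero_not_mem K _ hg]
    exact Finset.sum_eq_zero fun e _ => sbc_not_mem K _ hg

end sbc

end Cfsg.Agent.Lib.Helper24
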