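import Cfsg.Agent.Lib.Helper24.BrauerPair4

/-!
# Conjugation of Brauer pairs
-/

set_option autoImplicit false

namespace Cfsg.Agent.Lib.Helper24

open Cfsg Cfsg.Agent.Lib.Helper2 Cfsg.Agent.Lib.Helper6
open scoped ComplexConjugate Classical

attribute [local instance] irrFintype

section

variable {G : Type*} [Group G] [Fintype G] {M : Ideal AlgInt} {p : ℕ}

theorem brauerOmega_conj {x : G} {P P' : Subgroup G} (h : IsConjSub x P P') (β : G → ℂ)
    (ξ : cz P → ℂ) :
    brauerOmega P' (cjF x β) (ξ ∘ conjIso h.centralizer) = brauerOmega P β ξ := by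
  rw [brauerOmega_eq_om, brauerOmega_eq_om, om, om]
  congr 1
  · exact Fintype.sum_equiv (conjIso h.centralizer).toEquiv _ _ fun c => rfl
  · simp

theorem isBrauerPair_conj {x : G} {P P' : Subgroup G} (h : IsConjSub x P P')
    {e : Set (IrrCharacter (cz P))} (he : IsBrauerPair p M P e) :
    IsBrauerPair p M P' (conjSet h.centralizer e) :=
  ⟨h.isPGroup he.1, isPBlock_conjSet _ he.2⟩

theorem isBrauerPairOf_conj {x : G} {P P' : Subgroup G} (h : IsConjSub x P P')
    {e : Set (IrrCharacter (cz P))} {B : Set (IrrCharacter G)} (he : IsBrauerPairOf p M B P e) :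
    IsBrauerPairOf p M B P' (conjSet h.centralizer e) := by
  refine ⟨isBrauerPair_conj h he.1, he.2.1, ?_⟩
  rintro _ ⟨ξ, hξ, rfl⟩
  have h1 := brauerOmega_conj h (blockCoeff B) (ξ : cz P → ℂ)
  rw [blockCoeff_fun, cjF_of_class (isClassFunction_coef _), ← blockCoeff_fun] at h1
  rw [irrMap_coe, h1]
  exact he.2.2 ξ hξ

theorem stabilizesBlock_conj {x y : G} {K K' : Subgroup G} (h : IsConjSub x K K')
    {e : Set (IrrCharacter K)} (hy : StabilizesBlock K e (x⁻¹ * y * x)) :
    StabilizesBlock K' (conjSet h e) y := by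
  rw [stabilizesBlock_iff] at hy ⊢
  refine ⟨(h.normalizer y).mpr hy.1, ?_⟩
  rw [sbc_conjSet, ← cjF_mul]
  have h1 : y * x = x * (x⁻¹ * y * x) := by group
  rw [h1, cjF_mul, hy.2]

theorem normalSubpair_conj {x : G} {P P' Q Q' : Subgroup G} (hP : IsConjSub x P P')
    (hQ : IsConjSub x Q Q') {e : Set (IrrCharacter (cz P))} {f : Set (IrrCharacter (cz Q))}
    (h : IsNormalSubpair p M Q f P e) :
    IsNormalSubpair p M Q' (conjSet hQ.centralizer f) P' (conjSet hP.centralizer e) := by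
  refine ⟨isBrauerPair_conj hQ h.1, isBrauerPair_conj hP h.2.1, hQ.mono hP h.2.2.1,
    hP.mono hQ.normalizer h.2.2.2.1, fun y hy => ?_, ?_⟩
  · exact stabilizesBlock_conj hQ.centralizer (h.2.2.2.2.1 _ ((hP y).mp hy))
  · rintro _ ⟨ξ, hξ, rfl⟩
    rw [sbc_conjSet, irrMap_coe, brauerOmega_conj hP]
    exact h.2.2.2.2.2 ξ hξ

/-- conjugation on the index type of Brauer pairs -/
noncomputable def cjIdx (x : G) (a : BrauerPairIdx G) : BrauerPairIdx G :=
  ⟨a.1.map (MulAut.conj x).toMonoidHom, conjBlock a.1 x a.2⟩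

theorem rel_cjIdx (x : G) {a b : BrauerPairIdx G} (h : NormalSubpairRel p M a b) :
    NormalSubpairRel p M (cjIdx x a) (cjIdx x b) := by
  unfold NormalSubpairRel cjIdx
  simp only [conjBlock_eq_conjSet]
  exact normalSubpair_conj (isConjSub_map x b.1) (isConjSub_map x a.1) h

theorem PLE_cjIdx (x : G) {a b : BrauerPairIdx G} (h : PLE p M a b) :
    PLE p M (cjIdx x a) (cjIdx x b) :=
  Relation.ReflTransGen.lift (cjIdx x) (fun _ _ h => rel_cjIdx x h) _ _ h

theorem cjIdx_eq {x : G} {a : BrauerPairIdx G} {P' : Subgroup G} (h : IsConjSub x a.1 P')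
    {e' : Set (IrrCharacter (cz P'))}
    (he : subgroupBlockCoeff (cz P') e' = cjF x (subgroupBlockCoeff (cz a.1) a.2)) :
    cjIdx x a = ⟨P', e'⟩ := by
  apply brauerPairIdx_ext h.eq_map.symm
  rw [sbc_conjBlock, he]

theorem cjIdx_mul (x y : G) (a : BrauerPairIdx G) : cjIdx (x * y) a = cjIdx x (cjIdx y a) := by
  apply cjIdx_eq ((isConjSub_map y a.1).mul (isConjSub_map x _))
  unfold cjIdx
  rw [sbc_conjBlock, sbc_conjBlock, cjF_mul]

theorem isBrauerPairOf_cjIdx (x : G) {a : BrauerPairIdx G} {B : Set (IrrCharacter G)}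
    (h : IsBrauerPairOf p M B a.1 a.2) : IsBrauerPairOf p M B (cjIdx x a).1 (cjIdx x a).2 := by
  unfold cjIdx
  simp only [conjBlock_eq_conjSet]
  exact isBrauerPairOf_conj (isConjSub_map x a.1) h

end

end Cfsg.Agent.Lib.Helper24
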