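import Cfsg.Agent.Lib.Helper24.SubPair

/-!
# The Brauer correspondence over a subgroup containing `N_G(P)`
-/

set_option autoImplicit false

namespace Cfsg.Agent.Lib.Helper24

open Cfsg Cfsg.Agent.Lib.Helper2 Cfsg.Agent.Lib.Helper6
open scoped ComplexConjugate Classical

attribute [local instance] irrFintype

section idem

variable {G : Type*} [Group G] [Fintype G] {M : Ideal AlgInt} {p : ℕ}

/-- vectors whose group-algebra coefficients all lie in the local ideal -/
def IZ (M : Ideal AlgInt) (a : IrrCharacter G → ℂ) : Prop := ∀ g, MemLocalIdeal M (coef a g)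

theorem IZ.add [M.IsPrime] {a b : IrrCharacter G → ℂ} (ha : IZ M a) (hb : IZ M b) :
    IZ M (a + b) := by
  intro g
  rw [coef_add]
  exact MemLocalIdeal.add (ha g) (hb g)

theorem IZ.sub [M.IsPrime] {a b : IrrCharacter G → ℂ} (ha : IZ M a) (hb : IZ M b) :
    IZ M (a - b) := by
  intro g
  rw [coef_sub]
  exact MemLocalIdeal.sub (ha g) (hb g)

theorem IZ.mul_right [M.IsPrime] {a b : IrrCharacter G → ℂ} (ha : IZ M a) (hb : b ∈ ZS M G) :
    IZ M (a * b) := by
  intro g
  rw [coef_mul, conv_apply]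
  exact MemLocalIdeal.sum _ fun y _ => MemLocalIdeal.mul_right (ha y) (hb _)

theorem IZ.mul_left [M.IsPrime] {a b : IrrCharacter G → ℂ} (ha : a ∈ ZS M G) (hb : IZ M b) :
    IZ M (a * b) := by
  rw [mul_comm]
  exact hb.mul_right ha

theorem IZ.apply [M.IsPrime] {a : IrrCharacter G → ℂ} (ha : IZ M a) (ξ : IrrCharacter G) :
    MemLocalIdeal M (a ξ) := by
  rw [← om_coef a ξ]
  exact om_memLocalIdeal ξ.2 (isClassFunction_coef a) ha

theorem IZ_of_idem (hM : IsPModular p M) {a : IrrCharacter G → ℂ}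
    (ha : haveI := IsPModular.isPrime hM; a ∈ ZS M G)
    (hi : IZ M (a * a - a)) (h0 : ∀ ξ, MemLocalIdeal M (a ξ)) : IZ M a := by
  have := IsPModular.isPrime hM
  intro g
  by_contra hg
  obtain ⟨ξ, hξ⟩ := exists_om_not_memLocalIdeal hM (isClassFunction_coef a) ha (by
    intro x
    have := hi x
    rwa [coef_sub, coef_mul] at this) hg
  rw [om_coef] at hξ
  exact hξ (h0 ξ)

theorem IZ_sub_mul_of_idem (hM : IsPModular p M) {a b : IrrCharacter G → ℂ}
    (ha : haveI := IsPModular.isPrime hM; a ∈ ZS M G)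
    (hb : haveI := IsPModular.isPrime hM; b ∈ ZS M G)
    (hia : IZ M (a * a - a)) (hib : IZ M (b * b - b))
    (h0 : ∀ ξ, MemLocalIdeal M (a ξ - b ξ)) : IZ M (a - a * b) := by
  have := IsPModular.isPrime hM
  apply IZ_of_idem hM (Subring.sub_mem _ ha (Subring.mul_mem _ ha hb))
  · have h1 : (a - a * b) * (a - a * b) - (a - a * b) =
        (a * a - a) - (a * a - a) * b + (a * a - a) * (b * b - b) + a * (b * b - b) := by ring
    rw [h1]
    exact (((hia.sub (hia.mul_right hb)).add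
      (hia.mul_right (Subring.sub_mem _ (Subring.mul_mem _ hb hb) hb))).add (hib.mul_left ha))
  · intro ξ
    have h1 := hia.apply ξ
    have h2 := MemLocalIdeal.mul_left (ZS_apply_mem ha ξ) (h0 ξ)
    have h3 := MemLocalIdeal.sub h2 h1
    convert h3 using 1
    simp only [Pi.sub_apply, Pi.mul_apply]
    ring

theorem IZ_sub_of_idem (hM : IsPModular p M) {a b : IrrCharacter G → ℂ}
    (ha : haveI := IsPModular.isPrime hM; a ∈ ZS M G)
    (hb : haveI := IsPModular.isPrime hM; b ∈ ZS M G)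
    (hia : IZ M (a * a - a)) (hib : IZ M (b * b - b))
    (h0 : ∀ ξ, MemLocalIdeal M (a ξ - b ξ)) : IZ M (a - b) := by
  have := IsPModular.isPrime hM
  have h1 := IZ_sub_mul_of_idem hM ha hb hia hib h0
  have h2 := IZ_sub_mul_of_idem hM hb ha hib hia (fun ξ => by
    have := MemLocalIdeal.neg (h0 ξ)
    rwa [neg_sub] at this)
  have h3 := h1.sub h2
  have h4 : a - a * b - (b - b * a) = a - b := by ring
  rwa [h4] at h3

/-- Class functions with local integer values that are idempotent modulo the local ideal and have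
congruent central character values are congruent. -/
theorem congr_of_om_congr (hM : IsPModular p M) {f₁ f₂ : G → ℂ} (c₁ : IsClassFunction G f₁)
    (c₂ : IsClassFunction G f₂) (s₁ : ∀ x, MemLocalRing M (f₁ x))
    (s₂ : ∀ x, MemLocalRing M (f₂ x)) (i₁ : ∀ x, MemLocalIdeal M (conv f₁ f₁ x - f₁ x))
    (i₂ : ∀ x, MemLocalIdeal M (conv f₂ f₂ x - f₂ x))
    (hom : ∀ ξ : IrrCharacter G, MemLocalIdeal M (om (ξ : G → ℂ) f₁ - om (ξ : G → ℂ) f₂))
    (x : G) : MemLocalIdeal M (f₁ x - f₂ x) := by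
  have := IsPModular.isPrime hM
  have e₁ := eq_coef_om c₁
  have e₂ := eq_coef_om c₂
  have h := IZ_sub_of_idem hM (om_mem_ZS c₁ s₁) (om_mem_ZS c₂ s₂) (by
      intro y
      rw [coef_sub, coef_mul, ← e₁]
      exact i₁ y) (by
      intro y
      rw [coef_sub, coef_mul, ← e₂]
      exact i₂ y) hom x
  rwa [coef_sub, ← e₁, ← e₂] at h

end idem

section functional

variable {G : Type*} [Group G] [Fintype G] {M : Ideal AlgInt} {p : ℕ}

/-- Two idempotents in the domain of the Brauer functional at `P` with the same Brauer functional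
values have congruent truncations to `C_G(P)`. -/
theorem congr_of_brauerOmega_congr (hM : IsPModular p M) {P : Subgroup G} (hP : IsPGroup p P)
    {β β' : G → ℂ} (h : Dom M P β) (h' : Dom M P β') (hi : conv β β = β) (hi' : conv β' β' = β')
    (hom : ∀ ξ : IrrCharacter (cz P),
      MemLocalIdeal M (brauerOmega P β (ξ : cz P → ℂ) - brauerOmega P β' (ξ : cz P → ℂ)))
    {x : G} (hx : x ∈ cz P) : MemLocalIdeal M (β x - β' x) := by
  have := IsPModular.isPrime hM
  have key := congr_of_om_congr hM h.isClassFunction_resC h'.isClassFunction_resC h.mem_resC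
    h'.mem_resC (by
      intro y
      have h1 := MemLocalIdeal.neg (resC_conv hM hP h h y)
      rwa [neg_sub, hi] at h1) (by
      intro y
      have h1 := MemLocalIdeal.neg (resC_conv hM hP h' h' y)
      rwa [neg_sub, hi'] at h1) (by
      intro ξ
      rw [← brauerOmega_eq_om, ← brauerOmega_eq_om]
      exact hom ξ) ⟨x, hx⟩
  exact key

/-- occurrence of a block of `C_G(P)` in the truncation of `β` -/
def Occ (M : Ideal AlgInt) (P : Subgroup G) (β : G → ℂ) (e : Set (IrrCharacter (cz P))) : Prop :=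
  ∀ ξ ∈ e, MemLocalIdeal M (brauerOmega P β (ξ : cz P → ℂ) - 1)

theorem occ_blockOf [M.IsPrime] {P : Subgroup G} {β : G → ℂ} (h : Dom M P β)
    {ξ : IrrCharacter (cz P)} (hξ : MemLocalIdeal M (brauerOmega P β (ξ : cz P → ℂ) - 1)) :
    Occ M P β (blockOf M (ξ : cz P → ℂ)) := by
  intro η hη
  have h1 := brauerOmega_sameBlock h ξ.2 η.2 hη
  have h2 := MemLocalIdeal.sub hξ h1
  convert h2 using 1
  ring

theorem congr_of_occ_iff (hM : IsPModular p M) {P : Subgroup G} (hP : IsPGroup p P)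
    {β β' : G → ℂ} (h : Dom M P β) (h' : Dom M P β') (hi : conv β β = β) (hi' : conv β' β' = β')
    (hocc : ∀ e : Set (IrrCharacter (cz P)), IsPBlock M e → (Occ M P β e ↔ Occ M P β' e))
    {x : G} (hx : x ∈ cz P) : MemLocalIdeal M (β x - β' x) := by
  have := IsPModular.isPrime hM
  apply congr_of_brauerOmega_congr hM hP h h' hi hi' _ hx
  intro ξ
  have hb : IsPBlock M (blockOf M (ξ : cz P → ℂ)) := ⟨ξ, rfl⟩
  rcases brauerOmega_idem hM hP h hi ξ.2 with h0 | h1
  · rcases brauerOmega_idem hM hP h' hi' ξ.2 with h0' | h1'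
    · exact MemLocalIdeal.sub h0 h0'
    · have h2 := (hocc _ hb).mpr (occ_blockOf h' h1') ξ (mem_blockOf_self ξ)
      have h3 := MemLocalIdeal.sub h2 h1'
      convert h3 using 1
      ring
  · have h2 := (hocc _ hb).mp (occ_blockOf h h1) ξ (mem_blockOf_self ξ)
    have h3 := MemLocalIdeal.sub h1 h2
    convert h3 using 1
    ring

theorem occ_iff_of_congr [M.IsPrime] {P : Subgroup G}
    {β β' : G → ℂ} (h : Dom M P β) (h' : Dom M P β')
    (hc : ∀ x ∈ cz P, MemLocalIdeal M (β x - β' x)) (e : Set (IrrCharacter (cz P))) :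
    Occ M P β e ↔ Occ M P β' e := by
  have key : ∀ ξ : IrrCharacter (cz P),
      MemLocalIdeal M (brauerOmega P β (ξ : cz P → ℂ) - brauerOmega P β' (ξ : cz P → ℂ)) := by
    intro ξ
    rw [← brauerOmega_sub]
    exact brauerOmega_memLocalIdeal (h.sub h') hc ξ.2
  constructor
  · intro h1 ξ hξ
    have h3 := MemLocalIdeal.sub (h1 ξ hξ) (key ξ)
    convert h3 using 1
    ring
  · intro h1 ξ hξ
    have h3 := MemLocalIdeal.add (h1 ξ hξ) (key ξ)
    convert h3 using 1
    ring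

theorem dom_sbc_of_le [M.IsPrime] {P H : Subgroup G} (hPH : P ≤ H) (hCH : cz P ≤ H)
    {c : Set (IrrCharacter H)} (hc : IsPBlock M c) : Dom M P (subgroupBlockCoeff H c) :=
  ⟨sbc_memLocalRing _ hc, fun _ hu g => sbc_conj_mem _ _ (hPH hu) g,
    fun _ hu g => sbc_conj_mem _ _ (hCH hu) g⟩

end functional

section pairs

variable {G : Type*} [Group G] [Fintype G] {M : Ideal AlgInt} {p : ℕ}

omit [Fintype G] in
theorem isBrauerPairOf_iff_occ {B : Set (IrrCharacter G)} {P : Subgroup G}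
    {e : Set (IrrCharacter (cz P))} :
    IsBrauerPairOf p M B P e ↔ IsBrauerPair p M P e ∧ IsPBlock M B ∧ Occ M P (blockCoeff B) e :=
  Iff.rfl

/-- a defect group carries a Brauer pair of its block -/
theorem exists_pair_of_defectGroup (hM : IsPModular p M) {B : Set (IrrCharacter G)}
    (hB : IsPBlock M B) {P : Subgroup G} (hD : IsDefectGroup p M B P) :
    ∃ e : Set (IrrCharacter (cz P)), IsBrauerPairOf p M B P e := by
  have := IsPModular.isPrime hM
  obtain ⟨g, hg, hS⟩ := isDefectGroup_iff.mp hD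
  have hP : IsPGroup p P := hS.isPGroup
  have hgP : g ∈ cz P := le_cen_iff.mp hS.le
  obtain ⟨ζ, hζ⟩ := exists_brauerOmega_eq_one hM hP (dom_blockCoeff P hB)
    (by rw [blockCoeff_fun]; exact coef_indicator_idem B) hgP hg.2.1
  exact ⟨blockOf M (ζ : cz P → ℂ), ⟨hP, ⟨ζ, rfl⟩⟩, hB, occ_blockOf (dom_blockCoeff P hB) hζ⟩

/-- the Brauer pairs of `B` on a defect group, in index form -/
theorem exists_cjIdx_eq_of_defectGroup (hM : IsPModular p M) {B : Set (IrrCharacter G)}
    {a b : BrauerPairIdx G} (hD : IsDefectGroup p M B a.1) (hab : b.1 = a.1)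
    (ha : IsBrauerPairOf p M B a.1 a.2) (hb : IsBrauerPairOf p M B b.1 b.2) :
    ∃ n ∈ nor a.1, b = cjIdx n a := by
  obtain ⟨P, e⟩ := a
  obtain ⟨P₂, e₂⟩ := b
  simp only at hab hD ha hb
  subst hab
  obtain ⟨n, hn, hc, he⟩ := pairs_on_defectGroup_conj hM hD ha hb
  refine ⟨n, hn, (cjIdx_eq (a := ⟨P₂, e⟩) (P' := P₂) (e' := e₂)
    (isConjSub_of_mem_normalizer hn) ?_).symm⟩
  rw [he, sbc_conjSet]

end pairs

section corr

variable {G : Type*} [Group G] [Fintype G] {H : Subgroup G} {M : Ideal AlgInt} {p : ℕ}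

theorem pairs_agree (hM : IsPModular p M) {B : Set (IrrCharacter G)} {c : Set (IrrCharacter H)}
    {a₀' : BrauerPairIdx H} {a₀ : BrauerPairIdx G} (h₀ : PairCopy a₀' a₀) (hH : nor a₀.1 ≤ H)
    (hDB : IsDefectGroup p M B a₀.1) (hDc : IsDefectGroup p M c a₀'.1)
    (hB₀ : IsBrauerPairOf p M B a₀.1 a₀.2) (hc₀ : IsBrauerPairOf p M c a₀'.1 a₀'.2)
    {a' : BrauerPairIdx H} {a : BrauerPairIdx G} (h : PairCopy a' a) (hP : a.1 = a₀.1) :
    IsBrauerPairOf p M B a.1 a.2 ↔ IsBrauerPairOf p M c a'.1 a'.2 := by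
  constructor
  · intro ha
    obtain ⟨n, hn, rfl⟩ := exists_cjIdx_eq_of_defectGroup hM hDB hP hB₀ ha
    have h1 := h₀.conj ⟨n, hH hn⟩
    rw [h.unique_down h1]
    exact isBrauerPairOf_cjIdx _ hc₀
  · intro ha
    have hP' : a'.1 = a₀'.1 := by
      rw [h.1.eq_subgroupOf, h₀.1.eq_subgroupOf, hP]
    obtain ⟨n, hn, rfl⟩ := exists_cjIdx_eq_of_defectGroup hM hDc hP' hc₀ ha
    have h1 := h₀.conj n
    rw [h.unique h1]
    exact isBrauerPairOf_cjIdx _ hB₀

theorem congr_iff_pairs (hM : IsPModular p M) {P : Subgroup G} (hP : IsPGroup p P) (hPH : P ≤ H)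
    (hCH : cz P ≤ H) {B : Set (IrrCharacter G)} (hB : IsPBlock M B) {c : Set (IrrCharacter H)}
    (hc : IsPBlock M c) :
    (∀ x ∈ cz P, MemLocalIdeal M (blockCoeff B x - subgroupBlockCoeff H c x)) ↔
      ∀ (a' : BrauerPairIdx H) (a : BrauerPairIdx G), PairCopy a' a → a.1 = P →
        (IsBrauerPairOf p M B a.1 a.2 ↔ IsBrauerPairOf p M c a'.1 a'.2) := by
  have := IsPModular.isPrime hM
  constructor
  · rintro h a' ⟨P₁, e⟩ ha rfl
    rw [ha.isBrauerPairOf_iff c, isBrauerPairOf_iff_occ]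
    have h1 := occ_iff_of_congr (dom_blockCoeff P₁ hB) (dom_sbc_of_le hPH hCH hc) h e
    constructor
    · rintro ⟨h2, -, h3⟩
      exact ⟨h2, hc, h1.mp h3⟩
    · rintro ⟨h2, -, h3⟩
      exact ⟨h2, hB, h1.mpr h3⟩
  · intro h x hx
    apply congr_of_occ_iff hM hP (dom_blockCoeff P hB) (dom_sbc_of_le hPH hCH hc)
      (by rw [blockCoeff_fun]; exact coef_indicator_idem B) (sbc_idem H c) _ hx
    intro e he
    obtain ⟨a', ha'⟩ := exists_pairCopy_down (H := H) ⟨P, e⟩ hPH hCH
    have h1 := h a' ⟨P, e⟩ ha' rfl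
    rw [ha'.isBrauerPairOf_iff c, isBrauerPairOf_iff_occ] at h1
    constructor
    · intro h3
      exact (h1.mp ⟨⟨hP, he⟩, hB, h3⟩).2.2
    · intro h3
      exact (h1.mpr ⟨⟨hP, he⟩, hc, h3⟩).2.2

theorem isMaximalBrauerPair_down (hM : IsPModular p M) {B : Set (IrrCharacter G)}
    {c : Set (IrrCharacter H)} {a' : BrauerPairIdx H} {a : BrauerPairIdx G} (h : PairCopy a' a)
    (hmax : IsMaximalBrauerPair p M B a.1 a.2) (hc : IsBrauerPairOf p M c a'.1 a'.2) :
    IsMaximalBrauerPair p M c a'.1 a'.2 := by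
  refine ⟨hc, fun R' g' _ hle => ?_⟩
  have h1 : a'.1 ≤ R' := PLE.le hle
  have h2 : cz (R'.map H.subtype) ≤ H :=
    (cz_anti ((h.1.le_iff (isCopy_map R')).mp h1)).trans h.2.1
  obtain ⟨b, hb⟩ := exists_pairCopy_up ⟨R', g'⟩ h2
  have h3 : PLE p M a b := PairCopy.PLE_up hle h hb
  have h4 := hmax.2 b.1 b.2 ((h3.isBrauerPairOf_iff hM hmax.1.2.1).mpr hmax.1) h3
  have h5 := hb.1.eq_subgroupOf
  rw [h4, ← h.1.eq_subgroupOf] at h5
  exact h5

theorem isMaximalBrauerPair_up (hM : IsPModular p M) {B : Set (IrrCharacter G)}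
    {c : Set (IrrCharacter H)} {a' : BrauerPairIdx H} {a : BrauerPairIdx G} (h : PairCopy a' a)
    (hH : nor a.1 ≤ H)
    (hmax : IsMaximalBrauerPair p M c a'.1 a'.2) (hB : IsBrauerPairOf p M B a.1 a.2) :
    IsMaximalBrauerPair p M B a.1 a.2 := by
  have := IsPModular.isPrime hM
  refine ⟨hB, fun R g _ hle => ?_⟩
  by_contra hne
  obtain ⟨b, hab, hlt, -⟩ := PLE.exists_proper_step (a := a) (b := ⟨R, g⟩) hle (fun h => hne h.symm)
  obtain ⟨b', hb'⟩ := exists_pairCopy_down (H := H) b (hab.2.2.2.1.trans hH)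
    ((cz_anti hlt.le).trans h.2.1)
  have h1 : NormalSubpairRel p M a' b' := (h.rel_iff hb').mp hab
  have h2 : PLE p M a' b' := Relation.ReflTransGen.single h1
  have h3 := hmax.2 b'.1 b'.2 ((h2.isBrauerPairOf_iff hM hmax.1.2.1).mpr hmax.1) h2
  have h4 : IsCopy a'.1 b.1 := h3 ▸ hb'.1
  exact hlt.ne (h.1.unique h4)

end corr

end Cfsg.Agent.Lib.Helper24
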