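import Cfsg.Agent.Lib.Helper24.BrauerMax3

/-!
# Brauer pairs and the local blocks: centralizers
-/

set_option autoImplicit false

namespace Cfsg.Agent.Lib.Helper24

open Cfsg Cfsg.Agent.Lib.Helper2 Cfsg.Agent.Lib.Helper6
open scoped ComplexConjugate Classical

attribute [local instance] irrFintype

section

variable {G : Type*} [Group G] [Fintype G] {M : Ideal AlgInt} {p : ℕ}

/-- the stabilizer of a set of irreducible characters of `K` -/
def stabSub (K : Subgroup G) (e : Set (IrrCharacter K)) : Subgroup G where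
  carrier := {x | StabilizesBlock K e x}
  mul_mem' := by
    intro x y hx hy
    simp only [Set.mem_ofPred_eq, stabilizesBlock_iff] at hx hy ⊢
    exact ⟨Subgroup.mul_mem _ hx.1 hy.1, by rw [cjF_mul, hy.2, hx.2]⟩
  one_mem' := by
    simp only [Set.mem_ofPred_eq, stabilizesBlock_iff]
    exact ⟨Subgroup.one_mem _, cjF_one _⟩
  inv_mem' := by
    intro x hx
    simp only [Set.mem_ofPred_eq, stabilizesBlock_iff] at hx ⊢
    refine ⟨Subgroup.inv_mem _ hx.1, ?_⟩
    conv_lhs => rw [← hx.2]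
    exact cjF_inv_cjF _ _

theorem mem_stabSub {K : Subgroup G} {e : Set (IrrCharacter K)} {x : G} :
    x ∈ stabSub K e ↔ StabilizesBlock K e x := Iff.rfl

theorem le_stabSub (K : Subgroup G) (e : Set (IrrCharacter K)) : K ≤ stabSub K e := by
  intro x hx
  rw [mem_stabSub, stabilizesBlock_iff]
  exact ⟨Subgroup.le_normalizer hx, (cjF_eq_iff _ _).mpr fun g => sbc_conj_mem K e hx g⟩

theorem le_stabSub_cz (Q : Subgroup G) (f : Set (IrrCharacter (cz Q))) :
    Q ≤ stabSub (cz Q) f := by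
  intro x hx
  rw [mem_stabSub, stabilizesBlock_iff]
  have hc : IsConjSub x (cz Q) (cz Q) :=
    (isConjSub_of_mem_normalizer (Subgroup.le_normalizer hx)).centralizer
  refine ⟨hc.mem_normalizer, ?_⟩
  ext g
  rw [cjF_apply]
  by_cases hg : g ∈ cz Q
  · rw [conj_eq_of_mem_cz hx hg]
  · rw [sbc_not_mem _ _ hg, sbc_not_mem _ _ (fun h => hg ((hc g).mpr h))]

/-- an inclusion `(Q, f) ≤ (R, g)` with `Q` normal in `R` is a normal inclusion -/
theorem rel_of_PLE_of_normal (hM : IsPModular p M) {a c : BrauerPairIdx G} (h : PLE p M a c)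
    (hc : IsBrauerPair p M c.1 c.2) (hN : c.1 ≤ Subgroup.normalizer (a.1 : Set G)) :
    NormalSubpairRel p M a c := by
  obtain ⟨f₀, hf₀⟩ := exists_normal_subpair hM hc (PLE.le h) hN
  have h1 : PLE p M ⟨a.1, f₀⟩ c := Relation.ReflTransGen.single hf₀
  have h2 : f₀ = a.2 := PLE_unique hM _ c a.1 f₀ a.2 rfl h1 h
  rw [h2] at hf₀
  exact hf₀

/-- two pairs below a common pair are comparable as soon as their subgroups are -/
theorem PLE_of_PLE_of_le (hM : IsPModular p M) {a c b : BrauerPairIdx G} (ha : PLE p M a b)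
    (hc : PLE p M c b) (hb : IsBrauerPair p M b.1 b.2) (hac : a.1 ≤ c.1) : PLE p M a c := by
  obtain ⟨f₁, hf₁⟩ := exists_PLE hM c (PLE.isBrauerPair_left hc hb) _ a.1 hac rfl
  have h2 : f₁ = a.2 := PLE_unique hM _ b a.1 f₁ a.2 rfl (hf₁.trans hc) ha
  rw [h2] at hf₁
  exact hf₁

theorem exists_unit_of_normalSubpair (hM : IsPModular p M) {Q R : Subgroup G}
    {f : Set (IrrCharacter (cz Q))} {g : Set (IrrCharacter (cz R))}
    (h : IsNormalSubpair p M Q f R g) :
    ∃ u ∈ cz R, ¬ MemLocalIdeal M (subgroupBlockCoeff (cz Q) f u) := by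
  have := IsPModular.isPrime hM
  by_contra hcon
  push Not at hcon
  obtain ⟨ζ, hζ⟩ := IsPBlock.nonempty h.2.1.2
  have h1 := brauerOmega_memLocalIdeal (dom_of_normalSubpair h) hcon ζ.2
  have h2 := h.2.2.2.2.2 ζ hζ
  have := MemLocalIdeal.sub h1 h2
  rw [sub_sub_cancel] at this
  exact not_memLocalIdeal_one this

/-- If the idempotent of the block `f` of `H` has a unit coefficient at `u`, then every
`p`-subgroup of `H` centralizing `u` lies in a defect group of `f`. -/
theorem exists_defectGroup_ge_of_unit (hM : IsPModular p M) {H : Subgroup G}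
    {f : Set (IrrCharacter H)} (hf : IsPBlock M f) {u : G}
    (hu : ¬ MemLocalIdeal M (subgroupBlockCoeff H f u)) {R : Subgroup G} (hR : IsPGroup p R)
    (hRu : u ∈ cz R) :
    ∃ D : Subgroup H, IsDefectGroup p M f D ∧ R.subgroupOf H ≤ D := by
  have := IsPModular.isPrime hM
  have : Fact p.Prime := ⟨hM.1⟩
  have huH : u ∈ H := by
    by_contra hcon
    rw [sbc_not_mem _ _ hcon] at hu
    exact hu memLocalIdeal_zero
  rw [sbc_mem _ _ huH, blockCoeff_eq_coef] at hu
  apply exists_isDefectGroup_ge hM hf hu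
  · exact hR.comap_of_injective H.subtype Subtype.coe_injective
  · intro x hx
    rw [Subgroup.mem_centralizer_singleton_iff]
    apply Subtype.ext
    exact Subgroup.mem_centralizer_iff.mp hRu x hx

theorem charDegree_comp {H H' : Type*} [Group H] [Group H'] (α : H' ≃* H) (χ : H → ℂ) :
    charDegree (χ ∘ α) = charDegree χ := by
  unfold charDegree
  simp

theorem blockDefect_blockMap {H H' : Type*} [Group H] [Group H'] [Fintype H] [Fintype H']
    (α : H' ≃* H) (b : Set (IrrCharacter H)) :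
    blockDefect p (blockMap α b) = blockDefect p b := by
  unfold blockDefect
  rw [Nat.card_congr α.toEquiv]
  congr 2
  unfold blockMap
  rw [Set.image_image]
  congr 1
  ext χ
  rw [irrMap_coe, charDegree_comp]

/-- `C_P(Q)` lies in a defect group of `f` when `(Q, f) ≤ (P, e)`. -/
theorem exists_defectGroup_ge_centralizer (hM : IsPModular p M) {P Q : Subgroup G}
    {e : Set (IrrCharacter (cz P))} {f : Set (IrrCharacter (cz Q))}
    (hPe : IsBrauerPair p M P e) (hle : SubpairLE p M Q f P e) :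
    ∃ D : Subgroup (cz Q), IsDefectGroup p M f D ∧ (P ⊓ cz Q).subgroupOf (cz Q) ≤ D := by
  have hQP : Q ≤ P := PLE.le hle
  set R : Subgroup G := Q ⊔ (P ⊓ cz Q) with hR
  have hRP : R ≤ P := sup_le hQP inf_le_left
  have hRN : R ≤ Subgroup.normalizer (Q : Set G) :=
    sup_le Subgroup.le_normalizer (inf_le_right.trans (Subgroup.centralizer_le_normalizer _))
  obtain ⟨g, hg⟩ := exists_PLE hM ⟨P, e⟩ hPe _ R hRP rfl
  have h1 : PLE p M ⟨Q, f⟩ ⟨R, g⟩ := PLE_of_PLE_of_le hM hle hg hPe le_sup_left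
  have h2 : IsNormalSubpair p M Q f R g :=
    rel_of_PLE_of_normal hM h1 (PLE.isBrauerPair_left hg hPe) hRN
  obtain ⟨u, hu, hunit⟩ := exists_unit_of_normalSubpair hM h2
  exact exists_defectGroup_ge_of_unit hM h2.1.2 hunit (hPe.1.to_le inf_le_left)
    (cz_anti le_sup_right hu)

/-- A defect group of a block of `H ≤ N_G(Q, f)` with the idempotent of `f` gives a Brauer pair
above `(Q, f)`. -/
theorem exists_overpair_of_defectGroup (hM : IsPModular p M) {Q : Subgroup G}
    {f : Set (IrrCharacter (cz Q))} (hQf : IsBrauerPair p M Q f) {H : Subgroup G}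
    (hHN : H ≤ Subgroup.normalizer (Q : Set G)) (hHst : H ≤ stabSub (cz Q) f)
    {F : Set (IrrCharacter H)}
    (hFf : subgroupBlockCoeff H F = subgroupBlockCoeff (cz Q) f) {D : Subgroup H}
    (hD : IsDefectGroup p M F D) :
    ∃ g : Set (IrrCharacter (cz (Q ⊔ D.map H.subtype))),
      IsNormalSubpair p M Q f (Q ⊔ D.map H.subtype) g := by
  have := IsPModular.isPrime hM
  obtain ⟨l, hl, hDl⟩ := isDefectGroup_iff.mp hD
  set R : Subgroup G := Q ⊔ D.map H.subtype with hR
  have hDH : D.map H.subtype ≤ H := Subgroup.map_subtype_le _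
  have hRN : R ≤ Subgroup.normalizer (Q : Set G) :=
    sup_le Subgroup.le_normalizer (hDH.trans hHN)
  have hRst : R ≤ stabSub (cz Q) f := sup_le (le_stabSub_cz Q f) (hDH.trans hHst)
  have hRp : IsPGroup p R :=
    IsPGroup.to_sup_of_normal_left' hQf.1 (hDl.isPGroup.map _) (hDH.trans hHN)
  have hunit : ¬ MemLocalIdeal M (subgroupBlockCoeff (cz Q) f l) := by
    rw [← hFf, sbc_coe, blockCoeff_eq_coef]
    exact (isDefectClass_iff.mp hl).2.1
  have hlQ : (l : G) ∈ cz Q := by
    by_contra hcon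
    rw [sbc_not_mem _ _ hcon] at hunit
    exact hunit memLocalIdeal_zero
  have hlD : (l : G) ∈ cz (D.map H.subtype) := by
    rw [Subgroup.mem_centralizer_iff]
    rintro _ ⟨u, hu, rfl⟩
    have := Subgroup.mem_centralizer_iff.mp (le_cen_iff.mp hDl.le) u hu
    exact congrArg Subtype.val this
  have hlR : (l : G) ∈ cz R := le_cen_iff.mp (sup_le (le_cen_iff.mpr hlQ) (le_cen_iff.mpr hlD))
  have hdom : Dom M R (subgroupBlockCoeff (cz Q) f) := dom_sbc le_sup_left hQf.2 hRst
  obtain ⟨ζ, hζ⟩ := exists_brauerOmega_eq_one hM hRp hdom (sbc_idem _ _) hlR hunit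
  refine ⟨blockOf M (ζ : cz R → ℂ), hQf, ⟨hRp, ⟨ζ, rfl⟩⟩, le_sup_left, hRN, hRst, fun ξ hξ => ?_⟩
  have h2 := brauerOmega_sameBlock hdom ξ.2 ζ.2 (SameBlock.symm hξ)
  have := MemLocalIdeal.add h2 hζ
  simpa using this

/-- Some conjugate `(Q, f)^x ≤ (P, e)` has `C_P(Q^x)` as a defect group of `f^x`. -/
theorem exists_conj_centralizer_defectGroup (hM : IsPModular p M) {B : Set (IrrCharacter G)}
    {P Q : Subgroup G} {e : Set (IrrCharacter (cz P))} {f : Set (IrrCharacter (cz Q))}
    (hmax : IsMaximalBrauerPair p M B P e) (hQf : IsBrauerPairOf p M B Q f) :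
    ∃ x : G, SubpairLE p M (Q.map (MulAut.conj x).toMonoidHom) (conjBlock Q x f) P e ∧
      IsDefectGroup p M (conjBlock Q x f)
        ((P ⊓ cz (Q.map (MulAut.conj x).toMonoidHom)).subgroupOf
          (cz (Q.map (MulAut.conj x).toMonoidHom))) := by
  have : Fact p.Prime := ⟨hM.1⟩
  have hB := hQf.2.1
  have hf := hQf.1.2
  obtain ⟨D, hD⟩ := exists_isDefectGroup hM hf
  obtain ⟨R, hR, g, hg⟩ : ∃ R : Subgroup G, R = Q ⊔ D.map (cz Q).subtype ∧
      ∃ g : Set (IrrCharacter (cz R)), IsNormalSubpair p M Q f R g :=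
    ⟨_, rfl, exists_overpair_of_defectGroup hM hQf.1
      (Subgroup.centralizer_le_normalizer _) (le_stabSub _ _) rfl hD⟩
  have hRg : IsBrauerPairOf p M B R g := (isBrauerPairOf_iff_of_normalSubpair hM hg hB).mpr hQf
  obtain ⟨x, hx⟩ := exists_conj_le_maximal hM hmax hRg
  have h1 : PLE p M (cjIdx x ⟨Q, f⟩) (cjIdx x ⟨R, g⟩) :=
    PLE_cjIdx x (Relation.ReflTransGen.single hg)
  have hle : SubpairLE p M (Q.map (MulAut.conj x).toMonoidHom) (conjBlock Q x f) P e :=
    h1.trans hx
  refine ⟨x, hle, ?_⟩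
  obtain ⟨D₂, hD₂, hle₂⟩ := exists_defectGroup_ge_centralizer hM hmax.1.1 hle
  have hf' : IsPBlock M (conjBlock Q x f) := (PLE.isBrauerPair_left hle hmax.1.1).2
  have hc1 : Nat.card D₂ = Nat.card D := by
    rw [IsDefectGroup.card_eq hM hf' hD₂, IsDefectGroup.card_eq hM hf hD, conjBlock_eq_conjSet,
      conjSet, blockDefect_blockMap]
  -- the conjugate of `D` lies in `C_P(Q^x)`
  have hDx : (D.map (cz Q).subtype).map (MulAut.conj x).toMonoidHom ≤
      P ⊓ cz (Q.map (MulAut.conj x).toMonoidHom) := by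
    apply le_inf
    · exact (Subgroup.map_mono (hR ▸ le_sup_right)).trans (PLE.le hx)
    · exact (isConjSub_map x _).mono (isConjSub_cz_map Q x) (Subgroup.map_subtype_le _)
  have hc2 : Nat.card D ≤ Nat.card ((P ⊓ cz (Q.map (MulAut.conj x).toMonoidHom)).subgroupOf
      (cz (Q.map (MulAut.conj x).toMonoidHom))) := by
    rw [Nat.card_congr (Subgroup.subgroupOfEquivOfLe inf_le_right).toEquiv,
      ← Subgroup.card_map_of_injective (Subgroup.subtype_injective (cz Q)),
      ← card_cj x (D.map (cz Q).subtype)]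
    exact Subgroup.card_le_of_le hDx
  rw [Subgroup.eq_of_le_of_card_ge hle₂ (by omega)]
  exact hD₂

end

end Cfsg.Agent.Lib.Helper24
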