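import Cfsg.Agent.Lib.Helper24.BlockIdem

/-!
# Brauer pairs and the local blocks: stabilizers in normalizers
-/

set_option autoImplicit false

namespace Cfsg.Agent.Lib.Helper24

open Cfsg Cfsg.Agent.Lib.Helper2 Cfsg.Agent.Lib.Helper6
open scoped ComplexConjugate Classical

attribute [local instance] irrFintype

section

variable {G : Type*} [Group G] [Fintype G] {M : Ideal AlgInt} {p : ℕ}

/-- `T` is the stabilizer `N_G(Q, f)` -/
def IsPairStab (Q : Subgroup G) (f : Set (IrrCharacter (cz Q))) (T : Subgroup G) : Prop :=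
  ∀ y : G, y ∈ T ↔ y ∈ Subgroup.normalizer (Q : Set G) ∧ StabilizesBlock (cz Q) f y

omit [Fintype G] in
theorem IsPairStab.le_normalizer {Q : Subgroup G} {f : Set (IrrCharacter (cz Q))}
    {T : Subgroup G} (h : IsPairStab Q f T) : T ≤ Subgroup.normalizer (Q : Set G) :=
  fun y hy => ((h y).mp hy).1

theorem IsPairStab.le_stabSub {Q : Subgroup G} {f : Set (IrrCharacter (cz Q))}
    {T : Subgroup G} (h : IsPairStab Q f T) : T ≤ stabSub (cz Q) f :=
  fun y hy => ((h y).mp hy).2

theorem IsPairStab.cz_le {Q : Subgroup G} {f : Set (IrrCharacter (cz Q))}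
    {T : Subgroup G} (h : IsPairStab Q f T) : cz Q ≤ T :=
  fun y hy => (h y).mpr ⟨Subgroup.centralizer_le_normalizer _ hy, Helper24.le_stabSub _ _ hy⟩

theorem IsPairStab.le {Q : Subgroup G} {f : Set (IrrCharacter (cz Q))}
    {T : Subgroup G} (h : IsPairStab Q f T) : Q ≤ T :=
  fun y hy => (h y).mpr ⟨Subgroup.le_normalizer hy, le_stabSub_cz _ _ hy⟩

theorem IsPairStab.sbc_eq_iff {Q : Subgroup G} {f : Set (IrrCharacter (cz Q))}
    {T : Subgroup G} (h : IsPairStab Q f T) (F : Set (IrrCharacter T)) :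
    subgroupBlockCoeff T F = subgroupBlockCoeff (cz Q) f ↔
      ∀ t : T, blockCoeff F t = subgroupBlockCoeff (cz Q) f (t : G) := by
  constructor
  · intro hF t
    rw [← hF, sbc_coe]
  · intro hF
    ext g
    by_cases hg : g ∈ T
    · rw [sbc_mem _ _ hg, hF]
    · rw [sbc_not_mem _ _ hg, sbc_not_mem _ _ (fun hc => hg (h.cz_le hc))]

theorem IsPairStab.exists_block (hM : IsPModular p M) {Q : Subgroup G}
    {f : Set (IrrCharacter (cz Q))} {T : Subgroup G} (h : IsPairStab Q f T)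
    (hQf : IsBrauerPair p M Q f) :
    ∃ F : Set (IrrCharacter T), IsPBlock M F ∧
      subgroupBlockCoeff T F = subgroupBlockCoeff (cz Q) f := by
  have := IsPModular.isPrime hM
  exact exists_block_of_stable h.cz_le hQf.2 h.le_stabSub
    (fun F hF g hg => sbc_eq_zero_of_not_mem_cz hM hQf.1 h.le h.le_normalizer hF hg)

/-- `N_P(Q)` lies in `N_G(Q, f)` and in a defect group of the block of `N_G(Q, f)` with the
idempotent of `f`, when `(Q, f) ≤ (P, e)`. -/
theorem exists_defectGroup_ge_normalizer (hM : IsPModular p M) {P Q : Subgroup G}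
    {e : Set (IrrCharacter (cz P))} {f : Set (IrrCharacter (cz Q))}
    (hPe : IsBrauerPair p M P e) (hle : SubpairLE p M Q f P e) {T : Subgroup G}
    (hT : IsPairStab Q f T) {F : Set (IrrCharacter T)} (hF : IsPBlock M F)
    (hFf : subgroupBlockCoeff T F = subgroupBlockCoeff (cz Q) f) :
    P ⊓ Subgroup.normalizer (Q : Set G) ≤ T ∧
    ∃ D : Subgroup T, IsDefectGroup p M F D ∧
      (P ⊓ Subgroup.normalizer (Q : Set G)).subgroupOf T ≤ D := by
  have hQP : Q ≤ P := PLE.le hle
  obtain ⟨R, hR⟩ : ∃ R : Subgroup G, R = P ⊓ Subgroup.normalizer (Q : Set G) := ⟨_, rfl⟩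
  rw [← hR]
  have hRP : R ≤ P := hR ▸ inf_le_left
  have hRN : R ≤ Subgroup.normalizer (Q : Set G) := hR ▸ inf_le_right
  have hQR : Q ≤ R := hR ▸ le_inf hQP Subgroup.le_normalizer
  obtain ⟨g, hg⟩ := exists_PLE hM ⟨P, e⟩ hPe _ R hRP rfl
  have h1 : PLE p M ⟨Q, f⟩ ⟨R, g⟩ := PLE_of_PLE_of_le hM hle hg hPe hQR
  have h2 : IsNormalSubpair p M Q f R g :=
    rel_of_PLE_of_normal hM h1 (PLE.isBrauerPair_left hg hPe) hRN
  refine ⟨fun y hy => (hT y).mpr ⟨hRN hy, h2.2.2.2.2.1 y hy⟩, ?_⟩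
  obtain ⟨u, hu, hunit⟩ := exists_unit_of_normalSubpair hM h2
  rw [← hFf] at hunit
  exact exists_defectGroup_ge_of_unit hM hF hunit (hPe.1.to_le hRP) hu

theorem stabilizesBlock_conj_iff {x y : G} {K K' : Subgroup G} (h : IsConjSub x K K')
    {e : Set (IrrCharacter K)} :
    StabilizesBlock K' (conjSet h e) y ↔ StabilizesBlock K e (x⁻¹ * y * x) := by
  refine ⟨fun hy => ?_, stabilizesBlock_conj h⟩
  rw [stabilizesBlock_iff] at hy ⊢
  refine ⟨(h.normalizer y).mp hy.1, ?_⟩
  have h1 := hy.2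
  rw [sbc_conjSet, ← cjF_mul] at h1
  have h2 := congrArg (cjF x⁻¹) h1
  rw [cjF_inv_cjF, ← cjF_mul] at h2
  rw [← h2]
  congr 1
  group

theorem IsPairStab.conj {Q : Subgroup G} {f : Set (IrrCharacter (cz Q))} {T T' : Subgroup G}
    (h : IsPairStab Q f T) (x : G)
    (h' : IsPairStab (Q.map (MulAut.conj x).toMonoidHom) (conjBlock Q x f) T') :
    IsConjSub x T T' := by
  intro y
  rw [h' y, h _, conjBlock_eq_conjSet, stabilizesBlock_conj_iff,
    (isConjSub_map x Q).normalizer y]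

/-- Some conjugate `(Q, f)^x ≤ (P, e)` has `N_P(Q^x)` as a defect group of the block of the
stabilizer with the idempotent of `f^x`. -/
theorem exists_conj_normalizer_defectGroup (hM : IsPModular p M) {B : Set (IrrCharacter G)}
    {P Q : Subgroup G} {e : Set (IrrCharacter (cz P))} {f : Set (IrrCharacter (cz Q))}
    (hmax : IsMaximalBrauerPair p M B P e) (hQf : IsBrauerPairOf p M B Q f) {T : Subgroup G}
    (hT : IsPairStab Q f T) :
    ∃ x : G, SubpairLE p M (Q.map (MulAut.conj x).toMonoidHom) (conjBlock Q x f) P e ∧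
      ∀ T' : Subgroup G, IsPairStab (Q.map (MulAut.conj x).toMonoidHom) (conjBlock Q x f) T' →
        ∃ F' : Set (IrrCharacter T'), IsPBlock M F' ∧
          subgroupBlockCoeff T' F' =
            subgroupBlockCoeff (cz (Q.map (MulAut.conj x).toMonoidHom)) (conjBlock Q x f) ∧
          IsDefectGroup p M F'
            ((P ⊓ Subgroup.normalizer ((Q.map (MulAut.conj x).toMonoidHom : Subgroup G) : Set G)).subgroupOf
              T') := by
  have : Fact p.Prime := ⟨hM.1⟩
  have hB := hQf.2.1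
  obtain ⟨F, hF, hFf⟩ := hT.exists_block hM hQf.1
  obtain ⟨D, hD⟩ := exists_isDefectGroup hM hF
  obtain ⟨R, hR, g, hg⟩ : ∃ R : Subgroup G, R = Q ⊔ D.map T.subtype ∧
      ∃ g : Set (IrrCharacter (cz R)), IsNormalSubpair p M Q f R g :=
    ⟨_, rfl, exists_overpair_of_defectGroup hM hQf.1 hT.le_normalizer hT.le_stabSub hFf hD⟩
  have hRg : IsBrauerPairOf p M B R g := (isBrauerPairOf_iff_of_normalSubpair hM hg hB).mpr hQf
  obtain ⟨x, hx⟩ := exists_conj_le_maximal hM hmax hRg
  have h1 : PLE p M (cjIdx x ⟨Q, f⟩) (cjIdx x ⟨R, g⟩) :=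
    PLE_cjIdx x (Relation.ReflTransGen.single hg)
  have hle : SubpairLE p M (Q.map (MulAut.conj x).toMonoidHom) (conjBlock Q x f) P e :=
    h1.trans hx
  refine ⟨x, hle, fun T' hT' => ?_⟩
  have hQf' := PLE.isBrauerPair_left hle hmax.1.1
  obtain ⟨F', hF', hFf'⟩ := hT'.exists_block hM hQf'
  refine ⟨F', hF', hFf', ?_⟩
  obtain ⟨hNT', D₂, hD₂, hle₂⟩ := exists_defectGroup_ge_normalizer hM hmax.1.1 hle hT' hF' hFf'
  have hTT' := hT.conj x hT'
  have hFF' : F' = conjSet hTT' F := by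
    apply sbc_injective
    rw [hFf', sbc_conjSet, hFf, sbc_conjBlock]
  have hc1 : Nat.card D₂ = Nat.card D := by
    rw [IsDefectGroup.card_eq hM hF' hD₂, IsDefectGroup.card_eq hM hF hD, hFF', conjSet,
      blockDefect_blockMap]
  have hDx : (D.map T.subtype).map (MulAut.conj x).toMonoidHom ≤
      P ⊓ Subgroup.normalizer ((Q.map (MulAut.conj x).toMonoidHom : Subgroup G) : Set G) := by
    apply le_inf
    · exact (Subgroup.map_mono (hR ▸ le_sup_right)).trans (PLE.le hx)
    · exact (isConjSub_map x _).mono (isConjSub_map x Q).normalizer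
        ((Subgroup.map_subtype_le _).trans hT.le_normalizer)
  have hc2 : Nat.card D ≤ Nat.card ((P ⊓ Subgroup.normalizer
      ((Q.map (MulAut.conj x).toMonoidHom : Subgroup G) : Set G)).subgroupOf T') := by
    rw [Nat.card_congr (Subgroup.subgroupOfEquivOfLe hNT').toEquiv,
      ← Subgroup.card_map_of_injective (Subgroup.subtype_injective T),
      ← card_cj x (D.map T.subtype)]
    exact Subgroup.card_le_of_le hDx
  rw [Subgroup.eq_of_le_of_card_ge hle₂ (by omega)]
  exact hD₂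

end

end Cfsg.Agent.Lib.Helper24
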