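import Cfsg.Agent.Lib.Helper24.BrauerConj
import Cfsg.Agent.Lib.Helper24.Covering
import Cfsg.Agent.Lib.Helper6.Vanish

/-!
# Maximal Brauer pairs
-/

set_option autoImplicit false

namespace Cfsg.Agent.Lib.Helper24

open Cfsg Cfsg.Agent.Lib.Helper2 Cfsg.Agent.Lib.Helper6
open scoped ComplexConjugate Classical

attribute [local instance] irrFintype

section

variable {G : Type*} [Group G] [Fintype G] {M : Ideal AlgInt} {p : ℕ}

omit [Fintype G] in
theorem isClassFunction_brMap' {P H : Subgroup G} (hHN : H ≤ nor P) {β : G → ℂ}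
    (hinv : ∀ n ∈ H, ∀ g, β (n * g * n⁻¹) = β g) : IsClassFunction H (brMap P H β) := by
  intro h k
  rw [brMap_apply, brMap_apply]
  have h1 : ((k * h * k⁻¹ : H) : G) = (k : G) * h * (k : G)⁻¹ := rfl
  rw [h1, hinv k k.2]
  exact if_congr (conj_mem_centralizer_iff (hHN k.2)) rfl rfl

/-- A character of `H` over `ξ ∈ Irr(C_G(P))` computes the Brauer functional of `ξ` on
`H`-invariant functions. -/
theorem om_brMap_eq_brauerOmega {P H : Subgroup G} (hCH : cz P ≤ H) (hHN : H ≤ nor P) {β : G → ℂ}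
    (hinv : ∀ n ∈ H, ∀ g, β (n * g * n⁻¹) = β g) {ψ : H → ℂ} (hψ : IsIrrCharacter H ψ)
    (ξ : IrrCharacter (cz P))
    (hc : classInner (ψ ∘ Subgroup.inclusion hCH) (ξ : cz P → ℂ) ≠ 0) :
    om ψ (brMap P H β) = brauerOmega P β (ξ : cz P → ℂ) := by
  rw [brauerOmega_eq_om, om_eq_of_constituent (Subgroup.inclusion hCH)
    (Subgroup.inclusion_injective hCH) hψ ξ hc (isClassFunction_brMap' hHN hinv)]
  · congr 1
    ext c
    rw [Function.comp_apply, brMap_apply, if_pos (by exact c.2)]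
    rfl
  · intro t ht
    rw [brMap_apply, if_neg]
    intro htc
    exact ht ⟨⟨t, htc⟩, rfl⟩

/-- A block of `N_G(P)` lying over the block `e` of a `B`-Brauer pair `(P, e)` induces `B`. -/
theorem isInducedBlock_of_pair (hM : IsPModular p M) {P : Subgroup G}
    {e : Set (IrrCharacter (cz P))} {B : Set (IrrCharacter G)} (h : IsBrauerPairOf p M B P e)
    {ξ : IrrCharacter (cz P)} (hξ : ξ ∈ e) {ψ : IrrCharacter (nor P)}
    (hc : classInner ((ψ : nor P → ℂ) ∘ Subgroup.inclusion (centralizer_le_nor P))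
      (ξ : cz P → ℂ) ≠ 0) :
    IsInducedBlock M (nor P) (blockOf M (ψ : nor P → ℂ)) B := by
  have := IsPModular.isPrime hM
  obtain ⟨⟨hP, he⟩, hB, hocc⟩ := h
  obtain ⟨B', hind⟩ := inducedBlockDefined_of_le hM hP (le_nor P) (centralizer_le_nor P) le_rfl
    (b := blockOf M (ψ : nor P → ℂ)) ⟨ψ, rfl⟩
  obtain ⟨χ', hχ'⟩ := IsPBlock.nonempty hind.2.1
  have h1 := om_brMap_sub_om hM hP (le_nor P) le_rfl hind (mem_blockOf_self ψ) hχ'
    (isClassFunction_coef (B.indicator 1)) (IsPBlock.indicator_mem_ZS hB)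
  rw [om_brMap_eq_brauerOmega (centralizer_le_nor P) le_rfl
    (fun n _ g => isClassFunction_coef _ g n) ψ.2 ξ hc, om_coef, ← blockCoeff_fun] at h1
  have h2 := hocc ξ hξ
  have h3 : χ' ∈ B := by
    by_contra hcon
    rw [Set.indicator_of_notMem hcon, sub_zero] at h1
    have := MemLocalIdeal.sub h1 h2
    rw [sub_sub_cancel] at this
    exact not_memLocalIdeal_one this
  rw [IsPBlock.eq_of_mem_of_mem hB hind.2.1 h3 hχ']
  exact hind

/-- the union of the `H`-conjugates of a set of irreducible characters of `K` -/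
def orbUnion (H K : Subgroup G) (e : Set (IrrCharacter K)) : Set (IrrCharacter K) :=
  {η | ∃ n ∈ H, ∃ ξ ∈ e, IsConjCharOf K n (ξ : K → ℂ) (η : K → ℂ)}

omit [Fintype G] in
theorem subset_orbUnion (H K : Subgroup G) (e : Set (IrrCharacter K)) : e ⊆ orbUnion H K e := by
  intro ξ hξ
  refine ⟨1, H.one_mem, ξ, hξ, fun k k' hk => ?_⟩
  have : k' = k := Subtype.ext (by simpa using hk)
  rw [this]

theorem stabilizesBlock_orbUnion {H K : Subgroup G} (hHK : ∀ n ∈ H, IsConjSub n K K)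
    (e : Set (IrrCharacter K)) {n : G} (hn : n ∈ H) : StabilizesBlock K (orbUnion H K e) n := by
  refine ⟨(hHK n hn).mem_normalizer, ?_⟩
  rintro η ⟨m, hm, ξ, hξ, hc⟩
  refine ⟨irrMap (conjIso (hHK n hn)) η, ⟨n * m, H.mul_mem hn hm, ξ, hξ, ?_⟩,
    (isConjCharOf_iff (hHK n hn) _ _).mpr rfl⟩
  intro k k' hk
  rw [irrMap_apply]
  apply hc
  rw [conjIso_coe, hk]
  group

theorem orbUnion_union_blocks [M.IsPrime] {H K : Subgroup G} (hHK : ∀ n ∈ H, IsConjSub n K K)
    {e : Set (IrrCharacter K)} (he : IsPBlock M e) {η : IrrCharacter K}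
    (hη : η ∈ orbUnion H K e) :
    ∃ n ∈ H, ∃ h : IsConjSub n K K, blockOf M (η : K → ℂ) = conjSet h e := by
  obtain ⟨n, hn, ξ, hξ, hc⟩ := hη
  refine ⟨n, hn, hHK n hn, ?_⟩
  rw [(isConjCharOf_iff (hHK n hn) _ _).mp hc, IsPBlock.eq_blockOf he hξ, conjSet,
    blockMap_blockOf]

omit [Fintype G] in
theorem conjSet_subset_orbUnion [Fintype G] {H K : Subgroup G} (e : Set (IrrCharacter K)) {n : G}
    (hn : n ∈ H) (h : IsConjSub n K K) : conjSet h e ⊆ orbUnion H K e := by
  rintro _ ⟨ξ, hξ, rfl⟩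
  exact ⟨n, hn, ξ, hξ, (isConjCharOf_iff h _ _).mpr rfl⟩

/-- a union of blocks has an idempotent with local integer coefficients -/
theorem indicator_mem_ZS_of_union {H : Type*} [Group H] [Fintype H] [M.IsPrime]
    {A : Set (IrrCharacter H)} (hA : ∀ χ ∈ A, blockOf M (χ : H → ℂ) ⊆ A) :
    A.indicator (1 : IrrCharacter H → ℂ) ∈ ZS M H := by
  have h1 : A.indicator (1 : IrrCharacter H → ℂ) =
      ∑ B ∈ Finset.univ.image (fun χ : IrrCharacter H => blockOf M (χ : H → ℂ)),
        A.indicator 1 * B.indicator 1 := by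
    rw [← Finset.mul_sum, sum_indicator_blocks, mul_one]
  rw [h1]
  refine Subring.sum_mem _ fun B hB => ?_
  obtain ⟨χ, -, rfl⟩ := Finset.mem_image.mp hB
  by_cases hχ : χ ∈ A
  · have : A.indicator (1 : IrrCharacter H → ℂ) * (blockOf M (χ : H → ℂ)).indicator 1 =
        (blockOf M (χ : H → ℂ)).indicator 1 := by
      ext ψ
      rw [Pi.mul_apply]
      by_cases hψ : ψ ∈ blockOf M (χ : H → ℂ)
      · rw [Set.indicator_of_mem (hA χ hχ hψ), Pi.one_apply, one_mul]
      · rw [Set.indicator_of_notMem hψ, mul_zero]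
    rw [this]
    exact IsPBlock.indicator_mem_ZS ⟨χ, rfl⟩
  · have : A.indicator (1 : IrrCharacter H → ℂ) * (blockOf M (χ : H → ℂ)).indicator 1 = 0 := by
      ext ψ
      rw [Pi.mul_apply]
      by_cases hψ : ψ ∈ blockOf M (χ : H → ℂ)
      · have hψA : ψ ∉ A := by
          intro hc
          apply hχ
          have := hA ψ hc
          rw [blockOf_eq_of_mem hψ] at this
          exact this (mem_blockOf_self χ)
        rw [Set.indicator_of_notMem hψA, zero_mul]
        rfl
      · rw [Set.indicator_of_notMem hψ, mul_zero]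
        rfl
    rw [this]
    exact Subring.zero_mem _

theorem sbc_orbUnion_memLocalRing [M.IsPrime] {H K : Subgroup G}
    (hHK : ∀ n ∈ H, IsConjSub n K K) {e : Set (IrrCharacter K)} (he : IsPBlock M e) (g : G) :
    MemLocalRing M (subgroupBlockCoeff K (orbUnion H K e) g) := by
  rw [sbc_eq_ext]
  apply memLocalRing_ext K
  apply indicator_mem_ZS_of_union
  intro η hη
  obtain ⟨n, hn, h, hb⟩ := orbUnion_union_blocks hHK he hη
  rw [hb]
  exact conjSet_subset_orbUnion e hn h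

theorem brauerOmega_sbc_self (P : Subgroup G) (A : Set (IrrCharacter (cz P)))
    (ξ : IrrCharacter (cz P)) :
    brauerOmega P (subgroupBlockCoeff (cz P) A) (ξ : cz P → ℂ) =
      A.indicator (1 : IrrCharacter (cz P) → ℂ) ξ := by
  have h2 : resC P (subgroupBlockCoeff (cz P) A) = coef (A.indicator 1) := by
    ext c
    rw [resC_apply, sbc_coe, blockCoeff_eq_coef]
  rw [brauerOmega_eq_om, h2, om_coef]

end

end Cfsg.Agent.Lib.Helper24
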