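import Cfsg.Agent.Lib.Helper24.BrauerMax

/-!
# Maximal Brauer pairs and defect groups
-/

set_option autoImplicit false

namespace Cfsg.Agent.Lib.Helper24

open Cfsg Cfsg.Agent.Lib.Helper2 Cfsg.Agent.Lib.Helper6
open scoped ComplexConjugate Classical

attribute [local instance] irrFintype

section

variable {G : Type*} [Group G] [Fintype G] {M : Ideal AlgInt} {p : ℕ}

/-- An idempotent in the domain of the Brauer functional at `D` with a unit coefficient on
`C_G(D)` is detected by some block of `C_G(D)`. -/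
theorem exists_brauerOmega_eq_one (hM : IsPModular p M) {D : Subgroup G} (hD : IsPGroup p D)
    {β : G → ℂ} (h : Dom M D β) (hi : conv β β = β) {c : G} (hc : c ∈ cz D)
    (hβc : ¬ MemLocalIdeal M (β c)) :
    ∃ ζ : IrrCharacter (cz D), MemLocalIdeal M (brauerOmega D β (ζ : cz D → ℂ) - 1) := by
  have := IsPModular.isPrime hM
  obtain ⟨ζ, hζ⟩ := exists_om_not_memLocalIdeal hM (f := resC D β) h.isClassFunction_resC
    h.mem_resC (by
      intro x
      have h1 := resC_conv hM hD h h x
      rw [hi] at h1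
      have := MemLocalIdeal.neg h1
      rwa [neg_sub] at this) (g := ⟨c, hc⟩) hβc
  rw [← brauerOmega_eq_om] at hζ
  exact ⟨ζ, (brauerOmega_idem hM hD h hi ζ.2).resolve_left hζ⟩

omit [Fintype G] in
theorem isConjSub_cz_of_mem_nor {P : Subgroup G} {n : G} (hn : n ∈ nor P) :
    IsConjSub n (cz P) (cz P) := (isConjSub_of_mem_normalizer hn).centralizer

/-- the idempotent of the union of the `N_G(P)`-conjugates of a block of `C_G(P)` -/
noncomputable def orbIdem (P : Subgroup G) (e : Set (IrrCharacter (cz P))) : G → ℂ :=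
  subgroupBlockCoeff (cz P) (orbUnion (nor P) (cz P) e)

theorem orbIdem_inv (P : Subgroup G) (e : Set (IrrCharacter (cz P))) {n : G} (hn : n ∈ nor P)
    (g : G) : orbIdem P e (n * g * n⁻¹) = orbIdem P e g :=
  (cjF_eq_iff n _).mp ((stabilizesBlock_iff _ _ _).mp
    (stabilizesBlock_orbUnion (fun _ h => isConjSub_cz_of_mem_nor h) e hn)).2 g

theorem orbIdem_mem [M.IsPrime] (P : Subgroup G) {e : Set (IrrCharacter (cz P))}
    (he : IsPBlock M e) (g : G) : MemLocalRing M (orbIdem P e g) :=
  sbc_orbUnion_memLocalRing (fun _ h => isConjSub_cz_of_mem_nor h) he g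

/-- the value of a character of `N_G(P)` over `ξ` on the orbit idempotent -/
theorem om_orbIdem (P : Subgroup G) (e : Set (IrrCharacter (cz P))) {ψ : nor P → ℂ}
    (hψ : IsIrrCharacter (nor P) ψ) (ξ : IrrCharacter (cz P))
    (hc : classInner (ψ ∘ Subgroup.inclusion (centralizer_le_nor P)) (ξ : cz P → ℂ) ≠ 0) :
    om ψ (fun t : nor P => orbIdem P e t) =
      (orbUnion (nor P) (cz P) e).indicator (1 : IrrCharacter (cz P) → ℂ) ξ := by
  have h1 : (fun t : nor P => orbIdem P e t) = brMap P (nor P) (orbIdem P e) := by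
    ext t
    rw [brMap_apply]
    by_cases ht : (t : G) ∈ cz P
    · rw [if_pos ht]
    · rw [if_neg ht]
      exact sbc_not_mem _ _ ht
  rw [h1, om_brMap_eq_brauerOmega (centralizer_le_nor P) le_rfl
    (fun n hn g => orbIdem_inv P e hn g) hψ ξ hc]
  exact brauerOmega_sbc_self P _ ξ

theorem exists_overpair (hM : IsPModular p M) {P : Subgroup G} {e : Set (IrrCharacter (cz P))}
    {B : Set (IrrCharacter G)} (h : IsBrauerPairOf p M B P e) :
    ∃ (b : Set (IrrCharacter (nor P))) (Db : Subgroup (nor P)) (D' : Subgroup G)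
      (g' : Set (IrrCharacter (cz D'))), IsInducedBlock M (nor P) b B ∧
      IsDefectGroup p M b Db ∧ P.subgroupOf (nor P) ≤ Db ∧ Nat.card D' = Nat.card Db ∧
      IsNormalSubpair p M P e D' g' := by
  have := IsPModular.isPrime hM
  have : Fact p.Prime := ⟨hM.1⟩
  have hP := h.1.1
  have he := h.1.2
  obtain ⟨ξ, hξ⟩ := IsPBlock.nonempty he
  obtain ⟨ψ, hψ⟩ := exists_irr_over (Subgroup.inclusion (centralizer_le_nor P))
    (Subgroup.inclusion_injective _) ξ
  have hind := isInducedBlock_of_pair hM h hξ hψ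
  have hb : IsPBlock M (blockOf M (ψ : nor P → ℂ)) := ⟨ψ, rfl⟩
  obtain ⟨Db, hDb⟩ := exists_isDefectGroup hM hb
  have hn : (P.subgroupOf (nor P)).Normal :=
    (Subgroup.normal_subgroupOf_iff_le_normalizer (le_nor P)).mpr le_rfl
  have hp' : IsPGroup p (P.subgroupOf (nor P)) :=
    hP.of_equiv (Subgroup.subgroupOfEquivOfLe (le_nor P)).symm
  have hPDb := normal_le_defectGroup hM hb hDb hn hp'
  obtain ⟨l, hl, hDl⟩ := isDefectGroup_iff.mp hDb
  set D : Subgroup G := Db.map (nor P).subtype with hDdef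
  have hPD : P ≤ D := by
    rw [← Subgroup.map_subgroupOf_eq_of_le (le_nor P)]
    exact Subgroup.map_mono hPDb
  have hDN : D ≤ nor P := Subgroup.map_subtype_le _
  have hDp : IsPGroup p D := hDl.isPGroup.map _
  have hlD : (l : G) ∈ cz D := by
    rw [Subgroup.mem_centralizer_iff]
    rintro _ ⟨u, hu, rfl⟩
    have := Subgroup.mem_centralizer_iff.mp (le_cen_iff.mp hDl.le) u hu
    exact congrArg Subtype.val this
  have hczD : cz D ≤ nor P := (cz_anti hPD).trans (centralizer_le_nor P)
  -- the idempotent of `b`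
  set εb : G → ℂ := subgroupBlockCoeff (nor P) (blockOf M (ψ : nor P → ℂ)) with hεb
  have hdomb : Dom M D εb := ⟨sbc_memLocalRing _ hb, fun u hu g => sbc_conj_mem _ _ (hDN hu) g,
    fun c hc g => sbc_conj_mem _ _ (hczD hc) g⟩
  have hεl : ¬ MemLocalIdeal M (εb l) := by
    rw [hεb, sbc_coe, blockCoeff_eq_coef]
    exact (isDefectClass_iff.mp hl).2.1
  obtain ⟨ζ, hζ⟩ := exists_brauerOmega_eq_one hM hDp hdomb (sbc_idem _ _) hlD hεl
  -- the orbit idempotent
  set s : G → ℂ := orbIdem P e with hs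
  have hdoms : Dom M D s := ⟨orbIdem_mem P he, fun u hu g => orbIdem_inv P e (hDN hu) g,
    fun c hc g => orbIdem_inv P e (hczD hc) g⟩
  have hsN : IsClassFunction (nor P) (fun t : nor P => s t) := fun t k => orbIdem_inv P e k.2 t
  set a : IrrCharacter (nor P) → ℂ := fun ψ' => om (ψ' : nor P → ℂ) (fun t : nor P => s t) with ha
  have haZ : a ∈ ZS M (nor P) := om_mem_ZS hsN (fun t => orbIdem_mem P he t)
  have hsa : (fun t : nor P => s t) = coef a := eq_coef_om hsN
  have haψ : a ψ = 1 := by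
    rw [ha]
    simp only
    rw [hs, om_orbIdem P e ψ.2 ξ hψ, Set.indicator_of_mem (subset_orbUnion _ _ _ hξ)]
    rfl
  have hsext : s = extendByZero (nor P) (coef a) := by
    rw [← hsa]
    ext g
    by_cases hg : g ∈ nor P
    · rw [extendByZero_mem _ _ hg]
    · rw [extendByZero_not_mem _ _ hg]
      exact sbc_not_mem _ _ (fun hc => hg (centralizer_le_nor P hc))
  have hu : conv εb (delta - s) = extendByZero (nor P)
      (coef ((blockOf M (ψ : nor P → ℂ)).indicator 1 * (1 - a))) := by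
    rw [coef_mul, ext_conv, coef_sub, coef_one', hεb, sbc_eq_ext, hsext]
    congr 1
    ext g
    by_cases hg : g ∈ nor P
    · rw [Pi.sub_apply, extendByZero_mem _ _ hg, extendByZero_mem _ _ hg, Pi.sub_apply,
        ← ext_delta (nor P), extendByZero_mem _ _ hg]
    · rw [Pi.sub_apply, extendByZero_not_mem _ _ hg, extendByZero_not_mem _ _ hg,
        ← ext_delta (nor P), extendByZero_not_mem _ _ hg, sub_zero]
  have hnil : TopNil M p (conv εb (delta - s)) := by
    rw [hu]
    apply topNil_ext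
    apply topNil_coef hM
    intro ψ'
    rw [Pi.mul_apply]
    by_cases hψ' : ψ' ∈ blockOf M (ψ : nor P → ℂ)
    · rw [Set.indicator_of_mem hψ', Pi.one_apply, one_mul, Pi.sub_apply, Pi.one_apply, ← haψ]
      exact ZS_congr haZ hψ'
    · rw [Set.indicator_of_notMem hψ', zero_mul]
      exact memLocalIdeal_zero
  have hdomd : Dom M D (delta - s) := (Dom.delta D).sub hdoms
  have h1 := brauerOmega_of_topNil hM hDp (hdomb.conv hdomd) hnil ζ.2
  have h2 := (memLocalIdeal_congr (brauerOmega_conv hM hDp hdomb hdomd ζ.2)).mp h1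
  rw [brauerOmega_sub, brauerOmega_delta D ζ.2] at h2
  have hΛs : MemLocalIdeal M (brauerOmega D s (ζ : cz D → ℂ) - 1) := by
    have h3 := MemLocalIdeal.mul_right hζ
      (MemLocalRing.sub memLocalRing_one (brauerOmega_mem hdoms ζ.2))
    have := MemLocalIdeal.sub h3 h2
    convert this using 1
    ring
  -- the normal subpair below `(D, block of ζ)`
  obtain ⟨e', he'⟩ := exists_normal_subpair hM
    (⟨hDp, ⟨ζ, rfl⟩⟩ : IsBrauerPair p M D (blockOf M (ζ : cz D → ℂ))) hPD hDN
  have hΛe' := he'.2.2.2.2.2 ζ (mem_blockOf_self ζ)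
  have hdome' := dom_of_normalSubpair he'
  have h4 := brauerOmega_conv hM hDp hdoms hdome' ζ.2
  have hne : (orbUnion (nor P) (cz P) e ∩ e').Nonempty := by
    by_contra hcon
    rw [Set.not_nonempty_iff_eq_empty] at hcon
    rw [hs, orbIdem, sbc_conv, hcon, sbc_empty, brauerOmega_zero, zero_sub] at h4
    rw [← orbIdem, ← hs] at h4
    have h5 := MemLocalIdeal.mul_right hΛs (brauerOmega_mem hdome' ζ.2)
    have h6 := MemLocalIdeal.add (MemLocalIdeal.add (MemLocalIdeal.neg h4)
      (MemLocalIdeal.neg h5)) (MemLocalIdeal.neg hΛe')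
    apply not_memLocalIdeal_one (M := M)
    convert h6 using 1
    ring
  obtain ⟨η, hηA, hηe'⟩ := hne
  obtain ⟨m, hm, hmC, hblock⟩ := orbUnion_union_blocks
    (fun _ h => isConjSub_cz_of_mem_nor h) he hηA
  have he'eq : e' = conjSet hmC e := by
    rw [IsPBlock.eq_blockOf he'.1.2 hηe', hblock]
  have hP' : IsConjSub m⁻¹ P P := isConjSub_of_mem_normalizer ((nor P).inv_mem hm)
  have hfin := normalSubpair_conj (isConjSub_map m⁻¹ D) hP' he'
  have hback : conjSet hP'.centralizer e' = e := by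
    apply sbc_injective
    rw [sbc_conjSet, he'eq, sbc_conjSet, cjF_inv_cjF]
  rw [hback] at hfin
  refine ⟨_, Db, _, _, hind, hDb, hPDb, ?_, hfin⟩
  rw [(isConjSub_map m⁻¹ D).card_eq, hDdef,
    Subgroup.card_map_of_injective (Subgroup.subtype_injective _)]

/-- The subgroup of a maximal Brauer pair of `B` is a defect group of `B`. -/
theorem isDefectGroup_of_maximal (hM : IsPModular p M) {P : Subgroup G}
    {e : Set (IrrCharacter (cz P))} {B : Set (IrrCharacter G)}
    (hmax : IsMaximalBrauerPair p M B P e) : IsDefectGroup p M B P := by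
  have : Fact p.Prime := ⟨hM.1⟩
  obtain ⟨b, Db, D', g', hind, hDb, hPDb, hcard, hsub⟩ := exists_overpair hM hmax.1
  have hB := hmax.1.2.1
  have h1 : IsBrauerPairOf p M B D' g' :=
    (isBrauerPairOf_iff_of_normalSubpair hM hsub hB).mpr hmax.1
  have h2 : D' = P := hmax.2 D' g' h1 (Relation.ReflTransGen.single hsub)
  have hc3 : Nat.card (P.subgroupOf (nor P)) = Nat.card P :=
    Nat.card_congr (Subgroup.subgroupOfEquivOfLe (le_nor P)).toEquiv
  have h3 : P.subgroupOf (nor P) = Db := by
    apply Subgroup.eq_of_le_of_card_ge hPDb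
    rw [hc3, ← hcard, h2]
  rw [← h3] at hDb
  exact isDefectGroup_of_induced_nor hM hmax.1.1.1 hDb hind

end

end Cfsg.Agent.Lib.Helper24
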