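import Cfsg.Agent.Lib.Helper24.BrauerPair4
import Cfsg.Agent.Lib.Helper24.BlockUtil

/-!
# Brauer pairs of the principal block: the easy half of the Third Main Theorem
-/

set_option autoImplicit false

namespace Cfsg.Agent.Lib.Helper24

open Cfsg Cfsg.Agent.Lib.Helper2 Cfsg.Agent.Lib.Helper6
open scoped ComplexConjugate Classical

attribute [local instance] irrFintype

section

variable {G : Type*} [Group G] [Fintype G] {M : Ideal AlgInt} {p : ℕ}

theorem brauerOmega_one (P : Subgroup G) (β : G → ℂ) :
    brauerOmega P β (oneIrr (cz P) : cz P → ℂ) = ∑ g : G, (if g ∈ cz P then β g else 0) := by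
  rw [brauerOmega_eq_om, om]
  simp only [oneIrr_apply, mul_one, div_one]
  apply Fintype.sum_of_injective (Subtype.val : cz P → G) Subtype.val_injective
  · intro x hx
    rw [if_neg]
    intro hxc
    exact hx ⟨⟨x, hxc⟩, rfl⟩
  · intro x
    rw [if_pos x.2]
    rfl

/-- The augmentation is compatible with the Brauer map. -/
theorem brauerOmega_one_sub_sum (hM : IsPModular p M) {P : Subgroup G} (hP : IsPGroup p P)
    {β : G → ℂ} (hS : ∀ g, MemLocalRing M (β g)) (hinv : ∀ u ∈ P, ∀ g, β (u * g * u⁻¹) = β g) :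
    MemLocalIdeal M (brauerOmega P β (oneIrr (cz P) : cz P → ℂ) - ∑ g : G, β g) := by
  have := IsPModular.isPrime hM
  have : Fact p.Prime := ⟨hM.1⟩
  obtain ⟨s, hs, hsum⟩ := sum_eq_sum_fixed_add hP (conjPerm P) β (by
    intro u x
    rw [conjPerm_apply]
    exact hinv u u.2 x) (localSubring M).toAddSubgroup hS
  rw [brauerOmega_one]
  have h3 : ∑ g : G, β g = ∑ g : G, (if g ∈ cz P then β g else 0) + p * s := by
    rw [hsum]
    congr 1
    refine Finset.sum_congr rfl fun x _ => ?_
    by_cases hx : x ∈ cz P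
    · rw [if_pos hx, if_pos ((conjPerm_fixed_iff P x).mpr hx)]
    · rw [if_neg hx, if_neg (fun h => hx ((conjPerm_fixed_iff P x).mp h))]
  rw [h3]
  have h2 := MemLocalIdeal.neg (MemLocalIdeal.mul_right (memLocalIdeal_p hM) hs)
  convert h2 using 1
  ring

theorem sum_sbc_principal [M.IsPrime] (K : Subgroup G) :
    ∑ g : G, subgroupBlockCoeff K (principalBlock M K) g = 1 := by
  rw [sbc_eq_ext, sum_extendByZero]
  have h1 := om_coef ((principalBlock M K).indicator 1) (oneIrr K)
  rw [Set.indicator_of_mem (oneIrr_mem_principalBlock M), om] at h1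
  simpa [oneIrr_apply] using h1

theorem sum_blockCoeff_principal [M.IsPrime] :
    ∑ g : G, blockCoeff (principalBlock M G) g = 1 := by
  have h1 := om_coef ((principalBlock M G).indicator 1) (oneIrr G)
  rw [Set.indicator_of_mem (oneIrr_mem_principalBlock M), om] at h1
  rw [blockCoeff_fun]
  simpa [oneIrr_apply] using h1

theorem stabilizesBlock_principal {K : Subgroup G} {x : G} (hx : IsConjSub x K K) :
    StabilizesBlock K (principalBlock M K) x := by
  rw [stabilizesBlock_iff]
  refine ⟨hx.mem_normalizer, ?_⟩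
  rw [← sbc_conjSet hx, conjSet_principalBlock]

/-- `(Q, b₀(C_G(Q)))` is a Brauer pair of the principal block. -/
theorem isBrauerPairOf_principal (hM : IsPModular p M) {Q : Subgroup G} (hQ : IsPGroup p Q) :
    IsBrauerPairOf p M (principalBlock M G) Q (principalBlock M (cz Q)) := by
  have := IsPModular.isPrime hM
  refine ⟨⟨hQ, isPBlock_principalBlock M⟩, isPBlock_principalBlock M, fun ξ hξ => ?_⟩
  have hdom := dom_blockCoeff (M := M) Q (isPBlock_principalBlock (G := G) M)
  have h1 := brauerOmega_sameBlock hdom ξ.2 (oneIrr (cz Q)).2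
    (IsPBlock.sameBlock (isPBlock_principalBlock M) hξ (oneIrr_mem_principalBlock M))
  have h2 := brauerOmega_one_sub_sum hM hQ hdom.mem hdom.invP
  rw [sum_blockCoeff_principal] at h2
  have := MemLocalIdeal.add h1 h2
  simpa using this

theorem normalSubpair_principal (hM : IsPModular p M) {Q R : Subgroup G} (hR : IsPGroup p R)
    (hQR : Q ≤ R) (hRN : R ≤ Subgroup.normalizer (Q : Set G)) :
    IsNormalSubpair p M Q (principalBlock M (cz Q)) R (principalBlock M (cz R)) := by
  have := IsPModular.isPrime hM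
  have hst : ∀ x ∈ R, StabilizesBlock (cz Q) (principalBlock M (cz Q)) x := fun x hx =>
    stabilizesBlock_principal (isConjSub_of_mem_normalizer (hRN hx)).centralizer
  refine ⟨⟨hR.to_le hQR, isPBlock_principalBlock M⟩, ⟨hR, isPBlock_principalBlock M⟩, hQR, hRN,
    hst, fun ξ hξ => ?_⟩
  have hdom := dom_sbc hQR (isPBlock_principalBlock (G := cz Q) M) hst
  have h1 := brauerOmega_sameBlock hdom ξ.2 (oneIrr (cz R)).2
    (IsPBlock.sameBlock (isPBlock_principalBlock M) hξ (oneIrr_mem_principalBlock M))
  have h2 := brauerOmega_one_sub_sum hM hR hdom.mem hdom.invP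
  rw [sum_sbc_principal] at h2
  have := MemLocalIdeal.add h1 h2
  simpa using this

theorem PLE_principal (hM : IsPModular p M) {P : Subgroup G} (hP : IsPGroup p P) :
    ∀ (n : ℕ) (Q : Subgroup G), Q ≤ P → Nat.card P - Nat.card Q = n →
      PLE p M ⟨Q, principalBlock M (cz Q)⟩ ⟨P, principalBlock M (cz P)⟩ := by
  have : Fact p.Prime := ⟨hM.1⟩
  intro n
  induction n using Nat.strong_induction_on with
  | _ n ih =>
    intro Q hQ hn
    rcases eq_or_lt_of_le hQ with rfl | hlt
    · exact Relation.ReflTransGen.refl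
    · obtain ⟨x, hxP, hxQ, hxN⟩ := exists_mem_normalizer_not_mem hP hlt
      set R : Subgroup G := P ⊓ Subgroup.normalizer (Q : Set G) with hR
      have hQR : Q ≤ R := le_inf hQ Subgroup.le_normalizer
      have hQR' : Q < R := lt_of_le_of_ne hQR (fun h => hxQ (h ▸ ⟨hxP, hxN⟩))
      have hc1 : Nat.card Q < Nat.card R := card_lt_of_lt' hQR'
      have hc2 : Nat.card R ≤ Nat.card P := Subgroup.card_le_of_le inf_le_left
      have hg := ih (Nat.card P - Nat.card R) (by omega) R inf_le_left rfl
      have hstep : NormalSubpairRel p M ⟨Q, principalBlock M (cz Q)⟩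
          ⟨R, principalBlock M (cz R)⟩ :=
        normalSubpair_principal hM (hP.to_le inf_le_left) hQR inf_le_right
      exact Relation.ReflTransGen.head hstep hg

theorem subpairLE_principal (hM : IsPModular p M) {P Q : Subgroup G} (hP : IsPGroup p P)
    (hQP : Q ≤ P) :
    SubpairLE p M Q (principalBlock M (cz Q)) P (principalBlock M (cz P)) :=
  PLE_principal hM hP _ Q hQP rfl

theorem conjBlock_principal (Q : Subgroup G) (x : G) :
    conjBlock Q x (principalBlock M (cz Q)) =
      principalBlock M (cz (Q.map (MulAut.conj x).toMonoidHom)) := by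
  rw [conjBlock_eq_conjSet, conjSet_principalBlock]

end

end Cfsg.Agent.Lib.Helper24
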