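import Cfsg.Agent.Lib.Helper24.BrauerMax2
import Cfsg.Agent.Lib.Helper24.BrauerPrincipal

/-!
# Conjugacy of maximal Brauer pairs; the Third Main Theorem for Brauer pairs
-/

set_option autoImplicit false

namespace Cfsg.Agent.Lib.Helper24

open Cfsg Cfsg.Agent.Lib.Helper2 Cfsg.Agent.Lib.Helper6
open scoped ComplexConjugate Classical

attribute [local instance] irrFintype

section

variable {G : Type*} [Group G] [Fintype G] {M : Ideal AlgInt} {p : ℕ}

/-- Two Brauer pairs of `B` on a defect group `P` of `B` are conjugate under `N_G(P)`. -/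
theorem pairs_on_defectGroup_conj (hM : IsPModular p M) {P : Subgroup G}
    {e e₂ : Set (IrrCharacter (cz P))} {B : Set (IrrCharacter G)} (hD : IsDefectGroup p M B P)
    (h : IsBrauerPairOf p M B P e) (h₂ : IsBrauerPairOf p M B P e₂) :
    ∃ n ∈ nor P, ∃ hn : IsConjSub n (cz P) (cz P), e₂ = conjSet hn e := by
  have := IsPModular.isPrime hM
  have : Fact p.Prime := ⟨hM.1⟩
  have hP := h.1.1
  have he := h.1.2
  have hB := h.2.1
  obtain ⟨ξ, hξ⟩ := IsPBlock.nonempty he
  obtain ⟨ψ, hψ⟩ := exists_irr_over (Subgroup.inclusion (centralizer_le_nor P))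
    (Subgroup.inclusion_injective _) ξ
  obtain ⟨ξ₂, hξ₂⟩ := IsPBlock.nonempty h₂.1.2
  obtain ⟨ψ₂, hψ₂⟩ := exists_irr_over (Subgroup.inclusion (centralizer_le_nor P))
    (Subgroup.inclusion_injective _) ξ₂
  have hind := isInducedBlock_of_pair hM h hξ hψ
  have hind₂ := isInducedBlock_of_pair hM h₂ hξ₂ hψ₂
  obtain ⟨b₀, -, hDb₀, hind₀⟩ := exists_brauer_correspondent hM hB hD
  have e1 := brauer_correspondent_unique hM hP hDb₀ hind₀ hind
  have e2 := brauer_correspondent_unique hM hP hDb₀ hind₀ hind₂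
  have hsame : SameBlock M (ψ : nor P → ℂ) (ψ₂ : nor P → ℂ) := by
    have : ψ₂ ∈ blockOf M (ψ : nor P → ℂ) := by
      rw [e1, ← e2]
      exact mem_blockOf_self ψ₂
    exact this
  have hsN : IsClassFunction (nor P) (fun t : nor P => orbIdem P e t) :=
    fun t k => orbIdem_inv P e k.2 t
  have h1 := om_sub_memLocalIdeal ψ.2 ψ₂.2 hsame hsN (fun t => orbIdem_mem P he t)
  rw [om_orbIdem P e ψ.2 ξ hψ, om_orbIdem P e ψ₂.2 ξ₂ hψ₂,
    Set.indicator_of_mem (subset_orbUnion _ _ _ hξ)] at h1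
  have hξ₂A : ξ₂ ∈ orbUnion (nor P) (cz P) e := by
    by_contra hcon
    rw [Set.indicator_of_notMem hcon, sub_zero] at h1
    exact not_memLocalIdeal_one h1
  obtain ⟨n, hn, hnC, hblock⟩ := orbUnion_union_blocks
    (fun _ h => isConjSub_cz_of_mem_nor h) he hξ₂A
  exact ⟨n, hn, hnC, by rw [IsPBlock.eq_blockOf h₂.1.2 hξ₂, hblock]⟩

/-- Every Brauer pair of `B` lies below a maximal one. -/
theorem exists_maximal_ge {B : Set (IrrCharacter G)} :
    ∀ (n : ℕ) (a : BrauerPairIdx G), IsBrauerPairOf p M B a.1 a.2 →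
      Nat.card G - Nat.card a.1 = n →
      ∃ c : BrauerPairIdx G, PLE p M a c ∧ IsMaximalBrauerPair p M B c.1 c.2 := by
  intro n
  induction n using Nat.strong_induction_on with
  | _ n ih =>
    intro a ha hn
    by_cases hmax : IsMaximalBrauerPair p M B a.1 a.2
    · exact ⟨a, Relation.ReflTransGen.refl, hmax⟩
    · unfold IsMaximalBrauerPair at hmax
      push Not at hmax
      obtain ⟨R, g, hRg, hle, hne⟩ := hmax ha
      have hle' : PLE p M a ⟨R, g⟩ := hle
      have hlt : a.1 < R := lt_of_le_of_ne (PLE.le hle') (Ne.symm hne)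
      have hc1 := card_lt_of_lt' hlt
      have hc2 : Nat.card R ≤ Nat.card G := Subgroup.card_le_card_group R
      obtain ⟨c, hc, hcmax⟩ := ih (Nat.card G - Nat.card R) (by omega) ⟨R, g⟩ hRg rfl
      exact ⟨c, hle'.trans hc, hcmax⟩

/-- Every Brauer pair of `B` is conjugate to a pair below a given maximal one. -/
theorem exists_conj_le_maximal (hM : IsPModular p M) {B : Set (IrrCharacter G)}
    {P Q : Subgroup G} {e : Set (IrrCharacter (cz P))} {f : Set (IrrCharacter (cz Q))}
    (hmax : IsMaximalBrauerPair p M B P e) (hQf : IsBrauerPairOf p M B Q f) :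
    ∃ x : G, SubpairLE p M (Q.map (MulAut.conj x).toMonoidHom) (conjBlock Q x f) P e := by
  have : Fact p.Prime := ⟨hM.1⟩
  have hB := hQf.2.1
  obtain ⟨⟨P', e'⟩, hle, hmax'⟩ := exists_maximal_ge (p := p) (M := M) _ ⟨Q, f⟩ hQf rfl
  have hD := isDefectGroup_of_maximal hM hmax
  have hD' := isDefectGroup_of_maximal hM hmax'
  obtain ⟨y, hy⟩ := isDefectGroup_exists_conj hM hB hD' hD
  have hyP : IsConjSub y P' P := by
    rw [hy]
    exact isConjSub_map y P'
  have h2 := isBrauerPairOf_conj hyP hmax'.1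
  obtain ⟨n, hn, hnC, hne⟩ := pairs_on_defectGroup_conj hM hD h2 hmax.1
  refine ⟨n * y, ?_⟩
  have h3 : cjIdx (n * y) ⟨P', e'⟩ = ⟨P, e⟩ := by
    apply cjIdx_eq (hyP.mul (isConjSub_of_mem_normalizer hn))
    rw [hne, sbc_conjSet, sbc_conjSet, cjF_mul]
  have h4 := PLE_cjIdx (n * y) hle
  rw [h3] at h4
  exact h4

theorem isMaximalBrauerPair_principal (hM : IsPModular p M) [Fact p.Prime] (S : Sylow p G) :
    IsMaximalBrauerPair p M (principalBlock M G) (S : Subgroup G)
      (principalBlock M (cz (S : Subgroup G))) :=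
  ⟨isBrauerPairOf_principal hM S.2, fun _ _ hR hle => S.3 hR.1.1 (PLE.le hle)⟩

/-- **Brauer's Third Main Theorem** for Brauer pairs. -/
theorem isBrauerPairOf_principal_iff (hM : IsPModular p M) {Q : Subgroup G} (hQ : IsPGroup p Q)
    (e : Set (IrrCharacter (cz Q))) :
    IsBrauerPairOf p M (principalBlock M G) Q e ↔ e = principalBlock M (cz Q) := by
  have : Fact p.Prime := ⟨hM.1⟩
  constructor
  · intro h
    obtain ⟨S⟩ : Nonempty (Sylow p G) := inferInstance
    obtain ⟨x, hx⟩ := exists_conj_le_maximal hM (isMaximalBrauerPair_principal hM S) h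
    have hle : Q.map (MulAut.conj x).toMonoidHom ≤ (S : Subgroup G) := PLE.le hx
    have h1 := subpairLE_principal hM S.2 hle
    have h2 := PLE_unique hM _ _ _ _ _ rfl hx h1
    apply sbc_injective
    have h3 := congrArg (subgroupBlockCoeff _) h2
    rw [← conjBlock_principal, sbc_conjBlock, sbc_conjBlock] at h3
    have h4 := congrArg (cjF x⁻¹) h3
    rwa [cjF_inv_cjF, cjF_inv_cjF] at h4
  · rintro rfl
    exact isBrauerPairOf_principal hM hQ

end

end Cfsg.Agent.Lib.Helper24
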