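import Cfsg.Prelude.Def_BrauerPairs
import Cfsg.Agent.Lib.Helper6.FirstMain2

/-!
# Brauer pairs: the Brauer functional at a `p`-subgroup
-/

set_option autoImplicit false

namespace Cfsg.Agent.Lib.Helper24

open Cfsg Cfsg.Agent.Lib.Helper2 Cfsg.Agent.Lib.Helper6
open scoped ComplexConjugate Classical

attribute [local instance] irrFintype

section

variable {G : Type*} [Group G] [Fintype G] {M : Ideal AlgInt} {p : ℕ}

/-- the centralizer of a subgroup -/
abbrev cz (P : Subgroup G) : Subgroup G := Subgroup.centralizer (P : Set G)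

/-- restriction of a function to the centralizer of `P` -/
def resC (P : Subgroup G) (β : G → ℂ) : cz P → ℂ := fun c => β c

omit [Fintype G] in
theorem resC_apply (P : Subgroup G) (β : G → ℂ) (c : cz P) : resC P β c = β c := rfl

theorem brauerOmega_eq_om (P : Subgroup G) (β : G → ℂ) (ξ : cz P → ℂ) :
    brauerOmega P β ξ = om ξ (resC P β) := by
  rw [brauerOmega, finsum_eq_sum_of_fintype, om, Finset.sum_div]
  rfl

/-- The domain of the Brauer functional at `P`: functions with local integer values that are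
invariant under `P` and under `C_G(P)`. -/
structure Dom (M : Ideal AlgInt) (P : Subgroup G) (β : G → ℂ) : Prop where
  mem : ∀ g, MemLocalRing M (β g)
  invP : ∀ u ∈ P, ∀ g, β (u * g * u⁻¹) = β g
  invC : ∀ c ∈ cz P, ∀ g, β (c * g * c⁻¹) = β g

omit [Fintype G] in
theorem Dom.of_class {P : Subgroup G} {β : G → ℂ} (h : IsClassFunction G β)
    (hS : ∀ g, MemLocalRing M (β g)) : Dom M P β :=
  ⟨hS, fun u _ g => h g u, fun c _ g => h g c⟩

theorem Dom.conv [M.IsPrime] {P : Subgroup G} {β β' : G → ℂ} (h : Dom M P β) (h' : Dom M P β') :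
    Dom M P (conv β β') :=
  ⟨memLocalRing_conv h.mem h'.mem, fun u hu g => conv_conj_inv (h.invP u hu) (h'.invP u hu) g,
    fun c hc g => conv_conj_inv (h.invC c hc) (h'.invC c hc) g⟩

omit [Fintype G] in
theorem Dom.add [M.IsPrime] {P : Subgroup G} {β β' : G → ℂ} (h : Dom M P β) (h' : Dom M P β') :
    Dom M P (β + β') :=
  ⟨fun g => MemLocalRing.add (h.mem g) (h'.mem g),
    fun u hu g => by simp only [Pi.add_apply, h.invP u hu, h'.invP u hu],
    fun c hc g => by simp only [Pi.add_apply, h.invC c hc, h'.invC c hc]⟩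

omit [Fintype G] in
theorem Dom.sub [M.IsPrime] {P : Subgroup G} {β β' : G → ℂ} (h : Dom M P β) (h' : Dom M P β') :
    Dom M P (β - β') :=
  ⟨fun g => MemLocalRing.sub (h.mem g) (h'.mem g),
    fun u hu g => by simp only [Pi.sub_apply, h.invP u hu, h'.invP u hu],
    fun c hc g => by simp only [Pi.sub_apply, h.invC c hc, h'.invC c hc]⟩

omit [Fintype G] in
theorem Dom.delta [M.IsPrime] (P : Subgroup G) : Dom M P (delta : G → ℂ) :=
  Dom.of_class isClassFunction_delta memLocalRing_delta

theorem Dom.cpow [M.IsPrime] {P : Subgroup G} {β : G → ℂ} (h : Dom M P β) (n : ℕ) :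
    Dom M P (cpow β n) := by
  induction n with
  | zero => exact Dom.delta P
  | succ n ih => rw [cpow_succ]; exact h.conv ih

omit [Fintype G] in
theorem Dom.isClassFunction_resC {P : Subgroup G} {β : G → ℂ} (h : Dom M P β) :
    IsClassFunction (cz P) (resC P β) := by
  intro c k
  exact h.invC k k.2 c

omit [Fintype G] in
theorem Dom.mem_resC {P : Subgroup G} {β : G → ℂ} (h : Dom M P β) (c : cz P) :
    MemLocalRing M (resC P β c) := h.mem c

/-- The truncation to `C_G(P)` is multiplicative modulo the local ideal. -/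
theorem resC_conv (hM : IsPModular p M) {P : Subgroup G} (hP : IsPGroup p P) {β β' : G → ℂ}
    (h : Dom M P β) (h' : Dom M P β') (c : cz P) :
    MemLocalIdeal M (resC P (conv β β') c - conv (resC P β) (resC P β') c) := by
  have := IsPModular.isPrime hM
  obtain ⟨s, hs, hsum⟩ := conv_eq_sum_centralizer_add hM hP h.invP h'.invP h.mem h'.mem c.2
  have h3 : conv (resC P β) (resC P β') c = ∑ x : G,
      (if x ∈ cz P then β x * β' (x⁻¹ * c) else 0) := by
    rw [conv_apply]
    apply Fintype.sum_of_injective (Subtype.val : cz P → G) Subtype.val_injective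
    · intro x hx
      rw [if_neg]
      intro hxc
      exact hx ⟨⟨x, hxc⟩, rfl⟩
    · intro x
      rw [if_pos x.2]
      rfl
  rw [resC_apply, hsum, h3, add_sub_cancel_left]
  exact MemLocalIdeal.mul_right (memLocalIdeal_p hM) hs

theorem brauerOmega_add (P : Subgroup G) (β β' : G → ℂ) (ξ : cz P → ℂ) :
    brauerOmega P (β + β') ξ = brauerOmega P β ξ + brauerOmega P β' ξ := by
  rw [brauerOmega_eq_om, brauerOmega_eq_om, brauerOmega_eq_om, ← om_add]
  rfl

theorem brauerOmega_sub (P : Subgroup G) (β β' : G → ℂ) (ξ : cz P → ℂ) :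
    brauerOmega P (β - β') ξ = brauerOmega P β ξ - brauerOmega P β' ξ := by
  rw [brauerOmega_eq_om, brauerOmega_eq_om, brauerOmega_eq_om, ← om_sub]
  rfl

theorem brauerOmega_smul (P : Subgroup G) (c : ℂ) (β : G → ℂ) (ξ : cz P → ℂ) :
    brauerOmega P (c • β) ξ = c * brauerOmega P β ξ := by
  rw [brauerOmega_eq_om, brauerOmega_eq_om, ← om_smul]
  rfl

theorem brauerOmega_zero (P : Subgroup G) (ξ : cz P → ℂ) : brauerOmega P 0 ξ = 0 := by
  have := brauerOmega_smul P 0 0 ξ
  simpa using this

theorem brauerOmega_sum (P : Subgroup G) {ι : Type*} (s : Finset ι) (β : ι → G → ℂ)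
    (ξ : cz P → ℂ) : brauerOmega P (∑ i ∈ s, β i) ξ = ∑ i ∈ s, brauerOmega P (β i) ξ := by
  induction s using Finset.induction_on with
  | empty => simpa using brauerOmega_zero P ξ
  | insert a s ha ih => rw [Finset.sum_insert ha, Finset.sum_insert ha, brauerOmega_add, ih]

theorem brauerOmega_congr (P : Subgroup G) {β β' : G → ℂ} (h : ∀ c ∈ cz P, β c = β' c)
    (ξ : cz P → ℂ) : brauerOmega P β ξ = brauerOmega P β' ξ := by
  rw [brauerOmega_eq_om, brauerOmega_eq_om]
  congr 1
  ext c
  exact h c c.2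

theorem brauerOmega_delta (P : Subgroup G) {ξ : cz P → ℂ} (hξ : IsIrrCharacter (cz P) ξ) :
    brauerOmega P delta ξ = 1 := by
  rw [brauerOmega_eq_om]
  have : resC P (delta : G → ℂ) = delta := by
    ext c
    rw [resC_apply, delta_apply, delta_apply]
    by_cases hc : c = 1
    · rw [if_pos hc, if_pos (by rw [hc]; rfl)]
    · have hc' : ¬ ((c : G) = 1) := fun h => hc (Subtype.ext h)
      rw [if_neg hc, if_neg hc']
  rw [this, om_delta hξ]

theorem brauerOmega_mem [M.IsPrime] {P : Subgroup G} {β : G → ℂ} (h : Dom M P β)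
    {ξ : cz P → ℂ} (hξ : IsIrrCharacter (cz P) ξ) : MemLocalRing M (brauerOmega P β ξ) := by
  rw [brauerOmega_eq_om]
  exact om_memLocalRing hξ h.isClassFunction_resC h.mem_resC

theorem brauerOmega_conv (hM : IsPModular p M) {P : Subgroup G} (hP : IsPGroup p P)
    {β β' : G → ℂ} (h : Dom M P β) (h' : Dom M P β') {ξ : cz P → ℂ}
    (hξ : IsIrrCharacter (cz P) ξ) :
    MemLocalIdeal M (brauerOmega P (conv β β') ξ - brauerOmega P β ξ * brauerOmega P β' ξ) := by
  have := IsPModular.isPrime hM
  rw [brauerOmega_eq_om, brauerOmega_eq_om, brauerOmega_eq_om,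
    ← om_conv hξ h.isClassFunction_resC h'.isClassFunction_resC, ← om_sub]
  apply om_memLocalIdeal hξ
  · exact isClassFunction_sub (h.conv h').isClassFunction_resC
      (isClassFunction_conv h.isClassFunction_resC h'.isClassFunction_resC)
  · intro c
    exact resC_conv hM hP h h' c

theorem brauerOmega_sameBlock [M.IsPrime] {P : Subgroup G} {β : G → ℂ} (h : Dom M P β)
    {ξ ξ' : cz P → ℂ} (hξ : IsIrrCharacter (cz P) ξ) (hξ' : IsIrrCharacter (cz P) ξ')
    (hs : SameBlock M ξ ξ') : MemLocalIdeal M (brauerOmega P β ξ - brauerOmega P β ξ') := by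
  rw [brauerOmega_eq_om, brauerOmega_eq_om]
  exact om_sub_memLocalIdeal hξ hξ' hs h.isClassFunction_resC h.mem_resC

theorem brauerOmega_memLocalIdeal [M.IsPrime] {P : Subgroup G} {β : G → ℂ} (h : Dom M P β)
    (h0 : ∀ c ∈ cz P, MemLocalIdeal M (β c)) {ξ : cz P → ℂ} (hξ : IsIrrCharacter (cz P) ξ) :
    MemLocalIdeal M (brauerOmega P β ξ) := by
  rw [brauerOmega_eq_om]
  exact om_memLocalIdeal hξ h.isClassFunction_resC fun c => h0 c c.2

theorem brauerOmega_cpow (hM : IsPModular p M) {P : Subgroup G} (hP : IsPGroup p P)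
    {β : G → ℂ} (h : Dom M P β) {ξ : cz P → ℂ} (hξ : IsIrrCharacter (cz P) ξ) (n : ℕ) :
    MemLocalIdeal M (brauerOmega P (cpow β n) ξ - brauerOmega P β ξ ^ n) := by
  have := IsPModular.isPrime hM
  induction n with
  | zero =>
    rw [cpow_zero, brauerOmega_delta P hξ, pow_zero, sub_self]
    exact memLocalIdeal_zero
  | succ n ih =>
    have h1 := brauerOmega_conv hM hP h (h.cpow n) hξ
    have h2 := MemLocalIdeal.mul_left (brauerOmega_mem h hξ) ih
    have := MemLocalIdeal.add h1 h2
    rw [cpow_succ]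
    convert this using 1
    ring

/-- The Brauer functional kills topologically nilpotent elements. -/
theorem brauerOmega_of_topNil (hM : IsPModular p M) {P : Subgroup G} (hP : IsPGroup p P)
    {β : G → ℂ} (h : Dom M P β) (hn : TopNil M p β) {ξ : cz P → ℂ}
    (hξ : IsIrrCharacter (cz P) ξ) : MemLocalIdeal M (brauerOmega P β ξ) := by
  have := IsPModular.isPrime hM
  obtain ⟨K, hK⟩ := hn 1
  have h1 : MemLocalIdeal M (brauerOmega P (cpow β K) ξ) :=
    brauerOmega_memLocalIdeal (h.cpow K)
      (fun c _ => PDiv.memLocalIdeal hM one_pos (hK K le_rfl c)) hξ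
  exact MemLocalIdeal.of_pow (brauerOmega_mem h hξ)
    ((memLocalIdeal_congr (brauerOmega_cpow hM hP h hξ K)).mp h1)

/-- On an idempotent the Brauer functional is `0` or `1` modulo the local ideal. -/
theorem brauerOmega_idem (hM : IsPModular p M) {P : Subgroup G} (hP : IsPGroup p P)
    {β : G → ℂ} (h : Dom M P β) (hi : conv β β = β) {ξ : cz P → ℂ}
    (hξ : IsIrrCharacter (cz P) ξ) :
    MemLocalIdeal M (brauerOmega P β ξ) ∨ MemLocalIdeal M (brauerOmega P β ξ - 1) := by
  have := IsPModular.isPrime hM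
  have h1 := brauerOmega_conv hM hP h h hξ
  rw [hi] at h1
  have hm := brauerOmega_mem h hξ
  have h2 : MemLocalIdeal M (brauerOmega P β ξ * (brauerOmega P β ξ - 1)) := by
    have := MemLocalIdeal.neg h1
    convert this using 1
    ring
  exact MemLocalIdeal.of_mul hm (MemLocalRing.sub hm memLocalRing_one) h2

theorem blockCoeff_fun (B : Set (IrrCharacter G)) : blockCoeff B = coef (B.indicator 1) :=
  funext fun g => blockCoeff_eq_coef B g

theorem dom_blockCoeff [M.IsPrime] (P : Subgroup G) {B : Set (IrrCharacter G)}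
    (hB : IsPBlock M B) : Dom M P (blockCoeff B) := by
  rw [blockCoeff_fun]
  exact Dom.of_class (isClassFunction_coef _) (IsPBlock.indicator_mem_ZS hB)

/-- The Brauer functional at `(P, ξ)`, restricted to the centre of the group algebra of `G`, is
the central character of a block of `G`. -/
theorem exists_block_of_brauerOmega (hM : IsPModular p M) {P : Subgroup G} (hP : IsPGroup p P)
    {ξ : cz P → ℂ} (hξ : IsIrrCharacter (cz P) ξ) :
    ∃ B : Set (IrrCharacter G), IsPBlock M B ∧ ∀ χ ∈ B, ∀ F : G → ℂ, IsClassFunction G F →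
      (∀ g, MemLocalRing M (F g)) → MemLocalIdeal M (brauerOmega P F ξ - om (χ : G → ℂ) F) := by
  have := IsPModular.isPrime hM
  have hΛ : IsCentralHom M (fun F : G → ℂ => brauerOmega P F ξ) := by
    refine ⟨fun F F' => brauerOmega_add P F F' ξ, fun c F => brauerOmega_smul P c F ξ,
      fun F hF hFS => brauerOmega_mem (Dom.of_class hF hFS) hξ,
      fun F F' hF hFS hF' hFS' =>
        brauerOmega_conv hM hP (Dom.of_class hF hFS) (Dom.of_class hF' hFS') hξ, ?_⟩
    rw [brauerOmega_delta P hξ, sub_self]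
    exact memLocalIdeal_zero
  exact exists_block_of_centralHom hM hΛ

/-- Every Brauer pair belongs to exactly one block. -/
theorem existsUnique_block_of_pair (hM : IsPModular p M) {P : Subgroup G}
    {e : Set (IrrCharacter (cz P))} (hPe : IsBrauerPair p M P e) :
    ∃! B : Set (IrrCharacter G), IsBrauerPairOf p M B P e := by
  have := IsPModular.isPrime hM
  obtain ⟨hP, he⟩ := hPe
  obtain ⟨ξ₀, hξ₀⟩ := IsPBlock.nonempty he
  obtain ⟨B, hB, hΛ⟩ := exists_block_of_brauerOmega hM hP ξ₀.2
  obtain ⟨χ, hχ⟩ := IsPBlock.nonempty hB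
  have key : ∀ B' : Set (IrrCharacter G), IsPBlock M B' →
      MemLocalIdeal M (brauerOmega P (blockCoeff B') (ξ₀ : cz P → ℂ) -
        (B'.indicator 1 : IrrCharacter G → ℂ) χ) := by
    intro B' hB'
    have h1 := hΛ χ hχ (coef (B'.indicator 1)) (isClassFunction_coef _)
      (IsPBlock.indicator_mem_ZS hB')
    rwa [om_coef, ← blockCoeff_fun] at h1
  refine ⟨B, ⟨⟨hP, he⟩, hB, ?_⟩, ?_⟩
  · intro ξ hξ
    have h1 := brauerOmega_sameBlock (dom_blockCoeff P hB) ξ.2 ξ₀.2 (IsPBlock.sameBlock he hξ hξ₀)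
    have h2 := key B hB
    rw [Set.indicator_of_mem hχ] at h2
    have := MemLocalIdeal.add h1 h2
    simpa using this
  · rintro B' ⟨-, hB', h'⟩
    have h1 := h' ξ₀ hξ₀
    have h2 := key B' hB'
    by_cases hχ' : χ ∈ B'
    · exact IsPBlock.eq_of_mem_of_mem hB' hB hχ' hχ
    · exfalso
      rw [Set.indicator_of_notMem hχ', sub_zero] at h2
      have := MemLocalIdeal.sub h2 h1
      rw [sub_sub_cancel] at this
      exact not_memLocalIdeal_one this

end

end Cfsg.Agent.Lib.Helper24
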