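import Cfsg.Agent.Lib.Helper24.BlockConj

/-!
# Brauer pairs: normal subpairs
-/

set_option autoImplicit false

namespace Cfsg.Agent.Lib.Helper24

open Cfsg Cfsg.Agent.Lib.Helper2 Cfsg.Agent.Lib.Helper6
open scoped ComplexConjugate Classical

attribute [local instance] irrFintype

section

variable {G : Type*} [Group G] [Fintype G] {M : Ideal AlgInt} {p : ℕ}

omit [Fintype G] in
theorem cz_anti {Q P : Subgroup G} (h : Q ≤ P) : cz P ≤ cz Q := Subgroup.centralizer_le h

theorem brauerOmega_mem' [M.IsPrime] {P : Subgroup G} {β : G → ℂ}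
    (hS : ∀ g, MemLocalRing M (β g)) (hC : ∀ c ∈ cz P, ∀ g, β (c * g * c⁻¹) = β g)
    {ξ : cz P → ℂ} (hξ : IsIrrCharacter (cz P) ξ) : MemLocalRing M (brauerOmega P β ξ) := by
  rw [brauerOmega_eq_om]
  exact om_memLocalRing hξ (fun c k => hC k k.2 c) (fun c => hS c)

/-- the idempotent of a `P`-stable block of `C_G(Q)`, `Q ≤ P`, lies in the domain of the Brauer
functional at `P` -/
theorem dom_sbc [M.IsPrime] {Q P : Subgroup G} (hQP : Q ≤ P) {f : Set (IrrCharacter (cz Q))}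
    (hf : IsPBlock M f) (hst : ∀ x ∈ P, StabilizesBlock (cz Q) f x) :
    Dom M P (subgroupBlockCoeff (cz Q) f) :=
  ⟨sbc_memLocalRing _ hf,
    fun u hu => (cjF_eq_iff u _).mp ((stabilizesBlock_iff _ _ _).mp (hst u hu)).2,
    fun _ hc g => sbc_conj_mem _ _ (cz_anti hQP hc) g⟩

/-- the action of a subgroup normalizing `K` on the blocks of `K` -/
@[instance_reducible]
def blockAct (M : Ideal AlgInt) (K P : Subgroup G) (hPK : ∀ u ∈ P, IsConjSub u K K) :
    MulAction P {e : Set (IrrCharacter K) // IsPBlock M e} where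
  smul u e := ⟨conjSet (hPK u u.2) e.1, isPBlock_conjSet _ e.2⟩
  one_smul e := Subtype.ext (sbc_injective K (by
    show subgroupBlockCoeff K (conjSet (hPK _ (1 : P).2) e.1) = _
    rw [sbc_conjSet]; exact cjF_one _))
  mul_smul u v e := Subtype.ext (sbc_injective K (by
    show subgroupBlockCoeff K (conjSet (hPK _ (u * v).2) e.1) =
      subgroupBlockCoeff K (conjSet (hPK _ u.2) (conjSet (hPK _ v.2) e.1))
    rw [sbc_conjSet, sbc_conjSet, sbc_conjSet]; exact cjF_mul _ _ _))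

omit [Fintype G] in
theorem conj_eq_of_mem_cz {P : Subgroup G} {u c : G} (hu : u ∈ P) (hc : c ∈ cz P) :
    u⁻¹ * c * u = c := by
  have := Subgroup.mem_centralizer_iff.mp hc u hu
  calc u⁻¹ * c * u = u⁻¹ * (c * u) := by group
    _ = u⁻¹ * (u * c) := by rw [this]
    _ = c := by group

theorem exists_normal_subpair (hM : IsPModular p M) {P Q : Subgroup G}
    {e : Set (IrrCharacter (cz P))} (hPe : IsBrauerPair p M P e) (hQP : Q ≤ P)
    (hPN : P ≤ Subgroup.normalizer (Q : Set G)) :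
    ∃ f : Set (IrrCharacter (cz Q)), IsNormalSubpair p M Q f P e := by
  have := IsPModular.isPrime hM
  have : Fact p.Prime := ⟨hM.1⟩
  obtain ⟨hP, he⟩ := hPe
  obtain ⟨ξ₀, hξ₀⟩ := IsPBlock.nonempty he
  have hPK : ∀ u ∈ P, IsConjSub u (cz Q) (cz Q) := fun u hu =>
    (isConjSub_of_mem_normalizer (hPN hu)).centralizer
  let _ := blockAct M (cz Q) P hPK
  have hsmul : ∀ (u : P) (e' : {e : Set (IrrCharacter (cz Q)) // IsPBlock M e}),
      subgroupBlockCoeff (cz Q) (u • e').1 = cjF (u : G) (subgroupBlockCoeff (cz Q) e'.1) :=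
    fun u e' => sbc_conjSet (hPK u u.2) e'.1
  obtain ⟨s, hs, hsum⟩ := sum_eq_sum_fixed_add hP
    (MulAction.toPermHom P {e : Set (IrrCharacter (cz Q)) // IsPBlock M e})
    (fun e' => brauerOmega P (subgroupBlockCoeff (cz Q) e'.1) (ξ₀ : cz P → ℂ)) (by
      intro u e'
      apply brauerOmega_congr
      intro c hc
      rw [MulAction.toPermHom_apply, MulAction.toPerm_apply, hsmul, cjF_apply,
        conj_eq_of_mem_cz u.2 hc]) (localSubring M).toAddSubgroup (by
      intro e'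
      exact brauerOmega_mem' (sbc_memLocalRing _ e'.2)
        (fun c hc g => sbc_conj_mem _ _ (cz_anti hQP hc) g) ξ₀.2)
  rw [← brauerOmega_sum, sum_sbc_blocks, brauerOmega_delta P ξ₀.2] at hsum
  -- a fixed block on which the functional does not vanish
  have hex : ∃ f : {e : Set (IrrCharacter (cz Q)) // IsPBlock M e}, (∀ u : P, u • f = f) ∧
      ¬ MemLocalIdeal M (brauerOmega P (subgroupBlockCoeff (cz Q) f.1) (ξ₀ : cz P → ℂ)) := by
    by_contra hcon
    push Not at hcon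
    apply not_memLocalIdeal_one (M := M)
    rw [hsum]
    refine MemLocalIdeal.add (MemLocalIdeal.sum _ fun f _ => ?_)
      (MemLocalIdeal.mul_right (memLocalIdeal_p hM) hs)
    split_ifs with hfix
    · exact hcon f hfix
    · exact memLocalIdeal_zero
  obtain ⟨f, hfix, hne⟩ := hex
  have hst : ∀ x ∈ P, StabilizesBlock (cz Q) f.1 x := by
    intro x hx
    rw [stabilizesBlock_iff]
    refine ⟨(hPK x hx).mem_normalizer, ?_⟩
    rw [← hsmul ⟨x, hx⟩ f, hfix]
  have hdom := dom_sbc hQP f.2 hst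
  refine ⟨f.1, ⟨hP.to_le hQP, f.2⟩, ⟨hP, he⟩, hQP, hPN, hst, fun ξ hξ => ?_⟩
  have h1 := (brauerOmega_idem hM hP hdom (sbc_idem _ _) ξ₀.2).resolve_left hne
  have h2 := brauerOmega_sameBlock hdom ξ.2 ξ₀.2 (IsPBlock.sameBlock he hξ hξ₀)
  have := MemLocalIdeal.add h2 h1
  simpa using this

theorem dom_of_normalSubpair [M.IsPrime] {P Q : Subgroup G} {e : Set (IrrCharacter (cz P))}
    {f : Set (IrrCharacter (cz Q))} (h : IsNormalSubpair p M Q f P e) :
    Dom M P (subgroupBlockCoeff (cz Q) f) :=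
  dom_sbc h.2.2.1 h.1.2 h.2.2.2.2.1

theorem normal_subpair_unique (hM : IsPModular p M) {P Q : Subgroup G}
    {e : Set (IrrCharacter (cz P))} {f f' : Set (IrrCharacter (cz Q))}
    (h : IsNormalSubpair p M Q f P e) (h' : IsNormalSubpair p M Q f' P e) : f = f' := by
  have := IsPModular.isPrime hM
  by_contra hne
  obtain ⟨ξ₀, hξ₀⟩ := IsPBlock.nonempty h.2.1.2
  have h1 := brauerOmega_conv hM h.2.1.1 (dom_of_normalSubpair h) (dom_of_normalSubpair h') ξ₀.2
  have hdisj : f ∩ f' = ∅ := by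
    rw [Set.eq_empty_iff_forall_notMem]
    rintro χ ⟨hχ, hχ'⟩
    exact hne (IsPBlock.eq_of_mem_of_mem h.1.2 h'.1.2 hχ hχ')
  rw [sbc_conv, hdisj, sbc_empty, brauerOmega_zero, zero_sub] at h1
  have h2 := h.2.2.2.2.2 ξ₀ hξ₀
  have h3 := h'.2.2.2.2.2 ξ₀ hξ₀
  have hm' := brauerOmega_mem (dom_of_normalSubpair h') ξ₀.2
  -- `a b ∈ 𝔪`, `a ≡ 1`, `b ≡ 1`
  have h4 := MemLocalIdeal.mul_right h2 hm'
  have h5 := MemLocalIdeal.add (MemLocalIdeal.add (MemLocalIdeal.neg h1) (MemLocalIdeal.neg h4))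
    (MemLocalIdeal.neg h3)
  apply not_memLocalIdeal_one (M := M)
  convert h5 using 1
  ring

theorem existsUnique_normal_subpair (hM : IsPModular p M) {P Q : Subgroup G}
    {e : Set (IrrCharacter (cz P))} (hPe : IsBrauerPair p M P e) (hQP : Q ≤ P)
    (hPN : P ≤ Subgroup.normalizer (Q : Set G)) :
    ∃! f : Set (IrrCharacter (cz Q)), IsNormalSubpair p M Q f P e := by
  obtain ⟨f, hf⟩ := exists_normal_subpair hM hPe hQP hPN
  exact ⟨f, hf, fun f' hf' => normal_subpair_unique hM hf' hf⟩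

end

end Cfsg.Agent.Lib.Helper24
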