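import Cfsg.Agent.Lib.Helper24.BrauerPair2

/-!
# Brauer pairs: compatibility of the Brauer functionals along a normal inclusion
-/

set_option autoImplicit false

namespace Cfsg.Agent.Lib.Helper24

open Cfsg Cfsg.Agent.Lib.Helper2 Cfsg.Agent.Lib.Helper6
open scoped ComplexConjugate Classical

attribute [local instance] irrFintype

section

variable {G : Type*} [Group G] [Fintype G] {M : Ideal AlgInt} {p : ℕ}

/-- truncation of a function to a subgroup -/
noncomputable def trunc (K : Subgroup G) (β : G → ℂ) : G → ℂ := extendByZero K (fun k : K => β k)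

omit [Fintype G] in
theorem trunc_mem (K : Subgroup G) (β : G → ℂ) {g : G} (hg : g ∈ K) : trunc K β g = β g :=
  extendByZero_mem K _ hg

omit [Fintype G] in
theorem trunc_not_mem (K : Subgroup G) (β : G → ℂ) {g : G} (hg : g ∉ K) : trunc K β g = 0 :=
  extendByZero_not_mem K _ hg

omit [Fintype G] in
theorem trunc_conj (K : Subgroup G) {β : G → ℂ} {u : G} (hu : IsConjSub u K K)
    (hβ : ∀ g, β (u * g * u⁻¹) = β g) (g : G) : trunc K β (u * g * u⁻¹) = trunc K β g := by
  have h1 : u * g * u⁻¹ ∈ K ↔ g ∈ K := by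
    rw [hu]
    have : u⁻¹ * (u * g * u⁻¹) * u = g := by group
    rw [this]
  by_cases hg : g ∈ K
  · rw [trunc_mem K β hg, trunc_mem K β (h1.mpr hg), hβ]
  · rw [trunc_not_mem K β hg, trunc_not_mem K β (fun h => hg (h1.mp h))]

omit [Fintype G] in
theorem isConjSub_of_mem {K : Subgroup G} {u : G} (hu : u ∈ K) : IsConjSub u K K :=
  isConjSub_of_mem_normalizer (Subgroup.le_normalizer hu)

/-- functions with local integer values invariant under `P` and `C_G(R)` -/
structure Dom2 (M : Ideal AlgInt) (P R : Subgroup G) (β : G → ℂ) : Prop where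
  mem : ∀ g, MemLocalRing M (β g)
  invP : ∀ u ∈ P, ∀ g, β (u * g * u⁻¹) = β g
  invC : ∀ c ∈ cz R, ∀ g, β (c * g * c⁻¹) = β g

omit [Fintype G] in
theorem Dom2.domP {P R : Subgroup G} {β : G → ℂ} (h : Dom2 M P R β) (hRP : R ≤ P) : Dom M P β :=
  ⟨h.mem, h.invP, fun c hc => h.invC c (cz_anti hRP hc)⟩

omit [Fintype G] in
theorem Dom2.domR {P R : Subgroup G} {β : G → ℂ} (h : Dom2 M P R β) (hRP : R ≤ P) : Dom M R β :=
  ⟨h.mem, fun u hu => h.invP u (hRP hu), h.invC⟩

omit [Fintype G] in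
theorem Dom2.of_class {P R : Subgroup G} {β : G → ℂ} (h : IsClassFunction G β)
    (hS : ∀ g, MemLocalRing M (β g)) : Dom2 M P R β :=
  ⟨hS, fun u _ g => h g u, fun c _ g => h g c⟩

omit [Fintype G] in
theorem Dom2.sub_smul_delta [M.IsPrime] {P R : Subgroup G} {β : G → ℂ} (h : Dom2 M P R β)
    {c : ℂ} (hc : MemLocalRing M c) : Dom2 M P R (β - c • (delta : G → ℂ)) := by
  refine ⟨fun g => MemLocalRing.sub (h.mem g) (MemLocalRing.mul hc (memLocalRing_delta g)),
    fun u hu g => ?_, fun u hu g => ?_⟩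
  · simp only [Pi.sub_apply, Pi.smul_apply, h.invP u hu, isClassFunction_delta g u]
  · simp only [Pi.sub_apply, Pi.smul_apply, h.invC u hu, isClassFunction_delta g u]

theorem brauerOmega_of_normalSubpair_aux (hM : IsPModular p M) {P R : Subgroup G}
    {e : Set (IrrCharacter (cz P))} {g : Set (IrrCharacter (cz R))}
    (h : IsNormalSubpair p M R g P e) {β : G → ℂ} (hβ : Dom2 M P R β)
    (h0 : ∀ ζ ∈ g, MemLocalIdeal M (brauerOmega R β (ζ : cz R → ℂ))) {ξ : IrrCharacter (cz P)}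
    (hξ : ξ ∈ e) : MemLocalIdeal M (brauerOmega P β (ξ : cz P → ℂ)) := by
  have := IsPModular.isPrime hM
  obtain ⟨⟨hR, hg⟩, ⟨hP, he⟩, hRP, hPN, hst, hocc⟩ := h
  have hdomR := hβ.domR hRP
  have hdomP := hβ.domP hRP
  have hε : Dom M P (subgroupBlockCoeff (cz R) g) := dom_sbc hRP hg hst
  have ht : Dom M P (trunc (cz R) β) := by
    refine ⟨memLocalRing_ext _ (fun k => hβ.mem k), fun u hu => ?_, fun c hc => ?_⟩
    · exact trunc_conj _ (isConjSub_of_mem_normalizer (hPN hu)).centralizer (hβ.invP u hu)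
    · exact trunc_conj _ (isConjSub_of_mem (cz_anti hRP hc)) (hdomP.invC c hc)
  -- the product is topologically nilpotent
  set a₁ : IrrCharacter (cz R) → ℂ := fun η => om (η : cz R → ℂ) (resC R β) with ha₁
  have h1 : resC R β = coef a₁ := eq_coef_om hdomR.isClassFunction_resC
  have h2 : conv (trunc (cz R) β) (subgroupBlockCoeff (cz R) g) =
      extendByZero (cz R) (coef (a₁ * g.indicator 1)) := by
    rw [sbc_eq_ext, coef_mul, ext_conv, ← h1]
    rfl
  have h3 : TopNil M p (conv (trunc (cz R) β) (subgroupBlockCoeff (cz R) g)) := by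
    rw [h2]
    apply topNil_ext
    apply topNil_coef hM
    intro η
    rw [Pi.mul_apply]
    by_cases hη : η ∈ g
    · rw [Set.indicator_of_mem hη, Pi.one_apply, mul_one]
      have := h0 η hη
      rwa [brauerOmega_eq_om] at this
    · rw [Set.indicator_of_notMem hη, mul_zero]
      exact memLocalIdeal_zero
  have h4 := brauerOmega_of_topNil hM hP (ht.conv hε) h3 ξ.2
  have h5 := (memLocalIdeal_congr (brauerOmega_conv hM hP ht hε ξ.2)).mp h4
  have h6 : brauerOmega P (trunc (cz R) β) (ξ : cz P → ℂ) = brauerOmega P β (ξ : cz P → ℂ) :=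
    brauerOmega_congr P (fun c hc => trunc_mem _ _ (cz_anti hRP hc)) _
  rw [h6] at h5
  have h7 := MemLocalIdeal.mul_left (brauerOmega_mem hdomP ξ.2) (hocc ξ hξ)
  have := MemLocalIdeal.sub h5 h7
  convert this using 1
  ring

/-- Along a normal inclusion `(R, g) ⊴ (P, e)` the Brauer functionals agree modulo the local
ideal on functions invariant under `P` and `C_G(R)`. -/
theorem brauerOmega_of_normalSubpair (hM : IsPModular p M) {P R : Subgroup G}
    {e : Set (IrrCharacter (cz P))} {g : Set (IrrCharacter (cz R))}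
    (h : IsNormalSubpair p M R g P e) {β : G → ℂ} (hβ : Dom2 M P R β)
    {ξ : IrrCharacter (cz P)} (hξ : ξ ∈ e) {ζ : IrrCharacter (cz R)} (hζ : ζ ∈ g) :
    MemLocalIdeal M (brauerOmega P β (ξ : cz P → ℂ) - brauerOmega R β (ζ : cz R → ℂ)) := by
  have := IsPModular.isPrime hM
  have hRP := h.2.2.1
  have hdomR := hβ.domR hRP
  have hc := brauerOmega_mem hdomR ζ.2
  have h1 := brauerOmega_of_normalSubpair_aux hM h (hβ.sub_smul_delta hc) (by
    intro ζ' hζ'
    rw [brauerOmega_sub, brauerOmega_smul, brauerOmega_delta R ζ'.2, mul_one]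
    exact brauerOmega_sameBlock hdomR ζ'.2 ζ.2 (IsPBlock.sameBlock h.1.2 hζ' hζ)) hξ
  rwa [brauerOmega_sub, brauerOmega_smul, brauerOmega_delta P ξ.2, mul_one] at h1

/-- A normal inclusion preserves the block of `G`. -/
theorem isBrauerPairOf_iff_of_normalSubpair (hM : IsPModular p M) {P R : Subgroup G}
    {e : Set (IrrCharacter (cz P))} {g : Set (IrrCharacter (cz R))}
    (h : IsNormalSubpair p M R g P e) {B : Set (IrrCharacter G)} (hB : IsPBlock M B) :
    IsBrauerPairOf p M B P e ↔ IsBrauerPairOf p M B R g := by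
  have := IsPModular.isPrime hM
  have hβ : Dom2 M P R (blockCoeff B) := by
    rw [blockCoeff_fun]
    exact Dom2.of_class (isClassFunction_coef _) (IsPBlock.indicator_mem_ZS hB)
  obtain ⟨ξ₀, hξ₀⟩ := IsPBlock.nonempty h.2.1.2
  obtain ⟨ζ₀, hζ₀⟩ := IsPBlock.nonempty h.1.2
  constructor
  · rintro ⟨-, -, h1⟩
    refine ⟨h.1, hB, fun ζ hζ => ?_⟩
    have h2 := brauerOmega_of_normalSubpair hM h hβ hξ₀ hζ
    have := MemLocalIdeal.sub (h1 ξ₀ hξ₀) h2
    convert this using 1
    ring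
  · rintro ⟨-, -, h1⟩
    refine ⟨h.2.1, hB, fun ξ hξ => ?_⟩
    have h2 := brauerOmega_of_normalSubpair hM h hβ hξ hζ₀
    have := MemLocalIdeal.add (h1 ζ₀ hζ₀) h2
    convert this using 1
    ring

/-- If `Q ≤ R ≤ P` with `(Q, f) ⊴ (P, e)` and `(R, g) ⊴ (P, e)`, then `(Q, f) ⊴ (R, g)`. -/
theorem normalSubpair_of_normalSubpair (hM : IsPModular p M) {P Q R : Subgroup G}
    {e : Set (IrrCharacter (cz P))} {f : Set (IrrCharacter (cz Q))}
    {g : Set (IrrCharacter (cz R))} (hf : IsNormalSubpair p M Q f P e)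
    (hg : IsNormalSubpair p M R g P e) (hQR : Q ≤ R) : IsNormalSubpair p M Q f R g := by
  have := IsPModular.isPrime hM
  have hRP := hg.2.2.1
  refine ⟨hf.1, hg.1, hQR, hRP.trans hf.2.2.2.1, fun x hx => hf.2.2.2.2.1 x (hRP hx),
    fun ζ hζ => ?_⟩
  obtain ⟨ξ₀, hξ₀⟩ := IsPBlock.nonempty hf.2.1.2
  have hβ : Dom2 M P R (subgroupBlockCoeff (cz Q) f) :=
    ⟨sbc_memLocalRing _ hf.1.2, (dom_of_normalSubpair hf).invP,
      fun c hc g => sbc_conj_mem _ _ (cz_anti hQR hc) g⟩
  have h2 := brauerOmega_of_normalSubpair hM hg hβ hξ₀ hζ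
  have := MemLocalIdeal.sub (hf.2.2.2.2.2 ξ₀ hξ₀) h2
  convert this using 1
  ring

end

end Cfsg.Agent.Lib.Helper24
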