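import Cfsg.Agent.Lib.Helper24.BrauerPair3

/-!
# Brauer pairs: inclusion; existence and uniqueness of subpairs (Alperin–Broué)
-/

set_option autoImplicit false

namespace Cfsg.Agent.Lib.Helper24

open Cfsg Cfsg.Agent.Lib.Helper2 Cfsg.Agent.Lib.Helper6
open scoped ComplexConjugate Classical

attribute [local instance] irrFintype

section

variable {G : Type*} [Group G] [Fintype G] {M : Ideal AlgInt} {p : ℕ}

/-- inclusion of Brauer pairs on the index type -/
abbrev PLE (p : ℕ) (M : Ideal AlgInt) (a b : BrauerPairIdx G) : Prop :=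
  Relation.ReflTransGen (NormalSubpairRel p M) a b

omit [Fintype G] in
theorem card_lt_of_lt' [Finite G] {Q R : Subgroup G} (h : Q < R) : Nat.card Q < Nat.card R := by
  rcases lt_or_ge (Nat.card Q) (Nat.card R) with h1 | h1
  · exact h1
  · exact absurd (Subgroup.eq_of_le_of_card_ge h.le h1) h.ne

omit [Fintype G] in
theorem PLE.le {a b : BrauerPairIdx G} (h : PLE p M a b) : a.1 ≤ b.1 := by
  induction h with
  | refl => exact le_rfl
  | tail _ h2 ih => exact ih.trans h2.2.2.1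

omit [Fintype G] in
theorem PLE.isBrauerPair_right {a b : BrauerPairIdx G} (h : PLE p M a b)
    (ha : IsBrauerPair p M a.1 a.2) : IsBrauerPair p M b.1 b.2 := by
  cases h with
  | refl => exact ha
  | tail _ h2 => exact h2.2.1

omit [Fintype G] in
theorem PLE.isBrauerPair_left {a b : BrauerPairIdx G} (h : PLE p M a b)
    (hb : IsBrauerPair p M b.1 b.2) : IsBrauerPair p M a.1 a.2 := by
  cases Relation.ReflTransGen.cases_head h with
  | inl h => rw [h]; exact hb
  | inr h =>
    obtain ⟨c, hc, -⟩ := h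
    exact hc.1

theorem PLE.isBrauerPairOf_iff (hM : IsPModular p M) {a b : BrauerPairIdx G} (h : PLE p M a b)
    {B : Set (IrrCharacter G)} (hB : IsPBlock M B) :
    IsBrauerPairOf p M B b.1 b.2 ↔ IsBrauerPairOf p M B a.1 a.2 := by
  induction h with
  | refl => exact Iff.rfl
  | tail _ h2 ih => exact (isBrauerPairOf_iff_of_normalSubpair hM h2 hB).trans ih

/-- a normal inclusion between pairs on the same subgroup is an equality -/
theorem eq_of_normalSubpair_self [M.IsPrime] {Q : Subgroup G} {f g : Set (IrrCharacter (cz Q))}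
    (h : IsNormalSubpair p M Q f Q g) : f = g := by
  obtain ⟨ζ, hζ⟩ := IsPBlock.nonempty h.2.1.2
  have h1 := h.2.2.2.2.2 ζ hζ
  have h2 : resC Q (subgroupBlockCoeff (cz Q) f) = coef (f.indicator 1) := by
    ext c
    rw [resC_apply, sbc_coe, blockCoeff_eq_coef]
  rw [brauerOmega_eq_om, h2, om_coef] at h1
  by_cases hζf : ζ ∈ f
  · exact IsPBlock.eq_of_mem_of_mem h.1.2 h.2.1.2 hζf hζ
  · exfalso
    rw [Set.indicator_of_notMem hζf, zero_sub] at h1
    have := MemLocalIdeal.neg h1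
    rw [neg_neg] at this
    exact not_memLocalIdeal_one this

theorem eq_of_rel_of_eq [M.IsPrime] {a b : BrauerPairIdx G} (h : NormalSubpairRel p M a b)
    (hab : a.1 = b.1) : a = b := by
  obtain ⟨Q, f⟩ := a
  obtain ⟨R, g⟩ := b
  simp only at hab
  subst hab
  have : f = g := eq_of_normalSubpair_self h
  rw [this]

theorem PLE.eq_of_eq [M.IsPrime] {a b : BrauerPairIdx G} (h : PLE p M a b) (hab : a.1 = b.1) :
    a = b := by
  induction h with
  | refl => rfl
  | @tail c d h1 h2 ih =>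
    have hac : a.1 ≤ c.1 := PLE.le h1
    have hcd : c.1 ≤ d.1 := h2.2.2.1
    have h3 : a.1 = c.1 := le_antisymm hac (hab ▸ hcd)
    rw [ih h3]
    exact eq_of_rel_of_eq h2 (h3 ▸ hab)

theorem PLE.exists_proper_step [M.IsPrime] {a b : BrauerPairIdx G} (h : PLE p M a b)
    (hab : a.1 ≠ b.1) :
    ∃ c, NormalSubpairRel p M a c ∧ a.1 < c.1 ∧ PLE p M c b := by
  induction h using Relation.ReflTransGen.head_induction_on with
  | refl => exact absurd rfl hab
  | @head a c h1 h2 ih =>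
    by_cases hac : a.1 = c.1
    · have := eq_of_rel_of_eq h1 hac
      subst this
      exact ih hab
    · exact ⟨c, h1, lt_of_le_of_ne h1.2.2.1 hac, h2⟩

/-- If `(Q, f₀) ⊴ (T, h)` and `(R, g) ≤ (T, h)` with `Q ≤ R`, then `(Q, f₀) ⊴ (R, g)`. -/
theorem rel_of_rel_of_PLE (hM : IsPModular p M) {a c t : BrauerPairIdx G}
    (h : NormalSubpairRel p M a t) (hc : PLE p M c t) (hac : a.1 ≤ c.1) :
    NormalSubpairRel p M a c := by
  induction hc using Relation.ReflTransGen.head_induction_on with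
  | refl => exact h
  | @head c d h1 _ ih =>
    exact normalSubpair_of_normalSubpair hM (ih (hac.trans h1.2.2.1)) h1 hac

theorem exists_PLE (hM : IsPModular p M) (b : BrauerPairIdx G) (hb : IsBrauerPair p M b.1 b.2) :
    ∀ (n : ℕ) (Q : Subgroup G), Q ≤ b.1 → Nat.card b.1 - Nat.card Q = n →
      ∃ f : Set (IrrCharacter (cz Q)), PLE p M ⟨Q, f⟩ b := by
  have : Fact p.Prime := ⟨hM.1⟩
  intro n
  induction n using Nat.strong_induction_on with
  | _ n ih =>
    intro Q hQ hn
    rcases eq_or_lt_of_le hQ with rfl | hlt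
    · exact ⟨b.2, Relation.ReflTransGen.refl⟩
    · obtain ⟨x, hxP, hxQ, hxN⟩ := exists_mem_normalizer_not_mem hb.1 hlt
      set R : Subgroup G := b.1 ⊓ Subgroup.normalizer (Q : Set G) with hR
      have hQR : Q ≤ R := le_inf hQ Subgroup.le_normalizer
      have hQR' : Q < R := lt_of_le_of_ne hQR (fun h => hxQ (h ▸ ⟨hxP, hxN⟩))
      have hc1 : Nat.card Q < Nat.card R := card_lt_of_lt' hQR'
      have hc2 : Nat.card R ≤ Nat.card b.1 := Subgroup.card_le_of_le inf_le_left
      obtain ⟨g, hg⟩ := ih (Nat.card b.1 - Nat.card R) (by omega) R inf_le_left rfl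
      obtain ⟨f, hf⟩ := exists_normal_subpair hM (PLE.isBrauerPair_left hg hb) hQR inf_le_right
      exact ⟨f, Relation.ReflTransGen.head hf hg⟩

theorem PLE_unique (hM : IsPModular p M) :
    ∀ (n : ℕ) (b : BrauerPairIdx G) (Q : Subgroup G) (f f' : Set (IrrCharacter (cz Q))),
      Nat.card b.1 - Nat.card Q = n → PLE p M ⟨Q, f⟩ b → PLE p M ⟨Q, f'⟩ b → f = f' := by
  have := IsPModular.isPrime hM
  intro n
  induction n using Nat.strong_induction_on with
  | _ n ih =>
    intro b Q f f' hn h h'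
    by_cases hQb : Q = b.1
    · have h1 := PLE.eq_of_eq h hQb
      have h2 := PLE.eq_of_eq h' hQb
      have h3 : (⟨Q, f⟩ : BrauerPairIdx G) = ⟨Q, f'⟩ := h1.trans h2.symm
      exact eq_of_heq (Sigma.mk.inj_iff.mp h3).2
    · obtain ⟨⟨R, g⟩, hr, hQR, hRb⟩ := PLE.exists_proper_step h hQb
      obtain ⟨⟨R', g'⟩, hr', hQR', hRb'⟩ := PLE.exists_proper_step h' hQb
      simp only at hQR hQR'
      have hb : IsBrauerPair p M b.1 b.2 := PLE.isBrauerPair_right hRb hr.2.1
      have hRle : R ≤ b.1 := PLE.le hRb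
      have hRle' : R' ≤ b.1 := PLE.le hRb'
      set T : Subgroup G := R ⊔ R' with hT
      have hTb : T ≤ b.1 := sup_le hRle hRle'
      have hTN : T ≤ Subgroup.normalizer (Q : Set G) := sup_le hr.2.2.2.1 hr'.2.2.2.1
      obtain ⟨t, ht⟩ := exists_PLE hM b hb _ T hTb rfl
      have htp : IsBrauerPair p M T t := PLE.isBrauerPair_left ht hb
      have hcQR : Nat.card Q < Nat.card R := card_lt_of_lt' hQR
      have hcQR' : Nat.card Q < Nat.card R' := card_lt_of_lt' hQR'
      have hcR : Nat.card R ≤ Nat.card b.1 := Subgroup.card_le_of_le hRle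
      have hcR' : Nat.card R' ≤ Nat.card b.1 := Subgroup.card_le_of_le hRle'
      obtain ⟨g₁, hg₁⟩ := exists_PLE hM ⟨T, t⟩ htp _ R le_sup_left rfl
      obtain ⟨g₁', hg₁'⟩ := exists_PLE hM ⟨T, t⟩ htp _ R' le_sup_right rfl
      have e1 : g₁ = g := ih (Nat.card b.1 - Nat.card R) (by omega) b R g₁ g rfl
        (hg₁.trans ht) hRb
      have e2 : g₁' = g' := ih (Nat.card b.1 - Nat.card R') (by omega) b R' g₁' g' rfl
        (hg₁'.trans ht) hRb'
      subst e1 e2
      obtain ⟨f₀, hf₀⟩ := exists_normal_subpair hM htp (hQR.le.trans le_sup_left) hTN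
      have k1 : NormalSubpairRel p M ⟨Q, f₀⟩ ⟨R, g₁⟩ :=
        rel_of_rel_of_PLE hM (a := ⟨Q, f₀⟩) (t := ⟨T, t⟩) hf₀ hg₁ hQR.le
      have k2 : NormalSubpairRel p M ⟨Q, f₀⟩ ⟨R', g₁'⟩ :=
        rel_of_rel_of_PLE hM (a := ⟨Q, f₀⟩) (t := ⟨T, t⟩) hf₀ hg₁' hQR'.le
      have l1 : f = f₀ := normal_subpair_unique hM hr k1
      have l2 : f' = f₀ := normal_subpair_unique hM hr' k2
      rw [l1, l2]

/-- **Alperin–Broué**: below a Brauer pair there is exactly one pair on each subgroup. -/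
theorem existsUnique_subpair (hM : IsPModular p M) {P Q : Subgroup G}
    {e : Set (IrrCharacter (cz P))} (hPe : IsBrauerPair p M P e) (hQP : Q ≤ P) :
    ∃! f : Set (IrrCharacter (cz Q)), IsPBlock M f ∧ SubpairLE p M Q f P e := by
  obtain ⟨f, hf⟩ := exists_PLE hM ⟨P, e⟩ hPe _ Q hQP rfl
  refine ⟨f, ⟨(PLE.isBrauerPair_left hf hPe).2, hf⟩, fun f' hf' => ?_⟩
  exact PLE_unique hM _ ⟨P, e⟩ Q f' f rfl hf'.2 hf

end

end Cfsg.Agent.Lib.Helper24
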