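import Cfsg.Agent.Lib.Helper24.PIndex
import Cfsg.Agent.Lib.Helper6.Cover

/-!
# Fong's theorem on blocks of maximal defect covering an invariant block
-/

set_option autoImplicit false

namespace Cfsg.Agent.Lib.Helper24

open Cfsg Cfsg.Agent.Lib.Helper2 Cfsg.Agent.Lib.Helper6
open scoped ComplexConjugate Classical

attribute [local instance] irrFintype

section sylow

variable {G : Type*} [Group G] {p : ℕ}

theorem relIndex_dvd_relIndex_of_normal {N P C : Subgroup G} [N.Normal] (h : P ≤ C) :
    N.relIndex P ∣ N.relIndex C := by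
  have h1 := Subgroup.relIndex_dvd_index_of_normal (N.subgroupOf C) (P.subgroupOf C)
  rwa [Subgroup.relIndex_subgroupOf h] at h1

/-- A Sylow subgroup of `C` meets a normal subgroup in a Sylow subgroup. -/
theorem isSylIn_inf_normal [Finite G] [Fact p.Prime] {N C P : Subgroup G} [N.Normal]
    (hP : IsSylIn p C P) :
    IsSylIn p (C ⊓ N) (P ⊓ N) ∧
      (N.relIndex P).factorization p = (N.relIndex C).factorization p := by
  have hp : p.Prime := Fact.out
  have hPp := hP.isPGroup
  rw [isSylIn_iff] at hP ⊢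
  obtain ⟨hle, hcard⟩ := hP
  have h1 := card_inf_mul_relIndex N P
  have h2 := card_inf_mul_relIndex N C
  have h3 : N.relIndex P ∣ N.relIndex C := relIndex_dvd_relIndex_of_normal hle
  have h4 : Nat.card (P ⊓ N : Subgroup G) ∣ Nat.card (C ⊓ N : Subgroup G) :=
    Subgroup.card_dvd_of_le (inf_le_inf_right N hle)
  obtain ⟨j, hj⟩ := IsPGroup.iff_card.mp (hPp.to_le (inf_le_left : P ⊓ N ≤ P))
  have n1 : Nat.card (P ⊓ N : Subgroup G) ≠ 0 := Nat.card_pos.ne'
  have n2 : Nat.card (C ⊓ N : Subgroup G) ≠ 0 := Nat.card_pos.ne'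
  have n3 : N.relIndex P ≠ 0 := by
    intro h
    rw [h, mul_zero] at h1
    exact (Nat.card_pos (α := P)).ne' h1.symm
  have n4 : N.relIndex C ≠ 0 := by
    intro h
    rw [h, mul_zero] at h2
    exact (Nat.card_pos (α := C)).ne' h2.symm
  have f1 : (Nat.card (P ⊓ N : Subgroup G)).factorization p + (N.relIndex P).factorization p =
      (Nat.card P).factorization p := by
    rw [← h1, Nat.factorization_mul n1 n3]
    rfl
  have f2 : (Nat.card (C ⊓ N : Subgroup G)).factorization p + (N.relIndex C).factorization p =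
      (Nat.card C).factorization p := by
    rw [← h2, Nat.factorization_mul n2 n4]
    rfl
  have f3 : (Nat.card P).factorization p = (Nat.card C).factorization p := by
    rw [hcard, hp.factorization_pow, Finsupp.single_eq_same]
  have f4 : (N.relIndex P).factorization p ≤ (N.relIndex C).factorization p :=
    (Nat.factorization_le_iff_dvd n3 n4).mpr h3 p
  have f5 : (Nat.card (P ⊓ N : Subgroup G)).factorization p ≤
      (Nat.card (C ⊓ N : Subgroup G)).factorization p :=
    (Nat.factorization_le_iff_dvd n1 n2).mpr h4 p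
  have f6 : (Nat.card (P ⊓ N : Subgroup G)).factorization p = j := by
    rw [hj, hp.factorization_pow, Finsupp.single_eq_same]
  refine ⟨⟨inf_le_inf_right N hle, ?_⟩, by omega⟩
  rw [hj]
  congr 1
  omega

theorem factorization_index_sup [Finite G] {N K : Subgroup G} [N.Normal] :
    (K ⊔ N).index.factorization p + (N.relIndex K).factorization p =
      N.index.factorization p := by
  have h1 := Subgroup.relIndex_mul_index (le_sup_right : N ≤ K ⊔ N)
  rw [Subgroup.relIndex_sup_right] at h1
  have n1 : (K ⊔ N).index ≠ 0 := Subgroup.index_ne_zero_of_finite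
  have n2 : N.relIndex K ≠ 0 := by
    intro h
    rw [h, zero_mul] at h1
    exact (Subgroup.index_ne_zero_of_finite (H := N)) h1.symm
  rw [← h1, Nat.factorization_mul n2 n1, add_comm]
  rfl

end sylow

section cover

variable {G : Type*} [Group G] [Fintype G] (N : Subgroup G) [N.Normal] {M : Ideal AlgInt} {p : ℕ}

/-- `B` covers `c` -/
def Cov (B : Set (IrrCharacter G)) (c : Set (IrrCharacter N)) : Prop :=
  ∃ χ ∈ B, ∃ θ ∈ c, classInner (fun n : N => (χ : G → ℂ) n) (θ : N → ℂ) ≠ 0

variable {N}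

theorem isClassFunction_sbc_of_stable {c : Set (IrrCharacter N)}
    (hst : ∀ x : G, StabilizesBlock N c x) : IsClassFunction G (subgroupBlockCoeff N c) :=
  fun g x => (cjF_eq_iff x _).mp ((stabilizesBlock_iff _ _ _).mp (hst x)).2 g

theorem om_sbc_of_over {c : Set (IrrCharacter N)} (hst : ∀ x : G, StabilizesBlock N c x)
    {θ : IrrCharacter N} {ψ : IrrCharacter G}
    (hcon : classInner ((ψ : G → ℂ) ∘ N.subtype) (θ : N → ℂ) ≠ 0) :
    om (ψ : G → ℂ) (subgroupBlockCoeff N c) = c.indicator (1 : IrrCharacter N → ℂ) θ := by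
  rw [om_eq_of_constituent N.subtype N.subtype_injective ψ.2 θ hcon
    (isClassFunction_sbc_of_stable hst), ← om_coef (c.indicator 1) θ]
  · congr 1
    ext n
    rw [Function.comp_apply, ← blockCoeff_eq_coef]
    exact sbc_coe N c n
  · intro t ht
    apply sbc_not_mem
    intro htN
    exact ht ⟨⟨t, htN⟩, rfl⟩

theorem om_sbc_eq_one_of_cov [M.IsPrime] {c : Set (IrrCharacter N)} (hc : IsPBlock M c)
    (hst : ∀ x : G, StabilizesBlock N c x) {B : Set (IrrCharacter G)} (hB : IsPBlock M B)
    (hcov : Cov N B c) {χ : IrrCharacter G} (hχ : χ ∈ B) :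
    om (χ : G → ℂ) (subgroupBlockCoeff N c) = 1 := by
  obtain ⟨χ₀, hχ₀, θ₀, hθ₀, hcon₀⟩ := hcov
  have h0 : om (χ₀ : G → ℂ) (subgroupBlockCoeff N c) = 1 := by
    rw [om_sbc_of_over hst hcon₀, Set.indicator_of_mem hθ₀]
    rfl
  obtain ⟨θ, hθ⟩ := Cfsg.Agent.Lib.Helper6.exists_constituent N χ.2
  have h1 : om (χ : G → ℂ) (subgroupBlockCoeff N c) = c.indicator (1 : IrrCharacter N → ℂ) θ :=
    om_sbc_of_over hst hθ
  by_cases hθc : θ ∈ c
  · rw [h1, Set.indicator_of_mem hθc]
    rfl
  · exfalso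
    rw [Set.indicator_of_notMem hθc] at h1
    have h2 := om_sub_memLocalIdeal χ₀.2 χ.2 (IsPBlock.sameBlock hB hχ₀ hχ)
      (isClassFunction_sbc_of_stable hst) (sbc_memLocalRing N hc)
    rw [h0, h1, sub_zero] at h2
    exact not_memLocalIdeal_one h2

theorem cov_of_om_ne_zero {c : Set (IrrCharacter N)}
    (hst : ∀ x : G, StabilizesBlock N c x) {B : Set (IrrCharacter G)}
    {χ : IrrCharacter G} (hχ : χ ∈ B) (h : om (χ : G → ℂ) (subgroupBlockCoeff N c) ≠ 0) :
    Cov N B c := by
  obtain ⟨θ, hθ⟩ := Cfsg.Agent.Lib.Helper6.exists_constituent N χ.2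
  have h1 : om (χ : G → ℂ) (subgroupBlockCoeff N c) = c.indicator (1 : IrrCharacter N → ℂ) θ :=
    om_sbc_of_over hst hθ
  refine ⟨χ, hχ, θ, ?_, hθ⟩
  by_contra hθc
  rw [Set.indicator_of_notMem hθc] at h1
  exact h h1

/-- a unit coefficient of the idempotent of a stable block comes from a covering block -/
theorem exists_cov_of_unit [M.IsPrime] {c : Set (IrrCharacter N)} (hc : IsPBlock M c)
    (hst : ∀ x : G, StabilizesBlock N c x) {x : G}
    (hx : ¬ MemLocalIdeal M (subgroupBlockCoeff N c x)) :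
    ∃ B : Set (IrrCharacter G), IsPBlock M B ∧ Cov N B c ∧
      ¬ MemLocalIdeal M (coef (B.indicator 1) x) := by
  by_contra hcon
  push Not at hcon
  apply hx
  obtain ⟨a, ha⟩ : ∃ a : IrrCharacter G → ℂ,
      a = fun χ : IrrCharacter G => om (χ : G → ℂ) (subgroupBlockCoeff N c) := ⟨_, rfl⟩
  have h1 : subgroupBlockCoeff N c = coef a := by
    rw [ha]
    exact eq_coef_om (isClassFunction_sbc_of_stable hst)
  have h2 : a = ∑ B ∈ Finset.univ.image (fun χ : IrrCharacter G => blockOf M (χ : G → ℂ)),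
      a * B.indicator 1 := by
    rw [← Finset.mul_sum, sum_indicator_blocks, mul_one]
  rw [h1, h2, coef_sum, Finset.sum_apply]
  refine MemLocalIdeal.sum _ fun B hB => ?_
  obtain ⟨χ, -, rfl⟩ := Finset.mem_image.mp hB
  have hBl : IsPBlock M (blockOf M (χ : G → ℂ)) := ⟨χ, rfl⟩
  by_cases hcov : Cov N (blockOf M (χ : G → ℂ)) c
  · have : a * (blockOf M (χ : G → ℂ)).indicator 1 = (blockOf M (χ : G → ℂ)).indicator 1 := by
      ext ψ
      rw [Pi.mul_apply]
      by_cases hψ : ψ ∈ blockOf M (χ : G → ℂ)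
      · rw [ha]
        simp only
        rw [om_sbc_eq_one_of_cov hc hst hBl hcov hψ, one_mul]
      · rw [Set.indicator_of_notMem hψ, mul_zero]
    rw [this]
    exact hcon _ hBl hcov
  · have : a * (blockOf M (χ : G → ℂ)).indicator 1 = 0 := by
      ext ψ
      rw [Pi.mul_apply]
      by_cases hψ : ψ ∈ blockOf M (χ : G → ℂ)
      · have : a ψ = 0 := by
          by_contra hne
          rw [ha] at hne
          exact hcov (cov_of_om_ne_zero hst hψ hne)
        rw [this, zero_mul]
        rfl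
      · rw [Set.indicator_of_notMem hψ, mul_zero]
        rfl
    rw [this, coef_zero]
    exact memLocalIdeal_zero

/-- a class on which both the idempotent of `c` and the central character of `χ` are units -/
theorem exists_unit_class_of_cov [M.IsPrime] {c : Set (IrrCharacter N)} (hc : IsPBlock M c)
    (hst : ∀ x : G, StabilizesBlock N c x) {B : Set (IrrCharacter G)} (hB : IsPBlock M B)
    (hcov : Cov N B c) {χ : IrrCharacter G} (hχ : χ ∈ B) :
    ∃ x : G, ¬ MemLocalIdeal M (subgroupBlockCoeff N c x) ∧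
      ¬ MemLocalIdeal M (centralChar (χ : G → ℂ) x) := by
  have h1 := om_sbc_eq_one_of_cov hc hst hB hcov hχ
  rw [om_eq_sum_classes (irr_isClassFunction χ.2) (isClassFunction_sbc_of_stable hst)] at h1
  by_contra hcon
  push Not at hcon
  apply not_memLocalIdeal_one (M := M)
  rw [← h1]
  refine MemLocalIdeal.sum _ fun C _ => ?_
  by_cases hu : MemLocalIdeal M (subgroupBlockCoeff N c (Quotient.out C))
  · exact MemLocalIdeal.mul_right hu (centralChar_memLocalRing χ.2 _)
  · exact MemLocalIdeal.mul_left (sbc_memLocalRing N hc _) (hcon _ hu)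

/-- **Fong's theorem.** -/
theorem fong (hM : IsPModular p M) {c : Set (IrrCharacter N)} (hc : IsPBlock M c)
    (hst : ∀ x : G, StabilizesBlock N c x) {B : Set (IrrCharacter G)} (hB : IsPBlock M B)
    (hcov : Cov N B c)
    (hmax : ∀ B' : Set (IrrCharacter G), IsPBlock M B' → Cov N B' c →
      blockDefect p B' ≤ blockDefect p B)
    {P : Subgroup G} (hP : IsDefectGroup p M B P) :
    ¬ p ∣ (P ⊔ N).index ∧ IsDefectGroup p M c ((P ⊓ N).subgroupOf N) ∧
      blockDefect p B = blockDefect p c + N.index.factorization p := by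
  have := IsPModular.isPrime hM
  have : Fact p.Prime := ⟨hM.1⟩
  have hp : p.Prime := hM.1
  obtain ⟨χ, hχ⟩ := IsPBlock.nonempty hB
  obtain ⟨x, hx1, hx2⟩ := exists_unit_class_of_cov hc hst hB hcov hχ
  obtain ⟨B', hB', hcov', hx3⟩ := exists_cov_of_unit hc hst hx1
  obtain ⟨S, hS⟩ := exists_isSylIn p (cen x)
  obtain ⟨D', hD', hSD'⟩ := exists_isDefectGroup_ge hM hB' hx3 hS.isPGroup hS.le
  obtain ⟨g, hg, hPg⟩ := isDefectGroup_iff.mp hP
  obtain ⟨t, ht⟩ := exists_le_cj_of_unit hM hB
    (not_memLocalIdeal_centralChar_of_exists hB ⟨χ, hχ, hx2⟩) (isDefectClass_iff.mp hg).2.1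
    hPg.isPGroup hPg.le hS
  have hPS : P = cj t S := by
    apply Subgroup.eq_of_le_of_card_ge ht
    rw [card_cj, IsDefectGroup.card_eq hM hB hP]
    calc Nat.card S ≤ Nat.card D' := Subgroup.card_le_of_le hSD'
      _ = p ^ blockDefect p B' := IsDefectGroup.card_eq hM hB' hD'
      _ ≤ p ^ blockDefect p B := Nat.pow_le_pow_right hp.pos (hmax B' hB' hcov')
  obtain ⟨y, hy⟩ : ∃ y, y = t * x * t⁻¹ := ⟨_, rfl⟩
  have hPy : IsSylIn p (cen y) P := by
    rw [hPS, hy, cen, centralizer_singleton_cj]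
    exact isSylIn_cj hS t
  have hy1 : ¬ MemLocalIdeal M (subgroupBlockCoeff N c y) := by
    rw [hy, isClassFunction_sbc_of_stable hst x t]
    exact hx1
  have hy2 : ¬ MemLocalIdeal M (centralChar (χ : G → ℂ) y) := by
    rw [hy, centralChar_conj (irr_isClassFunction χ.2)]
    exact hx2
  have hyN : y ∈ N := by
    by_contra hcon
    apply hy1
    rw [sbc_not_mem _ _ hcon]
    exact memLocalIdeal_zero
  obtain ⟨n₀, hn₀⟩ : ∃ n₀ : N, (n₀ : G) = y := ⟨⟨y, hyN⟩, rfl⟩
  obtain ⟨θ, hθ⟩ := Cfsg.Agent.Lib.Helper6.exists_constituent N χ.2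
  have hθc : θ ∈ c := by
    have h1 := om_sbc_eq_one_of_cov hc hst hB hcov hχ
    rw [om_sbc_of_over hst hθ] at h1
    by_contra hcon
    rw [Set.indicator_of_notMem hcon] at h1
    exact zero_ne_one h1
  have h1 := centralChar_sub_index_mul N hc hst hθc χ.2 hθ n₀
  have h2 : ¬ MemLocalIdeal M (((N ⊔ cen (n₀ : G)).index : ℂ) * centralChar (θ : N → ℂ) n₀) := by
    rw [← memLocalIdeal_congr h1, hn₀]
    exact hy2
  rw [hn₀] at h2
  have h3 : ¬ p ∣ (N ⊔ cen y).index := by
    intro hdvd
    apply h2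
    apply MemLocalIdeal.mul_right _ (memLocalRing_of_isIntegral (centralChar_isIntegral θ.2 n₀))
    rwa [memLocalIdeal_natCast_iff hM]
  have h4 : ¬ MemLocalIdeal M (centralChar (θ : N → ℂ) n₀) := by
    intro hmem
    apply h2
    exact MemLocalIdeal.mul_left (memLocalRing_of_isIntegral (isIntegral_natCast _)) hmem
  obtain ⟨h5, h6⟩ := isSylIn_inf_normal (N := N) hPy
  have hDc : IsDefectGroup p M c ((P ⊓ N).subgroupOf N) := by
    refine isDefectGroup_iff.mpr ⟨n₀, ⟨?_, ?_, ?_⟩, ?_⟩
    · rw [← sbc_coe N c n₀]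
      exact sbc_memLocalRing N hc _
    · rw [← sbc_coe N c n₀, hn₀]
      exact hy1
    · exact not_memLocalIdeal_centralChar_of_exists hc ⟨θ, hθc, h4⟩
    · have hcopy : IsCopy (cen n₀) (cen y ⊓ N) := by
        intro z
        rw [Subgroup.mem_inf, Subgroup.mem_centralizer_singleton_iff]
        constructor
        · rintro ⟨hz1, hz2⟩
          refine ⟨hz2, Subgroup.mem_centralizer_singleton_iff.mpr (Subtype.ext ?_)⟩
          show z * (n₀ : G) = n₀ * z
          rw [hn₀, hz1]
        · rintro ⟨hz2, hz1⟩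
          have := congrArg Subtype.val (Subgroup.mem_centralizer_singleton_iff.mp hz1)
          refine ⟨?_, hz2⟩
          rw [← hn₀]
          exact this
      rw [isSylIn_iff, card_subgroupOf_inf, hcopy.card_eq]
      refine ⟨?_, h5.card⟩
      intro z hz
      exact (hcopy.coe_mem_iff z).mp (h5.le (Subgroup.mem_subgroupOf.mp hz))
  have f1 := factorization_index_sup (p := p) (N := N) (K := P)
  have f2 := factorization_index_sup (p := p) (N := N) (K := cen y)
  have f3 : (cen y ⊔ N).index.factorization p = 0 := by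
    rw [sup_comm]
    exact Nat.factorization_eq_zero_of_not_dvd h3
  have f4 : (P ⊔ N).index.factorization p = 0 := by omega
  refine ⟨?_, hDc, ?_⟩
  · intro hdvd
    have := (hp.dvd_iff_one_le_factorization Subgroup.index_ne_zero_of_finite).mp hdvd
    omega
  · have c1 := IsDefectGroup.card_eq hM hB hP
    have c2 := IsDefectGroup.card_eq hM hc hDc
    rw [card_subgroupOf_inf] at c2
    have c3 := card_inf_mul_relIndex N P
    have n3 : N.relIndex P ≠ 0 := by
      intro h
      rw [h, mul_zero] at c3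
      exact (Nat.card_pos (α := P)).ne' c3.symm
    have c4 : (Nat.card (P ⊓ N : Subgroup G) * N.relIndex P).factorization p =
        (Nat.card P).factorization p := by rw [c3]
    rw [Nat.factorization_mul Nat.card_pos.ne' n3, c1, c2, hp.factorization_pow,
      hp.factorization_pow] at c4
    simp only [Finsupp.coe_add, Pi.add_apply, Finsupp.single_eq_same] at c4
    omega

end cover

end Cfsg.Agent.Lib.Helper24
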