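import Cfsg.Agent.Lib.Helper24.FongReynolds2
import Cfsg.Agent.Lib.Helper24.Fong
import Cfsg.Agent.Lib.Helper6.OneBlock
import Cfsg.Agent.Lib.Helper29.PSolvable2
import Cfsg.Agent.Lib.Helper24.DefectZero
import Cfsg.Agent.Lib.Helper9.ExtLayer
import Cfsg.Agent.S0887
import Cfsg.Agent.S0629
import Cfsg.Agent.S0914

/-!
# Fong's theorem: the characters of a `p`-solvable group over an invariant character of the
`p'`-core form a single block of full defect
-/

set_option autoImplicit false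

namespace Cfsg.Agent.Lib.Helper24

open Cfsg Cfsg.Agent.Lib.Helper2 Cfsg.Agent.Lib.Helper6
open scoped ComplexConjugate Classical

attribute [local instance] irrFintype

universe u

section basic

variable {X : Type u} [Group X] [Fintype X] {M : Ideal AlgInt} {p : ℕ}

theorem sameBlock_of_pRegular (hM : IsPModular p M) (χ ψ : IrrCharacter X)
    (h : ∀ g : X, ¬ p ∣ orderOf g →
      MemLocalIdeal M (centralChar (χ : X → ℂ) g - centralChar (ψ : X → ℂ) g)) :
    SameBlock M (χ : X → ℂ) (ψ : X → ℂ) := by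
  have := IsPModular.isPrime hM
  have hB : IsPBlock M (blockOf M (χ : X → ℂ)) := ⟨χ, rfl⟩
  have h1 := om_coef ((blockOf M (χ : X → ℂ)).indicator 1) χ
  have h2 := om_coef ((blockOf M (χ : X → ℂ)).indicator 1) ψ
  rw [om_eq_sum_classes (irr_isClassFunction χ.2) (isClassFunction_coef _)] at h1
  rw [om_eq_sum_classes (irr_isClassFunction ψ.2) (isClassFunction_coef _)] at h2
  have h3 : MemLocalIdeal M ((blockOf M (χ : X → ℂ)).indicator 1 χ -
      (blockOf M (χ : X → ℂ)).indicator 1 ψ) := by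
    rw [← h1, ← h2, ← Finset.sum_sub_distrib]
    refine MemLocalIdeal.sum _ fun C _ => ?_
    rw [← mul_sub]
    by_cases hd : p ∣ orderOf (Quotient.out C)
    · rw [coef_indicator_eq_zero hM hB hd, zero_mul]
      exact memLocalIdeal_zero
    · exact MemLocalIdeal.mul_left (IsPBlock.indicator_mem_ZS hB _) (h _ hd)
  rw [Set.indicator_of_mem (mem_blockOf_self χ), Pi.one_apply] at h3
  by_contra hcon
  have h4 : ψ ∉ blockOf M (χ : X → ℂ) := hcon
  rw [Set.indicator_of_notMem h4, sub_zero] at h3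
  exact not_memLocalIdeal_one h3

/-- The data of Fong's theorem: `ε` is a primitive idempotent of the centre of the group algebra
of the normal subgroup `N`, invariant in `X`, and `Q` is a `p`-subgroup with `N Q` normal and
`C_X(Q) ≤ N Q`. -/
structure FData (p : ℕ) (M : Ideal AlgInt) (N Q : Subgroup X) (ε : X → ℂ) : Prop where
  normalN : N.Normal
  pQ : IsPGroup p Q
  normalL : (N ⊔ Q).Normal
  cent : Subgroup.centralizer (Q : Set X) ≤ N ⊔ Q
  cls : IsClassFunction X ε
  supp : ∀ x, x ∉ N → ε x = 0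
  idem : conv ε ε = ε
  loc : ∀ x, MemLocalRing M (ε x)
  unit1 : ¬ MemLocalIdeal M (ε 1)
  prim : ∀ f : X → ℂ, (∀ x, x ∉ N → f x = 0) → (∀ n ∈ N, ∀ x, f (n * x * n⁻¹) = f x) →
    ∃ c : ℂ, conv ε f = c • ε

variable {N Q : Subgroup X} {ε : X → ℂ}

theorem FData.om_eq (d : FData p M N Q ε) {χ χ' : IrrCharacter X}
    (h : om (χ : X → ℂ) ε = 1) (h' : om (χ' : X → ℂ) ε = 1) {f : X → ℂ}
    (hf : IsClassFunction X f) (hs : ∀ x, x ∉ N → f x = 0) :
    om (χ : X → ℂ) f = om (χ' : X → ℂ) f := by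
  obtain ⟨c, hc⟩ := d.prim f hs (fun n _ x => hf x n)
  have e1 := om_conv χ.2 d.cls hf
  have e2 := om_conv χ'.2 d.cls hf
  rw [hc, om_smul, h, one_mul, mul_one] at e1
  rw [hc, om_smul, h', one_mul, mul_one] at e2
  rw [← e1, ← e2]

theorem FData.om_zero_or_one (d : FData p M N Q ε) (χ : IrrCharacter X) :
    om (χ : X → ℂ) ε = 0 ∨ om (χ : X → ℂ) ε = 1 := by
  have h1 := om_conv χ.2 d.cls d.cls
  rw [d.idem] at h1
  have h2 : om (χ : X → ℂ) ε * (om (χ : X → ℂ) ε - 1) = 0 := by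
    rw [mul_sub, ← h1]
    ring
  rcases mul_eq_zero.mp h2 with h3 | h3
  · exact Or.inl h3
  · exact Or.inr (sub_eq_zero.mp h3)

theorem FData.om_eq_one_of_sameBlock [M.IsPrime] (d : FData p M N Q ε) {χ χ' : IrrCharacter X}
    (hs : SameBlock M (χ : X → ℂ) (χ' : X → ℂ)) (h : om (χ : X → ℂ) ε = 1) :
    om (χ' : X → ℂ) ε = 1 := by
  rcases d.om_zero_or_one χ' with h3 | h3
  · exfalso
    have := om_sub_memLocalIdeal χ.2 χ'.2 hs d.cls d.loc
    rw [h, h3, sub_zero] at this
    exact not_memLocalIdeal_one this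
  · exact h3

omit [Fintype X] in
theorem mem_of_pRegular_of_mem_sup [Finite X] [Fact p.Prime] [N.Normal] (hQ : IsPGroup p Q) {g : X}
    (hg : g ∈ N ⊔ Q) (hp : ¬ p ∣ orderOf g) : g ∈ N := by
  rw [← SetLike.mem_coe, Subgroup.normal_mul] at hg
  obtain ⟨n, hn, q, hq, rfl⟩ := hg
  obtain ⟨k, hk⟩ := hQ ⟨q, hq⟩
  have hk' : q ^ p ^ k = 1 := congrArg Subtype.val hk
  have h1 : (QuotientGroup.mk (n * q) : X ⧸ N) = QuotientGroup.mk q := by
    rw [QuotientGroup.mk_mul, (QuotientGroup.eq_one_iff n).mpr hn, one_mul]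
  have h2 : orderOf (QuotientGroup.mk (n * q) : X ⧸ N) ∣ p ^ k := by
    rw [h1]
    apply orderOf_dvd_of_pow_eq_one
    rw [← QuotientGroup.mk_pow, hk']
    rfl
  have h3 : orderOf (QuotientGroup.mk (n * q) : X ⧸ N) ∣ orderOf (n * q) :=
    orderOf_map_dvd (QuotientGroup.mk' N) (n * q)
  have h4 : Nat.Coprime (p ^ k) (orderOf (n * q)) :=
    Nat.Coprime.pow_left k ((Nat.Prime.coprime_iff_not_dvd Fact.out).mpr hp)
  have h5 : orderOf (QuotientGroup.mk (n * q) : X ⧸ N) = 1 :=
    Nat.eq_one_of_dvd_coprimes h4 h2 h3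
  exact (QuotientGroup.eq_one_iff _).mp (orderOf_eq_one_iff.mp h5)

/-- if all characters over `ε` have central characters vanishing at the `p`-regular elements
outside `N Q`, they all lie in one block -/
theorem FData.sameBlock_of_reg (hM : IsPModular p M) (d : FData p M N Q ε)
    (hreg : ∀ χ : IrrCharacter X, om (χ : X → ℂ) ε = 1 → ∀ x, x ∉ N ⊔ Q → ¬ p ∣ orderOf x →
      MemLocalIdeal M (centralChar (χ : X → ℂ) x))
    {χ χ' : IrrCharacter X} (h : om (χ : X → ℂ) ε = 1) (h' : om (χ' : X → ℂ) ε = 1) :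
    SameBlock M (χ : X → ℂ) (χ' : X → ℂ) := by
  have := IsPModular.isPrime hM
  have : Fact p.Prime := ⟨hM.1⟩
  have := d.normalN
  apply sameBlock_of_pRegular hM
  intro g hg
  by_cases hgN : g ∈ N
  · rw [← om_classInd (irr_isClassFunction χ.2), ← om_classInd (irr_isClassFunction χ'.2),
      d.om_eq h h' (isClassFunction_classInd g), sub_self]
    · exact memLocalIdeal_zero
    · intro x hx
      rw [classInd_apply, if_neg]
      intro hc
      obtain ⟨t, rfl⟩ := isConj_iff.mp hc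
      exact hx (d.normalN.conj_mem _ hgN _)
  · have hgL : g ∉ N ⊔ Q := fun hc => hgN (mem_of_pRegular_of_mem_sup d.pQ hc hg)
    exact MemLocalIdeal.sub (hreg χ h g hgL hg) (hreg χ' h' g hgL hg)

/-- some block over `ε` has an idempotent with unit coefficient at `1` -/
theorem FData.exists_block [M.IsPrime] (d : FData p M N Q ε) :
    ∃ B : Set (IrrCharacter X), IsPBlock M B ∧ (∀ χ ∈ B, om (χ : X → ℂ) ε = 1) ∧
      ¬ MemLocalIdeal M (coef (B.indicator 1) 1) := by
  by_contra hcon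
  push Not at hcon
  apply d.unit1
  obtain ⟨a, ha⟩ : ∃ a : IrrCharacter X → ℂ,
      a = fun χ : IrrCharacter X => om (χ : X → ℂ) ε := ⟨_, rfl⟩
  have h1 : ε = coef a := by
    rw [ha]
    exact eq_coef_om d.cls
  have h2 : a = ∑ B ∈ Finset.univ.image (fun χ : IrrCharacter X => blockOf M (χ : X → ℂ)),
      a * B.indicator 1 := by
    rw [← Finset.mul_sum, sum_indicator_blocks, mul_one]
  rw [h1, h2, coef_sum, Finset.sum_apply]
  refine MemLocalIdeal.sum _ fun B hB => ?_
  obtain ⟨χ, -, rfl⟩ := Finset.mem_image.mp hB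
  have hBl : IsPBlock M (blockOf M (χ : X → ℂ)) := ⟨χ, rfl⟩
  rcases d.om_zero_or_one χ with h0 | h0
  · have : a * (blockOf M (χ : X → ℂ)).indicator 1 = 0 := by
      ext ψ
      rw [Pi.mul_apply]
      by_cases hψ : ψ ∈ blockOf M (χ : X → ℂ)
      · have : a ψ = 0 := by
          rw [ha]
          rcases d.om_zero_or_one ψ with h3 | h3
          · exact h3
          · exfalso
            have h4 := d.om_eq_one_of_sameBlock (SameBlock.symm hψ) h3
            rw [h0] at h4
            exact zero_ne_one h4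
        rw [this, zero_mul]
        rfl
      · rw [Set.indicator_of_notMem hψ, mul_zero]
        rfl
    rw [this, coef_zero]
    exact memLocalIdeal_zero
  · have hall : ∀ ψ ∈ blockOf M (χ : X → ℂ), om (ψ : X → ℂ) ε = 1 :=
      fun ψ hψ => d.om_eq_one_of_sameBlock hψ h0
    have : a * (blockOf M (χ : X → ℂ)).indicator 1 = (blockOf M (χ : X → ℂ)).indicator 1 := by
      ext ψ
      rw [Pi.mul_apply]
      by_cases hψ : ψ ∈ blockOf M (χ : X → ℂ)
      · rw [ha]
        simp only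
        rw [hall ψ hψ, one_mul]
      · rw [Set.indicator_of_notMem hψ, mul_zero]
    rw [this]
    exact hcon _ hBl hall

/-- there is a character over `ε` whose central character vanishes outside `N Q` -/
theorem FData.exists_reg (hM : IsPModular p M) (d : FData p M N Q ε) :
    ∃ χ₀ : IrrCharacter X, om (χ₀ : X → ℂ) ε = 1 ∧
      ∀ x, x ∉ N ⊔ Q → MemLocalIdeal M (centralChar (χ₀ : X → ℂ) x) := by
  have := IsPModular.isPrime hM
  obtain ⟨B, hB, hall, hu⟩ := d.exists_block
  obtain ⟨χ₀, hχ₀⟩ := IsPBlock.nonempty hB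
  refine ⟨χ₀, hall χ₀ hχ₀, fun x hx => ?_⟩
  by_contra hcon
  obtain ⟨x', hx', hx'Q⟩ := exists_conj_mem_centralizer hM hB
    (not_memLocalIdeal_centralChar_of_exists hB ⟨χ₀, hχ₀, hcon⟩) hu d.pQ
    (Subgroup.one_mem _)
  obtain ⟨t, rfl⟩ := isConj_iff.mp hx'
  apply hx
  have h1 := d.normalL.conj_mem _ (d.cent hx'Q) t⁻¹
  have h2 : t⁻¹ * (t * x * t⁻¹) * t⁻¹⁻¹ = x := by group
  rwa [h2] at h1

theorem FData.reg_of_sameBlock (hM : IsPModular p M) (d : FData p M N Q ε)
    (hs : ∀ χ χ' : IrrCharacter X, om (χ : X → ℂ) ε = 1 → om (χ' : X → ℂ) ε = 1 →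
      SameBlock M (χ : X → ℂ) (χ' : X → ℂ))
    {χ : IrrCharacter X} (h : om (χ : X → ℂ) ε = 1) {x : X} (hx : x ∉ N ⊔ Q) :
    MemLocalIdeal M (centralChar (χ : X → ℂ) x) := by
  have := IsPModular.isPrime hM
  obtain ⟨χ₀, h0, hreg⟩ := d.exists_reg hM
  exact (memLocalIdeal_congr (hs χ χ₀ h h0 x)).mpr (hreg x hx)

/-- passage to constituents on a subgroup containing `N` -/
theorem FData.om_res_eq_one (d : FData p M N Q ε) {H : Subgroup X} (hH : N ≤ H)
    {χ : IrrCharacter X} (h : om (χ : X → ℂ) ε = 1) {η : IrrCharacter H}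
    (hc : classInner ((χ : X → ℂ) ∘ H.subtype) (η : H → ℂ) ≠ 0) :
    om (η : H → ℂ) (resT H ε) = 1 := by
  rw [← h, om_eq_of_constituent H.subtype H.subtype_injective χ.2 η hc d.cls]
  · rfl
  · intro t ht
    apply d.supp
    intro htN
    exact ht ⟨⟨t, hH htN⟩, rfl⟩

theorem memLocalIdeal_om_of_reg [M.IsPrime] {Y L : Subgroup X} {χ : IrrCharacter X}
    {ζ : IrrCharacter Y} (hc : classInner ((χ : X → ℂ) ∘ Y.subtype) (ζ : Y → ℂ) ≠ 0)
    (hreg : ∀ y : Y, (y : X) ∉ L → MemLocalIdeal M (centralChar (ζ : Y → ℂ) y))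
    {f : X → ℂ} (hf : IsClassFunction X f) (hfY : ∀ x, x ∉ Y → f x = 0)
    (hfL : ∀ x, x ∈ L → f x = 0) (hfR : ∀ x, MemLocalRing M (f x)) :
    MemLocalIdeal M (om (χ : X → ℂ) f) := by
  have hfc : IsClassFunction Y (f ∘ Y.subtype) := isClassFunction_res Y hf
  rw [om_eq_of_constituent Y.subtype Y.subtype_injective χ.2 ζ hc hf,
    om_eq_sum_classes (irr_isClassFunction ζ.2) hfc]
  · refine MemLocalIdeal.sum _ fun C _ => ?_
    by_cases hL : ((Quotient.out C : Y) : X) ∈ L
    · have : (f ∘ Y.subtype) (Quotient.out C) = 0 := hfL _ hL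
      rw [this, zero_mul]
      exact memLocalIdeal_zero
    · exact MemLocalIdeal.mul_left (hfR _) (hreg _ hL)
  · intro t ht
    apply hfY
    intro htY
    exact ht ⟨⟨t, htY⟩, rfl⟩

theorem memLocalIdeal_centralChar_of_reg [M.IsPrime] {Y L : Subgroup X} [Y.Normal] [L.Normal]
    {χ : IrrCharacter X}
    {ζ : IrrCharacter Y} (hc : classInner ((χ : X → ℂ) ∘ Y.subtype) (ζ : Y → ℂ) ≠ 0)
    (hreg : ∀ y : Y, (y : X) ∉ L → MemLocalIdeal M (centralChar (ζ : Y → ℂ) y))
    {x : X} (hxY : x ∈ Y) (hxL : x ∉ L) :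
    MemLocalIdeal M (centralChar (χ : X → ℂ) x) := by
  rw [← om_classInd (irr_isClassFunction χ.2)]
  apply memLocalIdeal_om_of_reg hc hreg (isClassFunction_classInd x)
  · intro y hy
    rw [classInd_apply, if_neg]
    intro hcj
    obtain ⟨t, rfl⟩ := isConj_iff.mp hcj
    exact hy ((inferInstance : Y.Normal).conj_mem _ hxY _)
  · intro y hy
    rw [classInd_apply, if_neg]
    intro hcj
    obtain ⟨t, rfl⟩ := isConj_iff.mp hcj
    apply hxL
    have h1 := (inferInstance : L.Normal).conj_mem _ hy t⁻¹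
    have h2 : t⁻¹ * (t * x * t⁻¹) * t⁻¹⁻¹ = x := by group
    rwa [h2] at h1
  · intro y
    rw [classInd_apply]
    split_ifs
    · exact memLocalRing_one
    · exact memLocalRing_zero

theorem FData.restrict (d : FData p M N Q ε) {H : Subgroup X} (hH : N ⊔ Q ≤ H) :
    FData p M (N.subgroupOf H) (Q.subgroupOf H) (resT H ε) := by
  have hNH : N ≤ H := le_sup_left.trans hH
  have hQH : Q ≤ H := le_sup_right.trans hH
  have hsup : N.subgroupOf H ⊔ Q.subgroupOf H = (N ⊔ Q).subgroupOf H :=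
    (Subgroup.subgroupOf_sup hNH hQH).symm
  have hε : ε = extendByZero H (resT H ε) :=
    eq_ext_of_supp (fun g hg => d.supp g (fun h => hg (hNH h)))
  refine ⟨?_, ?_, ?_, ?_, isClassFunction_res H d.cls, ?_, ?_, fun x => d.loc x, d.unit1, ?_⟩
  · have := d.normalN
    infer_instance
  · exact d.pQ.comap_subtype
  · rw [hsup]
    have := d.normalL
    infer_instance
  · rw [hsup]
    intro y hy
    rw [Subgroup.mem_subgroupOf]
    apply d.cent
    rw [Subgroup.mem_centralizer_iff] at hy ⊢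
    intro q hq
    exact congrArg Subtype.val (hy ⟨q, hQH hq⟩ (Subgroup.mem_subgroupOf.mpr hq))
  · intro y hy
    exact d.supp y (fun h => hy (Subgroup.mem_subgroupOf.mpr h))
  · apply ext_injective H
    rw [ext_conv, ← hε, d.idem]
  · intro f hf1 hf2
    have s1 : ∀ x, x ∉ N → extendByZero H f x = 0 := by
      intro x hx
      by_cases hxH : x ∈ H
      · rw [extendByZero_mem _ _ hxH]
        exact hf1 _ (fun h => hx (Subgroup.mem_subgroupOf.mp h))
      · exact extendByZero_not_mem _ _ hxH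
    have s2 : ∀ n ∈ N, ∀ x, extendByZero H f (n * x * n⁻¹) = extendByZero H f x := by
      intro n hn x
      by_cases hxH : x ∈ H
      · have h1 : n * x * n⁻¹ ∈ H := H.mul_mem (H.mul_mem (hNH hn) hxH) (H.inv_mem (hNH hn))
        rw [extendByZero_mem _ _ hxH, extendByZero_mem _ _ h1]
        exact hf2 ⟨n, hNH hn⟩ (Subgroup.mem_subgroupOf.mpr hn) ⟨x, hxH⟩
      · have h1 : n * x * n⁻¹ ∉ H := by
          intro h
          apply hxH
          have h2 := H.mul_mem (H.mul_mem (H.inv_mem (hNH hn)) h) (hNH hn)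
          have h3 : n⁻¹ * (n * x * n⁻¹) * n = x := by group
          rwa [h3] at h2
        rw [extendByZero_not_mem _ _ hxH, extendByZero_not_mem _ _ h1]
    obtain ⟨c, hc⟩ := d.prim (extendByZero H f) s1 s2
    refine ⟨c, ?_⟩
    apply ext_injective H
    rw [ext_conv, ← hε, hc]
    ext g
    by_cases hg : g ∈ H
    · rw [extendByZero_mem _ _ hg, Pi.smul_apply, Pi.smul_apply]
      rfl
    · rw [extendByZero_not_mem _ _ hg, Pi.smul_apply, d.supp g (fun h => hg (hNH h)), smul_zero]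

end basic

section top

open Cfsg.Agent.Lib.Helper29

theorem exists_top_factor {X : Type*} [Group X] {p : ℕ} [hp : Fact p.Prime]
    (h : IsPSolvable p X) {L : Subgroup X} [L.Normal] (hL : L ≠ ⊤) :
    ∃ Y : Subgroup X, Y.Normal ∧ L ≤ Y ∧ Y ≠ ⊤ ∧ PP p Y.index := by
  obtain ⟨n, H, h0, hn, hmono, hnorm, hstep⟩ := h
  have key : ∀ k : ℕ, ∀ hk : k < n + 1, H ⟨k, hk⟩ ⊔ L = ⊤ →
      ∃ Y : Subgroup X, Y.Normal ∧ L ≤ Y ∧ Y ≠ ⊤ ∧ PP p Y.index := by
    intro k
    induction k with
    | zero =>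
      intro hk htop
      exfalso
      apply hL
      have e0 : (⟨0, hk⟩ : Fin (n + 1)) = 0 := rfl
      rwa [e0, h0, bot_sup_eq] at htop
    | succ k ih =>
      intro hk htop
      by_cases hprev : H ⟨k, by omega⟩ ⊔ L = ⊤
      · exact ih _ hprev
      · have := hnorm ⟨k, by omega⟩
        refine ⟨H ⟨k, by omega⟩ ⊔ L, inferInstance, le_sup_right, hprev, ?_⟩
        have hs := hstep ⟨k, by omega⟩
        have e1 : (⟨k, by omega⟩ : Fin n).castSucc = (⟨k, by omega⟩ : Fin (n + 1)) := rfl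
        have e2 : (⟨k, by omega⟩ : Fin n).succ = (⟨k + 1, hk⟩ : Fin (n + 1)) := rfl
        rw [e1, e2] at hs
        refine PP.of_dvd hp.out hs ?_
        have hle : H ⟨k, by omega⟩ ≤ H ⟨k + 1, hk⟩ := hmono (by
          rw [Fin.le_def]
          simp)
        have e3 : (⊤ : Subgroup X) = H ⟨k + 1, hk⟩ ⊔ (H ⟨k, by omega⟩ ⊔ L) := by
          rw [← sup_assoc, sup_eq_left.mpr hle, htop]
        rw [← Subgroup.relIndex_top_right, e3, Subgroup.relIndex_sup_right]
        exact Subgroup.relIndex_dvd_of_le_left _ le_sup_left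
  apply key n (by omega)
  have : (⟨n, by omega⟩ : Fin (n + 1)) = Fin.last n := rfl
  rw [this, hn, top_sup_eq]

end top

section steps

variable {X : Type u} [Group X] [Fintype X] {M : Ideal AlgInt} {p : ℕ}
  {N Q : Subgroup X} {ε : X → ℂ}

theorem memLocalRing_classInd [M.IsPrime] (x y : X) : MemLocalRing M (classInd x y) := by
  rw [classInd_apply]
  split_ifs
  · exact memLocalRing_one
  · exact memLocalRing_zero

theorem memLocalRing_cpow [M.IsPrime] {f : X → ℂ} (hf : ∀ g, MemLocalRing M (f g)) (k : ℕ) :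
    ∀ g, MemLocalRing M (cpow f k g) := by
  induction k with
  | zero => exact memLocalRing_delta
  | succ k ih => exact memLocalRing_conv hf ih

/-- the cyclic step -/
theorem FData.reg_of_cyclic (hM : IsPModular p M) (d : FData p M N Q ε) {Y : Subgroup X}
    [Y.Normal] (hLY : N ⊔ Q ≤ Y)
    (hsame : ∀ ζ ζ' : IrrCharacter Y, om (ζ : Y → ℂ) (resT Y ε) = 1 →
      om (ζ' : Y → ℂ) (resT Y ε) = 1 → SameBlock M (ζ : Y → ℂ) (ζ' : Y → ℂ))
    {x : X} (hx : Y ⊔ Subgroup.zpowers x = ⊤) (hxL : x ∉ N ⊔ Q) {χ : IrrCharacter X}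
    (hχ : om (χ : X → ℂ) ε = 1) : MemLocalIdeal M (centralChar (χ : X → ℂ) x) := by
  have := IsPModular.isPrime hM
  have hNY : N ≤ Y := le_sup_left.trans hLY
  obtain ⟨χ₀, h0, hreg⟩ := d.exists_reg hM
  obtain ⟨π, hπ⟩ : ∃ π : X →* X ⧸ Y, π = QuotientGroup.mk' Y := ⟨_, rfl⟩
  have hker : ∀ g, π g = 1 ↔ g ∈ Y := by
    intro g
    rw [hπ]
    exact QuotientGroup.eq_one_iff g
  have hgen : ∀ t : X, π t ∈ Subgroup.zpowers (π x) := by
    intro t
    have h1 : t ∈ Y ⊔ Subgroup.zpowers x := by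
      rw [hx]
      exact Subgroup.mem_top t
    rw [← SetLike.mem_coe, Subgroup.normal_mul] at h1
    obtain ⟨y, hy, z, hz, rfl⟩ := h1
    obtain ⟨k, rfl⟩ := Subgroup.mem_zpowers_iff.mp hz
    rw [map_mul, (hker y).mpr hy, one_mul, map_zpow]
    exact Subgroup.zpow_mem_zpowers _ _
  have hconj : ∀ u, IsConj x u → π u = π x := by
    intro u hu
    obtain ⟨t, rfl⟩ := isConj_iff.mp hu
    obtain ⟨k, hk⟩ := Subgroup.mem_zpowers_iff.mp (hgen t)
    rw [map_mul, map_mul, map_inv, ← hk, ← zpow_add_one, ← zpow_neg, ← zpow_add]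
    simp
  have hsupp : ∀ k g, cpow (classInd x) k g ≠ 0 → π g = π x ^ k := by
    intro k
    induction k with
    | zero =>
      intro g hg
      rw [cpow_zero, delta_apply] at hg
      by_cases h1 : g = 1
      · rw [h1, map_one, pow_zero]
      · rw [if_neg h1] at hg
        exact absurd rfl hg
    | succ k ih =>
      intro g hg
      rw [cpow_succ, conv_apply] at hg
      obtain ⟨u, -, hu⟩ := Finset.exists_ne_zero_of_sum_ne_zero hg
      have hu1 : classInd x u ≠ 0 := left_ne_zero_of_mul hu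
      have hu2 : cpow (classInd x) k (u⁻¹ * g) ≠ 0 := right_ne_zero_of_mul hu
      have hu3 : IsConj x u := by
        by_contra hc
        rw [classInd_apply, if_neg hc] at hu1
        exact hu1 rfl
      have h4 := ih _ hu2
      rw [map_mul, map_inv, hconj u hu3] at h4
      rw [pow_succ', ← h4]
      group
  obtain ⟨m, hm⟩ : ∃ m, m = orderOf x := ⟨_, rfl⟩
  have hm0 : 0 < m := by
    rw [hm]
    exact orderOf_pos x
  obtain ⟨f, hf⟩ : ∃ f, f = cpow (classInd x) m := ⟨_, rfl⟩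
  have hfc : IsClassFunction X f := by
    rw [hf]
    exact isClassFunction_cpow (isClassFunction_classInd x) m
  have hfR : ∀ g, MemLocalRing M (f g) := by
    rw [hf]
    exact memLocalRing_cpow (memLocalRing_classInd x) m
  have hfY : ∀ t, t ∉ Set.range Y.subtype → f t = 0 := by
    intro t ht
    by_contra hne
    rw [hf] at hne
    have h1 := hsupp m t hne
    rw [← map_pow, hm, pow_orderOf_eq_one, map_one, hker] at h1
    exact ht ⟨⟨t, h1⟩, rfl⟩
  obtain ⟨ζ, hζ⟩ := Cfsg.Agent.Lib.Helper6.exists_constituent Y χ.2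
  obtain ⟨ζ₀, hζ₀⟩ := Cfsg.Agent.Lib.Helper6.exists_constituent Y χ₀.2
  have hs := hsame ζ ζ₀ (d.om_res_eq_one hNY hχ hζ) (d.om_res_eq_one hNY h0 hζ₀)
  have h1 : MemLocalIdeal M (om (χ : X → ℂ) f - om (χ₀ : X → ℂ) f) := by
    rw [om_eq_of_constituent Y.subtype Y.subtype_injective χ.2 ζ hζ hfc hfY,
      om_eq_of_constituent Y.subtype Y.subtype_injective χ₀.2 ζ₀ hζ₀ hfc hfY]
    exact om_sub_memLocalIdeal ζ.2 ζ₀.2 hs (isClassFunction_res Y hfc) (fun t => hfR t)
  rw [hf, om_cpow χ.2 (isClassFunction_classInd x), om_cpow χ₀.2 (isClassFunction_classInd x),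
    om_classInd (irr_isClassFunction χ.2), om_classInd (irr_isClassFunction χ₀.2)] at h1
  have h2 : MemLocalIdeal M (centralChar (χ₀ : X → ℂ) x ^ m) := by
    obtain ⟨j, rfl⟩ : ∃ j, m = j + 1 := ⟨m - 1, by omega⟩
    rw [pow_succ]
    exact MemLocalIdeal.mul_left (MemLocalRing.pow (centralChar_memLocalRing χ₀.2 _) j)
      (hreg x hxL)
  exact MemLocalIdeal.of_pow (centralChar_memLocalRing χ.2 _) ((memLocalIdeal_congr h1).mpr h2)

theorem classInner_comp_equiv' {A B : Type*} [Group A] [Group B] [Fintype A] [Fintype B]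
    (e : A ≃* B) (a b : B → ℂ) : classInner (a ∘ e) (b ∘ e) = classInner a b := by
  simp only [classInner]
  rw [Nat.card_congr e.toEquiv]
  congr 1
  exact Fintype.sum_equiv e.toEquiv _ _ fun x => rfl

omit [Fintype X] in
theorem index_centralizer_mul_index [Finite X] (H : Subgroup X) (h : H) :
    (Subgroup.centralizer ({h} : Set H)).index * H.index =
      H.relIndex (Subgroup.centralizer ({(h : X)} : Set X)) *
        (Subgroup.centralizer ({(h : X)} : Set X)).index := by
  obtain ⟨K, hK⟩ : ∃ K, K = Subgroup.centralizer ({(h : X)} : Set X) := ⟨_, rfl⟩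
  have h1 : Subgroup.centralizer ({h} : Set H) = K.subgroupOf H := by
    ext z
    rw [Subgroup.mem_subgroupOf, hK, Subgroup.mem_centralizer_singleton_iff,
      Subgroup.mem_centralizer_singleton_iff]
    constructor
    · intro hz
      exact congrArg Subtype.val hz
    · intro hz
      exact Subtype.ext hz
  rw [← hK, h1]
  have h2 : (K.subgroupOf H).index = K.relIndex H := rfl
  rw [h2, ← Subgroup.inf_relIndex_right K H, Subgroup.relIndex_mul_index inf_le_right,
    ← Subgroup.inf_relIndex_left K H, Subgroup.relIndex_mul_index inf_le_left]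

/-- degrees of constituents along a normal subgroup of index prime to `p` -/
theorem exists_degree_factor {p : ℕ} {Y H : Subgroup X} [Y.Normal] (hYH : Y ≤ H)
    (hidx : ¬ p ∣ Y.index) {χ : IrrCharacter X} {η : IrrCharacter H}
    (hc : classInner ((χ : X → ℂ) ∘ H.subtype) (η : H → ℂ) ≠ 0) :
    ∃ t u v : ℕ, ¬ p ∣ u ∧ (χ : X → ℂ) 1 = (t : ℂ) * u ∧ (η : H → ℂ) 1 = (t : ℂ) * v ∧
      t ≠ 0 ∧ u ≠ 0 := by
  obtain ⟨ϑ, hϑ⟩ := exists_constituent_incl hYH η
  have hchar : IsCharacter H ((χ : X → ℂ) ∘ H.subtype) :=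
    IsCharacter.restrict H (IsIrrCharacter.isCharacter χ.2)
  have h1 : classInner (fun n : Y => (χ : X → ℂ) n) (ϑ : Y → ℂ) ≠ 0 :=
    (constituent_trans (Subgroup.inclusion hYH) hchar ϑ).mpr ⟨η, hc, hϑ⟩
  have k1 := Cfsg.Agent.S0887.result Y (χ : X → ℂ) χ.2 (ϑ : Y → ℂ) ϑ.2 (by convert h1)
    (charDegree (χ : X → ℂ)) (charDegree (ϑ : Y → ℂ))
    (charDegree_cast (IsIrrCharacter.isCharacter χ.2)).symm
    (charDegree_cast (IsIrrCharacter.isCharacter ϑ.2)).symm
  obtain ⟨e, he⟩ : ∃ e : ↥(Y.subgroupOf H) ≃* ↥Y, e = Subgroup.subgroupOfEquivOfLe hYH :=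
    ⟨_, rfl⟩
  have h2 : classInner (fun n : ↥(Y.subgroupOf H) => (η : H → ℂ) n)
      ((irrMap e ϑ : IrrCharacter ↥(Y.subgroupOf H)) : ↥(Y.subgroupOf H) → ℂ) ≠ 0 := by
    rw [irrMap_coe]
    have e1 : (fun n : ↥(Y.subgroupOf H) => (η : H → ℂ) n) =
        ((η : H → ℂ) ∘ Subgroup.inclusion hYH) ∘ e := by
      ext n
      rw [he]
      rfl
    rw [e1, classInner_comp_equiv']
    exact hϑ
  have k2 := Cfsg.Agent.S0887.result (Y.subgroupOf H) (η : H → ℂ) η.2 _ (irrMap e ϑ).2
    (by convert h2)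
    (charDegree (η : H → ℂ)) (charDegree (ϑ : Y → ℂ))
    (charDegree_cast (IsIrrCharacter.isCharacter η.2)).symm
    (by
      rw [irrMap_apply, map_one]
      exact (charDegree_cast (IsIrrCharacter.isCharacter ϑ.2)).symm)
  obtain ⟨u, hu⟩ := k1.1
  obtain ⟨v, hv⟩ := k2.1
  have ht : charDegree (ϑ : Y → ℂ) ≠ 0 := (charDegree_pos ϑ.2).ne'
  have hu0 : u ≠ 0 := by
    rintro rfl
    rw [mul_zero] at hu
    exact (charDegree_pos χ.2).ne' hu
  refine ⟨charDegree (ϑ : Y → ℂ), u, v, ?_, ?_, ?_, ht, hu0⟩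
  · intro hpu
    apply hidx
    have := k1.2
    rw [hu, Nat.mul_div_cancel_left _ (Nat.pos_of_ne_zero ht)] at this
    exact hpu.trans this
  · rw [← charDegree_cast (IsIrrCharacter.isCharacter χ.2), hu]
    push_cast
    rfl
  · rw [← charDegree_cast (IsIrrCharacter.isCharacter η.2), hv]
    push_cast
    rfl

/-- the step through an intermediate subgroup, for a normal subgroup of index prime to `p` -/
theorem memLocalIdeal_centralChar_of_restrict (hM : IsPModular p M) {Y H : Subgroup X}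
    [Y.Normal] (hYH : Y ≤ H) (hidx : ¬ p ∣ Y.index) {χ : IrrCharacter X} (h : H)
    (hη : ∀ η : IrrCharacter H, classInner ((χ : X → ℂ) ∘ H.subtype) (η : H → ℂ) ≠ 0 →
      MemLocalIdeal M (centralChar (η : H → ℂ) h)) :
    MemLocalIdeal M (centralChar (χ : X → ℂ) (h : X)) := by
  have := IsPModular.isPrime hM
  obtain ⟨n, hn⟩ := IsCharacter.exists_eq_sum
    (IsCharacter.restrict H (IsIrrCharacter.isCharacter χ.2))
  have hn' : (χ : X → ℂ) ∘ H.subtype = ∑ ψ : IrrCharacter H, (n ψ : ℂ) • (ψ : H → ℂ) := hn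
  have hin : ∀ η : IrrCharacter H, classInner ((χ : X → ℂ) ∘ H.subtype) (η : H → ℂ) = n η := by
    intro η
    rw [hn']
    exact classInner_sum_irr_left _ η
  have hval : (χ : X → ℂ) (h : X) = ∑ ψ : IrrCharacter H, (n ψ : ℂ) * (ψ : H → ℂ) h := by
    have := congrFun hn' h
    rw [Finset.sum_apply] at this
    exact this
  obtain ⟨a, ha⟩ : ∃ a, a = (Subgroup.centralizer ({(h : X)} : Set X)).index := ⟨_, rfl⟩
  obtain ⟨b, hb⟩ : ∃ b, b = (Subgroup.centralizer ({h} : Set H)).index := ⟨_, rfl⟩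
  obtain ⟨r, hr⟩ : ∃ r, r = H.relIndex (Subgroup.centralizer ({(h : X)} : Set X)) := ⟨_, rfl⟩
  have hid : b * H.index = r * a := by
    rw [ha, hb, hr]
    exact index_centralizer_mul_index H h
  have hidC : (b : ℂ) * (H.index : ℂ) = (r : ℂ) * (a : ℂ) := by exact_mod_cast hid
  have hpr : ¬ p ∣ r := by
    intro hd
    apply hidx
    rw [hr] at hd
    exact (hd.trans (Subgroup.relIndex_dvd_of_le_left _ hYH)).trans
      (Subgroup.relIndex_dvd_index_of_normal Y _)
  have hr0 : (r : ℂ) ≠ 0 := by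
    intro h0
    apply hpr
    have : r = 0 := by exact_mod_cast h0
    rw [this]
    exact dvd_zero p
  rw [centralChar, ← ha, hval, Finset.mul_sum, Finset.sum_div]
  refine MemLocalIdeal.sum _ fun η _ => ?_
  by_cases h0 : n η = 0
  · rw [h0]
    simp only [Nat.cast_zero, zero_mul, mul_zero, zero_div]
    exact memLocalIdeal_zero
  · have hc : classInner ((χ : X → ℂ) ∘ H.subtype) (η : H → ℂ) ≠ 0 := by
      rw [hin]
      exact_mod_cast h0
    obtain ⟨t, u, v, hpu, h1, h2, ht, hu⟩ := exists_degree_factor hYH hidx hc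
    have hv : (v : ℂ) ≠ 0 := by
      intro hv0
      rw [hv0, mul_zero] at h2
      exact irr_one_ne_zero η.2 h2
    have htC : (t : ℂ) ≠ 0 := by exact_mod_cast ht
    have huC : (u : ℂ) ≠ 0 := by exact_mod_cast hu
    have key : (a : ℂ) * ((n η : ℂ) * (η : H → ℂ) h) / (χ : X → ℂ) 1 =
        ((n η : ℂ) * (H.index : ℂ) * (v : ℂ) * (r : ℂ)⁻¹ * (u : ℂ)⁻¹) *
          centralChar (η : H → ℂ) h := by
      rw [centralChar, ← hb, h1, h2]
      field_simp
      linear_combination (-(η : H → ℂ) h) * hidC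
    rw [key]
    refine MemLocalIdeal.mul_left ?_ (hη η hc)
    exact MemLocalRing.mul (MemLocalRing.mul (MemLocalRing.mul (MemLocalRing.mul
      (memLocalRing_natCast _) (memLocalRing_natCast _)) (memLocalRing_natCast _))
      (memLocalRing_inv_natCast hM hpr)) (memLocalRing_inv_natCast hM hpu)

omit [Fintype X] in
theorem mem_of_pRegular_of_index [Finite X] [Fact p.Prime] {Y : Subgroup X} [Y.Normal] {m : ℕ}
    (hm : Y.index = p ^ m) {x : X} (hx : ¬ p ∣ orderOf x) : x ∈ Y := by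
  have h2 : orderOf (QuotientGroup.mk x : X ⧸ Y) ∣ p ^ m := by
    rw [← hm]
    exact orderOf_dvd_natCard _
  have h3 : orderOf (QuotientGroup.mk x : X ⧸ Y) ∣ orderOf x :=
    orderOf_map_dvd (QuotientGroup.mk' Y) x
  have h4 : Nat.Coprime (p ^ m) (orderOf x) :=
    Nat.Coprime.pow_left m ((Nat.Prime.coprime_iff_not_dvd Fact.out).mpr hx)
  have h5 : orderOf (QuotientGroup.mk x : X ⧸ Y) = 1 := Nat.eq_one_of_dvd_coprimes h4 h2 h3
  exact (QuotientGroup.eq_one_iff _).mp (orderOf_eq_one_iff.mp h5)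

end steps

/-- the central characters of all characters over `ε` vanish outside `N Q` -/
theorem FData.reg_all {M : Ideal AlgInt} {p : ℕ} (hM : IsPModular p M) :
    ∀ (n : ℕ) (X : Type u) [Group X] [Fintype X] (N Q : Subgroup X) (ε : X → ℂ),
    Nat.card X = n → FData p M N Q ε → IsPSolvable p X →
    ∀ χ : IrrCharacter X, om (χ : X → ℂ) ε = 1 → ∀ x, x ∉ N ⊔ Q →
      MemLocalIdeal M (centralChar (χ : X → ℂ) x) := by
  have := IsPModular.isPrime hM
  have : Fact p.Prime := ⟨hM.1⟩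
  intro n
  induction n using Nat.strong_induction_on with
  | _ n ih =>
    intro X _ _ N Q ε hn d hsol
    have hnL := d.normalL
    have ihH : ∀ H : Subgroup X, N ⊔ Q ≤ H → H ≠ ⊤ → ∀ η : IrrCharacter H,
        om (η : H → ℂ) (resT H ε) = 1 → ∀ y : H, (y : X) ∉ N ⊔ Q →
        MemLocalIdeal M (centralChar (η : H → ℂ) y) := by
      intro H hH hne η hη y hy
      have hlt : Nat.card H < n := by
        rw [← hn]
        by_contra hcon
        push Not at hcon
        exact hne (Subgroup.eq_top_of_card_eq H (le_antisymm (Subgroup.card_le_card_group H) hcon))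
      refine ih _ hlt H (N.subgroupOf H) (Q.subgroupOf H) (resT H ε) rfl (d.restrict hH)
        (Cfsg.Agent.Lib.Helper29.psol_subgroup hsol H) η hη y ?_
      rw [← Subgroup.subgroupOf_sup (le_sup_left.trans hH) (le_sup_right.trans hH),
        Subgroup.mem_subgroupOf]
      exact hy
    by_cases hL : N ⊔ Q = ⊤
    · intro χ _ x hx
      exact absurd (hL ▸ Subgroup.mem_top x) hx
    obtain ⟨Y, hYn, hLY, hYne, hPP⟩ := exists_top_factor hsol hL
    have hNY : N ≤ Y := le_sup_left.trans hLY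
    have hY : ∀ χ : IrrCharacter X, om (χ : X → ℂ) ε = 1 → ∀ x ∈ Y, x ∉ N ⊔ Q →
        MemLocalIdeal M (centralChar (χ : X → ℂ) x) := by
      intro χ hχ x hxY hxL
      obtain ⟨ζ, hζ⟩ := Cfsg.Agent.Lib.Helper6.exists_constituent Y χ.2
      exact memLocalIdeal_centralChar_of_reg hζ
        (ihH Y hLY hYne ζ (d.om_res_eq_one hNY hχ hζ)) hxY hxL
    rcases hPP with ⟨m, hm⟩ | hcop
    · have hs : ∀ χ χ' : IrrCharacter X, om (χ : X → ℂ) ε = 1 → om (χ' : X → ℂ) ε = 1 →
          SameBlock M (χ : X → ℂ) (χ' : X → ℂ) := fun χ χ' h h' =>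
        d.sameBlock_of_reg hM
          (fun χ hχ x hxL hxp => hY χ hχ x (mem_of_pRegular_of_index hm hxp) hxL) h h'
      intro χ hχ x hx
      exact d.reg_of_sameBlock hM hs hχ hx
    · have hidx : ¬ p ∣ Y.index := by
        intro hd
        have h1 := Nat.Coprime.eq_one_of_dvd hcop.symm hd
        exact hM.1.one_lt.ne' h1
      intro χ hχ x hx
      by_cases hxY : x ∈ Y
      · exact hY χ hχ x hxY hx
      · by_cases hH : Y ⊔ Subgroup.zpowers x = ⊤
        · refine d.reg_of_cyclic hM hLY ?_ hH hx hχ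
          intro ζ ζ' h h'
          refine (d.restrict hLY).sameBlock_of_reg hM (fun ξ hξ y hy _ => ?_) h h'
          apply ihH Y hLY hYne ξ hξ y
          intro hc
          apply hy
          rw [← Subgroup.subgroupOf_sup hNY (le_sup_right.trans hLY), Subgroup.mem_subgroupOf]
          exact hc
        · have hxH : x ∈ Y ⊔ Subgroup.zpowers x :=
            (le_sup_right : Subgroup.zpowers x ≤ Y ⊔ Subgroup.zpowers x)
              (Subgroup.mem_zpowers x)
          exact memLocalIdeal_centralChar_of_restrict hM le_sup_left hidx ⟨x, hxH⟩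
            (fun η hc => ihH _ (hLY.trans le_sup_left) hH η
              (d.om_res_eq_one (hNY.trans le_sup_left) hχ hc) ⟨x, hxH⟩ hx)

section final

variable {X : Type u} [Group X] [Fintype X] {M : Ideal AlgInt} {p : ℕ}
  {N Q : Subgroup X} {ε : X → ℂ}

/-- **Fong.** The characters over `ε` form a block whose idempotent is `ε`. -/
theorem FData.isPBlock (hM : IsPModular p M) (d : FData p M N Q ε) (hsol : IsPSolvable p X) :
    IsPBlock M {χ : IrrCharacter X | om (χ : X → ℂ) ε = 1} ∧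
      coef (({χ : IrrCharacter X | om (χ : X → ℂ) ε = 1} : Set (IrrCharacter X)).indicator 1) =
        ε := by
  have := IsPModular.isPrime hM
  obtain ⟨χ₀, h0, -⟩ := d.exists_reg hM
  have hreg := FData.reg_all hM _ X N Q ε rfl d hsol
  constructor
  · refine ⟨χ₀, ?_⟩
    ext χ
    constructor
    · intro hχ
      exact d.sameBlock_of_reg hM (fun χ hχ x hx _ => hreg χ hχ x hx) h0 hχ
    · intro hχ
      exact d.om_eq_one_of_sameBlock hχ h0
  · conv_rhs => rw [eq_coef_om d.cls]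
    congr 1
    ext χ
    by_cases hχ : om (χ : X → ℂ) ε = 1
    · rw [Set.indicator_of_mem (show χ ∈ {χ : IrrCharacter X | om (χ : X → ℂ) ε = 1} from hχ), hχ]
      rfl
    · rw [Set.indicator_of_notMem (show χ ∉ {χ : IrrCharacter X | om (χ : X → ℂ) ε = 1} from hχ)]
      rcases d.om_zero_or_one χ with h | h
      · exact h.symm
      · exact absurd h hχ

end final

section concrete

variable {G : Type u} [Group G] [Fintype G] {M : Ideal AlgInt} {p : ℕ}

theorem isPBlock_singleton_of_not_dvd (hM : IsPModular p M) {N : Type*} [Group N] [Finite N]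
    (hcop : ¬ p ∣ Nat.card N) (θ : IrrCharacter N) : IsPBlock M ({θ} : Set (IrrCharacter N)) := by
  have : Fact p.Prime := ⟨hM.1⟩
  refine ⟨θ, ((Cfsg.Agent.S0914.result p M hM θ).mp ?_).symm⟩
  intro h
  exact hcop (h.trans (Nat.div_dvd_of_dvd (degree_dvd_card θ.2)))

theorem fData_of_invariant (hM : IsPModular p M) {N Q : Subgroup G} [hN : N.Normal]
    (hcop : ¬ p ∣ Nat.card N) (hQ : IsPGroup p Q) (hL : (N ⊔ Q).Normal)
    (hcent : Subgroup.centralizer (Q : Set G) ≤ N ⊔ Q) (θ : IrrCharacter N)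
    (hst : ∀ x : G, StabilizesBlock N {θ} x) :
    FData p M N Q (subgroupBlockCoeff N {θ}) := by
  have := IsPModular.isPrime hM
  have hb := isPBlock_singleton_of_not_dvd hM hcop θ
  refine ⟨hN, hQ, hL, hcent, isClassFunction_sbc_of_stable hst, fun x hx => sbc_not_mem _ _ hx,
    sbc_idem N _, sbc_memLocalRing N hb, ?_, ?_⟩
  · intro hmem
    have e1 : subgroupBlockCoeff N {θ} 1 =
        (Nat.card N : ℂ)⁻¹ * ((charDegree (θ : N → ℂ) * charDegree (θ : N → ℂ) : ℕ) : ℂ) := by
      have : subgroupBlockCoeff N {θ} ((1 : N) : G) = blockCoeff {θ} (1 : N) := sbc_coe N _ 1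
      rw [Subgroup.coe_one] at this
      rw [this, blockCoeff_eq_coef, coef_apply, Finset.sum_eq_single θ]
      · rw [Set.indicator_of_mem (Set.mem_singleton θ), Pi.one_apply, one_mul,
          ← charDegree_cast (IsIrrCharacter.isCharacter θ.2)]
        simp
      · intro ψ _ hψ
        rw [Set.indicator_of_notMem (fun h => hψ (Set.mem_singleton_iff.mp h)), zero_mul]
      · intro h
        exact absurd (Finset.mem_univ θ) h
    rw [e1] at hmem
    have h2 := MemLocalIdeal.mul_left (memLocalRing_natCast (M := M) (Nat.card N)) hmem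
    rw [← mul_assoc, mul_inv_cancel₀ (by exact_mod_cast (Nat.card_pos (α := N)).ne'), one_mul,
      memLocalIdeal_natCast_iff hM] at h2
    have h3 : p ∣ charDegree (θ : N → ℂ) := by
      rcases (Nat.Prime.dvd_mul hM.1).mp h2 with h | h <;> exact h
    exact hcop (h3.trans (degree_dvd_card θ.2))
  · intro f hf1 hf2
    obtain ⟨f', hf'⟩ : ∃ f' : N → ℂ, f' = fun n : N => f n := ⟨_, rfl⟩
    have hfe : f = extendByZero N f' := by
      rw [hf']
      exact eq_ext_of_supp hf1
    have hcl : IsClassFunction N f' := by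
      intro n k
      rw [hf']
      exact hf2 k k.2 n
    refine ⟨om (θ : N → ℂ) f', ?_⟩
    rw [sbc_eq_ext, hfe, ← ext_conv]
    conv_lhs => rw [eq_coef_om hcl, ← coef_mul]
    have e2 : (({θ} : Set (IrrCharacter N)).indicator 1 *
        fun χ : IrrCharacter N => om (χ : N → ℂ) f') =
        om (θ : N → ℂ) f' • ({θ} : Set (IrrCharacter N)).indicator 1 := by
      ext χ
      rw [Pi.mul_apply, Pi.smul_apply, smul_eq_mul]
      by_cases hχ : χ = θ
      · rw [hχ, mul_comm]
      · rw [Set.indicator_of_notMem (fun h => hχ (Set.mem_singleton_iff.mp h)), zero_mul, mul_zero]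
    rw [e2, coef_smul]
    ext g
    by_cases hg : g ∈ N
    · rw [extendByZero_mem _ _ hg, Pi.smul_apply, Pi.smul_apply, extendByZero_mem _ _ hg]
    · rw [extendByZero_not_mem _ _ hg, Pi.smul_apply, extendByZero_not_mem _ _ hg, smul_zero]

/-- **Fong's theorem** for an invariant character of `O_{p'}(G)`, `G` `p`-solvable. -/
theorem fong_pSolvable (hM : IsPModular p M) (hsol : IsPSolvable p G) {N : Subgroup G}
    [hN : N.Normal] (hNdef : N = pPrimeCore p G) (θ : IrrCharacter N)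
    (hst : ∀ x : G, StabilizesBlock N {θ} x) :
    ∃ B : Set (IrrCharacter G), IsPBlock M B ∧
      (∀ χ : IrrCharacter G, χ ∈ B ↔ classInner ((χ : G → ℂ) ∘ N.subtype) (θ : N → ℂ) ≠ 0) ∧
      (∀ P : Sylow p G, IsDefectGroup p M B (P : Subgroup G)) ∧
      ∀ D : Subgroup G, IsDefectGroup p M B D → ∃ P : Sylow p G, D = (P : Subgroup G) := by
  have := IsPModular.isPrime hM
  have : Fact p.Prime := ⟨hM.1⟩
  have hp : p.Prime := hM.1
  have hcop : ¬ p ∣ Nat.card N := by
    intro hd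
    have h1 := Cfsg.Agent.Lib.Helper8.coprime_card_pPrimeCore (G := G) p
    rw [← hNdef] at h1
    exact hp.one_lt.ne' (Nat.Coprime.eq_one_of_dvd h1.symm hd)
  obtain ⟨P₀⟩ : Nonempty (Sylow p ↥(pPrimePCore p G)) := inferInstance
  obtain ⟨Q, hQdef⟩ : ∃ Q : Subgroup G,
      Q = (P₀ : Subgroup ↥(pPrimePCore p G)).map (pPrimePCore p G).subtype := ⟨_, rfl⟩
  have hQ : IsPGroup p Q := by
    rw [hQdef]
    exact P₀.isPGroup'.map _
  have hNL : N ≤ pPrimePCore p G := by
    rw [hNdef]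
    exact Cfsg.Agent.Lib.Helper9.pPrimeCore_le_pPrimePCore p
  have hsup : N ⊔ Q = pPrimePCore p G := by
    rw [sup_comm, hQdef]
    apply Cfsg.Agent.Lib.Helper9.sylow_map_sup_eq p _ N hNL
    intro q
    obtain ⟨x, rfl⟩ := QuotientGroup.mk_surjective q
    obtain ⟨k, hk⟩ := Cfsg.Agent.Lib.Helper9.exists_pow_mem_of_mem_pPrimePCore p x.2
    refine ⟨k, ?_⟩
    rw [← QuotientGroup.mk_pow]
    apply (QuotientGroup.eq_one_iff _).mpr
    rw [Subgroup.mem_subgroupOf, Subgroup.coe_pow, hNdef]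
    exact hk
  have hL : (N ⊔ Q).Normal := by
    rw [hsup]
    exact Cfsg.Agent.Lib.Helper9.pPrimePCore_normal p
  have hcent : Subgroup.centralizer (Q : Set G) ≤ N ⊔ Q := by
    rw [hsup, hQdef]
    exact Cfsg.Agent.S0629.result P₀ (Cfsg.Agent.Lib.Helper29.psol_subgroup hsol _) P₀
  have d := fData_of_invariant hM hcop hQ hL hcent θ hst
  obtain ⟨hB, hcoef⟩ := d.isPBlock hM hsol
  obtain ⟨B, hBdef⟩ : ∃ B : Set (IrrCharacter G),
      B = {χ : IrrCharacter G | om (χ : G → ℂ) (subgroupBlockCoeff N {θ}) = 1} := ⟨_, rfl⟩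
  rw [← hBdef] at hB hcoef
  have hdef : ∀ P : Sylow p G, IsDefectGroup p M B (P : Subgroup G) := by
    intro P
    refine isDefectGroup_iff.mpr ⟨1, isDefectClass_iff.mpr ⟨?_, ?_, ?_⟩, ?_⟩
    · rw [hcoef]
      exact d.loc 1
    · rw [hcoef]
      exact d.unit1
    · intro χ _
      rw [centralChar_one (irr_one_ne_zero χ.2)]
      exact not_memLocalIdeal_one
    · have htop : cen (1 : G) = ⊤ := by
        rw [cen, Subgroup.centralizer_eq_top_iff_subset]
        intro x hx
        rw [Set.mem_singleton_iff.mp hx]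
        exact (Subgroup.center G).one_mem
      rw [isSylIn_iff, htop, Subgroup.card_top]
      exact ⟨le_top, P.card_eq_multiplicity⟩
  refine ⟨B, hB, ?_, hdef, ?_⟩
  · intro χ
    rw [hBdef, Set.mem_ofPred_eq]
    constructor
    · intro h
      obtain ⟨θ', hθ'⟩ := Cfsg.Agent.Lib.Helper6.exists_constituent N χ.2
      rw [om_sbc_of_over hst hθ'] at h
      by_cases hc : θ' ∈ ({θ} : Set (IrrCharacter N))
      · rw [Set.mem_singleton_iff.mp hc] at hθ'
        exact hθ'
      · rw [Set.indicator_of_notMem hc] at h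
        exact absurd h zero_ne_one
    · intro h
      rw [om_sbc_of_over hst h, Set.indicator_of_mem (Set.mem_singleton θ)]
      rfl
  · intro D hD
    obtain ⟨P⟩ : Nonempty (Sylow p G) := inferInstance
    obtain ⟨x, hx⟩ := isDefectGroup_exists_conj hM hB (hdef P) hD
    have hcard : Nat.card D = p ^ (Nat.card G).factorization p := by
      rw [hx, card_cj]
      exact P.card_eq_multiplicity
    exact ⟨Sylow.ofCard D hcard, rfl⟩

end concrete

end Cfsg.Agent.Lib.Helper24
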