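import Cfsg.Agent.Lib.Helper24.SylowAxiom
import Cfsg.Agent.Lib.Helper24.BrauerCorr
import Cfsg.Agent.Lib.Helper24.Constituent

/-!
# Blocks of subgroups between `P C_G(P)` and `N_G(P)` and Brauer pairs at `P`
-/

set_option autoImplicit false

namespace Cfsg.Agent.Lib.Helper24

open Cfsg Cfsg.Agent.Lib.Helper2 Cfsg.Agent.Lib.Helper6
open scoped ComplexConjugate Classical

attribute [local instance] irrFintype

section

variable {G : Type*} [Group G] [Fintype G] {M : Ideal AlgInt} {p : ℕ}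

theorem exists_constituent_incl {C H : Subgroup G} (hCH : C ≤ H) (ξ : IrrCharacter H) :
    ∃ ζ : IrrCharacter C,
      classInner ((ξ : H → ℂ) ∘ Subgroup.inclusion hCH) (ζ : C → ℂ) ≠ 0 := by
  apply Cfsg.Agent.Lib.Helper24.exists_constituent
    (IsCharacter.comp_hom (Subgroup.inclusion hCH) (IsIrrCharacter.isCharacter ξ.2))
  rw [map_one]
  exact irr_one_ne_zero ξ.2

/-- If the block `b` of `H`, `P C_G(P) ≤ H ≤ N_G(P)`, induces `B`, then the blocks of `C_G(P)`
below `b` give Brauer pairs of `B`. -/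
theorem isBrauerPairOf_of_induced (hM : IsPModular p M) {P H : Subgroup G} (hP : IsPGroup p P)
    (hPH : P ≤ H) (hCH : cz P ≤ H) (hHN : H ≤ nor P) {b : Set (IrrCharacter H)}
    {B : Set (IrrCharacter G)} (hind : IsInducedBlock M H b B) {ξ : IrrCharacter H} (hξ : ξ ∈ b)
    {ζ : IrrCharacter (cz P)}
    (hc : classInner ((ξ : H → ℂ) ∘ Subgroup.inclusion hCH) (ζ : cz P → ℂ) ≠ 0) :
    IsBrauerPairOf p M B P (blockOf M (ζ : cz P → ℂ)) := by
  have := IsPModular.isPrime hM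
  have hB := hind.2.1
  obtain ⟨χ, hχ⟩ := IsPBlock.nonempty hB
  have h1 := om_brMap_sub_om hM hP hPH hHN hind hξ hχ
    (isClassFunction_coef (B.indicator 1)) (IsPBlock.indicator_mem_ZS hB)
  rw [om_brMap_eq_brauerOmega hCH hHN
    (fun n _ g => isClassFunction_coef _ g n) ξ.2 ζ hc, om_coef, ← blockCoeff_fun,
    Set.indicator_of_mem hχ] at h1
  exact ⟨⟨hP, ⟨ζ, rfl⟩⟩, hB, occ_blockOf (dom_blockCoeff P hB) h1⟩

theorem isInducedBlock_iff_pair (hM : IsPModular p M) {P H : Subgroup G} (hP : IsPGroup p P)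
    (hPH : P ≤ H) (hCH : cz P ≤ H) (hHN : H ≤ nor P) {b : Set (IrrCharacter H)}
    (hb : IsPBlock M b) {B : Set (IrrCharacter G)} {ξ : IrrCharacter H} (hξ : ξ ∈ b)
    {ζ : IrrCharacter (cz P)}
    (hc : classInner ((ξ : H → ℂ) ∘ Subgroup.inclusion hCH) (ζ : cz P → ℂ) ≠ 0) :
    IsInducedBlock M H b B ↔ IsBrauerPairOf p M B P (blockOf M (ζ : cz P → ℂ)) := by
  constructor
  · intro hind
    exact isBrauerPairOf_of_induced hM hP hPH hCH hHN hind hξ hc
  · intro h
    obtain ⟨B', hind⟩ := inducedBlockDefined_of_le hM hP hPH hCH hHN hb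
    have h' := isBrauerPairOf_of_induced hM hP hPH hCH hHN hind hξ hc
    rw [(existsUnique_block_of_pair hM h.1).unique h h']
    exact hind

/-- The idempotent of a block of `P C_G(P)` is the idempotent of a block of `C_G(P)`. -/
theorem sbc_eq_of_constituent (hM : IsPModular p M) {P H : Subgroup G} (hP : IsPGroup p P)
    (hH : H = P ⊔ cz P) {b : Set (IrrCharacter H)} (hb : IsPBlock M b) {ξ : IrrCharacter H}
    (hξ : ξ ∈ b) {ζ : IrrCharacter (cz P)} (hCH : cz P ≤ H)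
    (hc : classInner ((ξ : H → ℂ) ∘ Subgroup.inclusion hCH) (ζ : cz P → ℂ) ≠ 0) :
    subgroupBlockCoeff H b = subgroupBlockCoeff (cz P) (blockOf M (ζ : cz P → ℂ)) := by
  have := IsPModular.isPrime hM
  have : Fact p.Prime := ⟨hM.1⟩
  have hPC : P ≤ Subgroup.normalizer ((cz P : Subgroup G) : Set G) := fun x hx =>
    (isConjSub_of_mem_normalizer (Subgroup.le_normalizer hx)).centralizer.mem_normalizer
  have hLN : H ≤ Subgroup.normalizer ((cz P : Subgroup G) : Set G) :=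
    hH ▸ sup_le hPC Subgroup.le_normalizer
  have hst : H ≤ stabSub (cz P) (blockOf M (ζ : cz P → ℂ)) :=
    hH ▸ sup_le (le_stabSub_cz _ _) (le_stabSub _ _)
  obtain ⟨k, hk⟩ : ∃ k, (cz P).relIndex H = p ^ k := by
    rw [hH, relIndex_sup_of_le_normalizer hPC]
    obtain ⟨j, hj⟩ := IsPGroup.iff_card.mp hP
    obtain ⟨i, -, hi⟩ := (Nat.dvd_prime_pow hM.1).mp (hj ▸ Subgroup.relIndex_dvd_card (cz P) P)
    exact ⟨i, hi⟩
  obtain ⟨F, hF, hFe⟩ := exists_block_of_stable_relIndex hM hCH hLN hk ⟨ζ, rfl⟩ hst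
  have h1 : om (ξ : H → ℂ) (coef (F.indicator 1)) =
      om (ζ : cz P → ℂ) (coef ((blockOf M (ζ : cz P → ℂ)).indicator 1)) := by
    rw [om_eq_of_constituent (Subgroup.inclusion hCH) (Subgroup.inclusion_injective hCH) ξ.2 ζ hc
      (isClassFunction_coef _)]
    · congr 1
      ext n
      rw [Function.comp_apply, ← blockCoeff_eq_coef, ← blockCoeff_eq_coef, ← sbc_coe, hFe]
      exact sbc_coe (cz P) _ n
    · intro t ht
      rw [← blockCoeff_eq_coef, ← sbc_coe, hFe, sbc_not_mem]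
      intro htc
      exact ht ⟨⟨t, htc⟩, rfl⟩
  rw [om_coef, om_coef, Set.indicator_of_mem (mem_blockOf_self ζ)] at h1
  have h2 : ξ ∈ F := by
    by_contra hcon
    rw [Set.indicator_of_notMem hcon] at h1
    exact zero_ne_one h1
  rw [IsPBlock.eq_of_mem_of_mem hb hF hξ h2, hFe]

theorem stabilizesBlock_iff_forall {K : Subgroup G} (e : Set (IrrCharacter K)) {g : G}
    (hg : g ∈ Subgroup.normalizer (K : Set G)) :
    StabilizesBlock K e g ↔ ∀ θ ∈ e, ∀ θ' : IrrCharacter K,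
      (∀ h h' : K, (h' : G) = g * h * g⁻¹ → (θ' : K → ℂ) h' = (θ : K → ℂ) h) → θ' ∈ e := by
  have hc := isConjSub_of_mem_normalizer hg
  constructor
  · intro hs θ hθ θ' hconj
    obtain ⟨χ', hχ', hcc⟩ := hs.2 θ hθ
    have h1 : (θ' : K → ℂ) = (θ : K → ℂ) ∘ conjIso hc := (isConjCharOf_iff hc _ _).mp hconj
    have h2 : (χ' : K → ℂ) = (θ : K → ℂ) ∘ conjIso hc := (isConjCharOf_iff hc _ _).mp hcc
    have h3 : θ' = χ' := Subtype.ext (h1.trans h2.symm)
    rw [h3]
    exact hχ'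
  · intro h
    refine ⟨hg, fun χ hχ => ⟨irrMap (conjIso hc) χ, h χ hχ _ ?_, ?_⟩⟩
    · exact (isConjCharOf_iff hc _ _).mpr rfl
    · exact (isConjCharOf_iff hc _ _).mpr rfl

theorem not_dvd_relIndex_of_sylow_le [Fact p.Prime] {H T S : Subgroup G} (hHT : H ≤ T)
    (hS : IsSylIn p T S) (hSH : S ≤ H) : ¬ p ∣ H.relIndex T := by
  intro hdvd
  have h1 := card_inf_mul_relIndex H T
  rw [inf_eq_right.mpr hHT, mul_comm] at h1
  have h2 := hS.card
  have h3 : Nat.card S ∣ Nat.card H := Subgroup.card_dvd_of_le hSH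
  rw [h2] at h3
  have h4 : p ^ ((Nat.card T).factorization p + 1) ∣ Nat.card T := by
    rw [pow_succ, mul_comm]
    have h5 := mul_dvd_mul hdvd h3
    rwa [h1] at h5
  exact Nat.pow_succ_factorization_not_dvd Nat.card_pos.ne' Fact.out h4

/-- Let `b` be a block of `H = P C_G(P)` with defect group `P`, inducing `B`, and `T` the
stabilizer of `b` in `N_G(P)`.  Then `P` is a defect group of `B` iff `p ∤ |T : H|`. -/
theorem isDefectGroup_iff_not_dvd_relIndex (hM : IsPModular p M) {P H : Subgroup G}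
    (hP : IsPGroup p P) (hH : H = P ⊔ cz P) {b : Set (IrrCharacter H)} (hb : IsPBlock M b)
    (hbP : IsDefectGroup p M b (P.subgroupOf H)) {B : Set (IrrCharacter G)}
    (hind : IsInducedBlock M H b B) {T : Subgroup G}
    (hT : ∀ g : G, g ∈ T ↔ (g ∈ nor P ∧ StabilizesBlock H b g)) :
    IsDefectGroup p M B P ↔ ¬ p ∣ H.relIndex T := by
  have := IsPModular.isPrime hM
  have : Fact p.Prime := ⟨hM.1⟩
  have hPH : P ≤ H := hH ▸ le_sup_left
  have hCH : cz P ≤ H := hH ▸ le_sup_right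
  have hHN : H ≤ nor P := hH ▸ sup_le (le_nor P) (centralizer_le_nor P)
  obtain ⟨ξ, hξ⟩ := IsPBlock.nonempty hb
  obtain ⟨ζ, hζ⟩ := exists_constituent_incl hCH ξ
  obtain ⟨e, he⟩ : ∃ e, e = blockOf M (ζ : cz P → ℂ) := ⟨_, rfl⟩
  have hpair : IsBrauerPairOf p M B P e :=
    he ▸ isBrauerPairOf_of_induced hM hP hPH hCH hHN hind hξ hζ
  have hsbc : subgroupBlockCoeff H b = subgroupBlockCoeff (cz P) e :=
    he ▸ sbc_eq_of_constituent hM hP hH hb hξ hCH hζ
  have hNH : nor P ≤ Subgroup.normalizer (H : Set G) := by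
    intro g hg
    have h1 := isConjSub_of_mem_normalizer hg
    have h2 := h1.centralizer
    have e3 : H.map (MulAut.conj g).toMonoidHom = H := by
      rw [hH, Subgroup.map_sup, ← h1.eq_map, ← h2.eq_map]
    have h3 := isConjSub_map g H
    rw [e3] at h3
    exact h3.mem_normalizer
  have hT' : ∀ g : G, g ∈ T ↔ (g ∈ nor P ∧ g ∈ stabSub (cz P) e) := by
    intro g
    rw [hT, mem_stabSub, stabilizesBlock_iff, stabilizesBlock_iff, hsbc]
    constructor
    · rintro ⟨h1, -, h3⟩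
      exact ⟨h1, (isConjSub_of_mem_normalizer h1).centralizer.mem_normalizer, h3⟩
    · rintro ⟨h1, -, h3⟩
      exact ⟨h1, hNH h1, h3⟩
  have hHT : H ≤ T := by
    intro g hg
    rw [hT']
    refine ⟨hHN hg, ?_⟩
    have : H ≤ stabSub (cz P) e := hH ▸ sup_le (le_stabSub_cz _ _) (le_stabSub _ _)
    exact this hg
  constructor
  · intro hD
    have hmax := isMaximalBrauerPair_of_isDefectGroup hM hpair hD
    obtain ⟨S, hS⟩ := exists_isSylIn p T
    apply not_dvd_relIndex_of_sylow_le hHT hS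
    rw [hH]
    exact pSubgroup_stab_le hM hmax hS.isPGroup (fun x hx => ((hT' x).mp (hS.le hx)).1)
      (fun x hx => ((hT' x).mp (hS.le hx)).2)
  · intro hnd
    apply isDefectGroup_of_maximal hM (e := e)
    refine ⟨hpair, fun R g _ hle => ?_⟩
    by_contra hne
    obtain ⟨⟨R₁, g₁⟩, hab, hlt, -⟩ := PLE.exists_proper_step (a := ⟨P, e⟩) (b := ⟨R, g⟩) hle
      (fun h => hne h.symm)
    have hab' : IsNormalSubpair p M P e R₁ g₁ := hab
    have hlt' : P < R₁ := hlt
    have hR₁T : R₁ ≤ T := fun x hx => (hT' x).mpr ⟨hab'.2.2.2.1 hx, hab'.2.2.2.2.1 x hx⟩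
    have hR₁H : R₁ ≤ H := by
      have hRN : R₁ ≤ Subgroup.normalizer (H : Set G) := fun x hx => hNH (hab'.2.2.2.1 hx)
      have h1 := relIndex_sup_of_le_normalizer hRN
      have h2 := Subgroup.relIndex_mul_relIndex H (R₁ ⊔ H) T le_sup_right (sup_le hR₁T hHT)
      rw [h1] at h2
      obtain ⟨j, hj⟩ := IsPGroup.iff_card.mp hab'.2.1.1
      obtain ⟨i, -, hi⟩ := (Nat.dvd_prime_pow hM.1).mp (hj ▸ Subgroup.relIndex_dvd_card H R₁)
      rcases Nat.eq_zero_or_pos i with rfl | hpos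
      · rw [pow_zero] at hi
        exact Subgroup.relIndex_eq_one.mp hi
      · exfalso
        apply hnd
        rw [← h2, hi]
        exact Dvd.dvd.mul_right (dvd_pow_self p hpos.ne') _
    obtain ⟨u, hu, hunit⟩ := exists_unit_of_normalSubpair hM hab'
    rw [← hsbc] at hunit
    obtain ⟨D, hD, hRD⟩ := exists_defectGroup_ge_of_unit hM hb hunit hab'.2.1.1 hu
    have h1 : Nat.card D = Nat.card (P.subgroupOf H) := by
      rw [IsDefectGroup.card_eq hM hb hD, IsDefectGroup.card_eq hM hb hbP]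
    have h2 : Nat.card (R₁.subgroupOf H) ≤ Nat.card D := Subgroup.card_le_of_le hRD
    rw [h1, (isCopy_subgroupOf hR₁H).card_eq, (isCopy_subgroupOf hPH).card_eq] at h2
    exact absurd (card_lt_of_lt' hlt') (not_lt.mpr h2)

end

end Cfsg.Agent.Lib.Helper24
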