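import Cfsg.Agent.Lib.Helper24.Fong
import Cfsg.Agent.Lib.Helper24.PCBlock
import Cfsg.Agent.Lib.Helper6.IndBase
import Cfsg.Agent.Lib.Helper13.CharTools

/-!
# The Fong–Reynolds correspondence: abstract part

`ε` is an idempotent of the group algebra, supported on `T`, fixed by `T`, and orthogonal to its
conjugates under elements outside `T`.
-/

set_option autoImplicit false

namespace Cfsg.Agent.Lib.Helper24

open Cfsg Cfsg.Agent.Lib.Helper2 Cfsg.Agent.Lib.Helper6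
open scoped ComplexConjugate Classical

attribute [local instance] irrFintype

section abstract

variable {G : Type*} [Group G] [Fintype G]

theorem cjF_conv (x : G) (a b : G → ℂ) : cjF x (conv a b) = conv (cjF x a) (cjF x b) := by
  ext g
  rw [cjF_apply, conv_apply, conv_apply]
  refine Fintype.sum_equiv (MulAut.conj x).toEquiv _ _ fun u => ?_
  simp only [MulEquiv.toEquiv_eq_coe, EquivLike.coe_coe, MulAut.conj_apply, cjF_apply]
  congr 2 <;> group

theorem sum_conv' {ι : Type*} (s : Finset ι) (a : ι → G → ℂ) (b : G → ℂ) :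
    conv (∑ i ∈ s, a i) b = ∑ i ∈ s, conv (a i) b := by
  ext g
  simp only [conv_apply, Finset.sum_apply, Finset.sum_mul]
  rw [Finset.sum_comm]

theorem conv_sum' {ι : Type*} (s : Finset ι) (a : G → ℂ) (b : ι → G → ℂ) :
    conv a (∑ i ∈ s, b i) = ∑ i ∈ s, conv a (b i) := by
  ext g
  simp only [conv_apply, Finset.sum_apply, Finset.mul_sum]
  rw [Finset.sum_comm]

structure StabIdem (T : Subgroup G) (ε : G → ℂ) : Prop where
  idem : conv ε ε = ε
  inv : ∀ t ∈ T, cjF t ε = ε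
  orth : ∀ x, x ∉ T → conv ε (cjF x ε) = 0
  supp : ∀ g, g ∉ T → ε g = 0

/-- the `ε`-part of a class function -/
noncomputable def tw (ε χ : G → ℂ) : G → ℂ := fun y => ∑ n, ε n * χ (n * y)

theorem tw_apply (ε χ : G → ℂ) (y : G) : tw ε χ y = ∑ n, ε n * χ (n * y) := rfl

theorem pair_conv_comm {χ : G → ℂ} (hχ : IsClassFunction G χ) (a b : G → ℂ) (y : G) :
    tw (conv a b) χ y = tw (conv b (cjF y a)) χ y := by
  rw [tw_apply, tw_apply, sum_conv_mul a b (fun g => χ (g * y)),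
    sum_conv_mul b (cjF y a) (fun g => χ (g * y)), Finset.sum_comm]
  refine Finset.sum_congr rfl fun k _ => ?_
  refine Fintype.sum_equiv (MulAut.conj y).toEquiv _ _ fun m => ?_
  simp only [MulEquiv.toEquiv_eq_coe, EquivLike.coe_coe, MulAut.conj_apply, cjF_apply]
  have h1 : y⁻¹ * (y * m * y⁻¹) * y = m := by group
  have h2 : χ (k * (y * m * y⁻¹) * y) = χ (m * k * y) := by
    have := hχ (k * y * m) m
    have e1 : m * (k * y * m) * m⁻¹ = m * k * y := by group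
    have e2 : k * (y * m * y⁻¹) * y = k * y * m := by group
    rw [e2, ← this, e1]
  rw [h1, h2]
  ring

variable {T : Subgroup G} {ε : G → ℂ}

theorem tw_eq_zero (h : StabIdem T ε) {χ : G → ℂ} (hχ : IsClassFunction G χ) {y : G}
    (hy : y ∉ T) : tw ε χ y = 0 := by
  have h1 := pair_conv_comm hχ ε ε y
  rw [h.idem, h.orth y hy] at h1
  rw [h1, tw_apply]
  simp

/-- the sum of all conjugates of `ε` -/
noncomputable def orbSum (ε : G → ℂ) : G → ℂ := ∑ x : G, cjF x ε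

theorem orbSum_apply (ε : G → ℂ) (m : G) : orbSum ε m = ∑ x : G, ε (x⁻¹ * m * x) := by
  rw [orbSum, Finset.sum_apply]
  rfl

theorem isClassFunction_orbSum (ε : G → ℂ) : IsClassFunction G (orbSum ε) := by
  intro g h
  rw [orbSum_apply, orbSum_apply]
  refine Fintype.sum_equiv (Equiv.mulLeft h⁻¹) _ _ fun x => ?_
  simp only [Equiv.coe_mulLeft]
  congr 1
  group

theorem sum_tw_conj {χ : G → ℂ} (hχ : IsIrrCharacter G χ) (ε : G → ℂ) (g : G) :
    ∑ x : G, tw ε χ (x⁻¹ * g * x) = om χ (orbSum ε) * χ g := by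
  rw [← sum_class_mul_irr hχ (isClassFunction_orbSum ε)]
  simp only [tw_apply, orbSum_apply, Finset.sum_mul]
  rw [Finset.sum_comm]
  conv_rhs => rw [Finset.sum_comm]
  rw [Finset.sum_comm]
  refine Finset.sum_congr rfl fun x _ => ?_
  refine Fintype.sum_equiv (MulAut.conj x).toEquiv _ _ fun n => ?_
  simp only [MulEquiv.toEquiv_eq_coe, EquivLike.coe_coe, MulAut.conj_apply]
  have h1 : x⁻¹ * (x * n * x⁻¹) * x = n := by group
  have h2 : χ (x * n * x⁻¹ * g) = χ (n * (x⁻¹ * g * x)) := by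
    have := irr_isClassFunction hχ (n * (x⁻¹ * g * x)) x
    rw [← this]
    congr 1
    group
  rw [h1, h2]

theorem conv_orbSum (h : StabIdem T ε) :
    conv (orbSum ε) (orbSum ε) = (Nat.card T : ℂ) • orbSum ε := by
  have key : ∀ x y : G, conv (cjF x ε) (cjF y ε) = if x⁻¹ * y ∈ T then cjF x ε else 0 := by
    intro x y
    have e1 : cjF y ε = cjF x (cjF (x⁻¹ * y) ε) := by
      rw [← cjF_mul]
      congr 1
      group
    rw [e1, ← cjF_conv]
    by_cases hxy : x⁻¹ * y ∈ T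
    · rw [if_pos hxy, h.inv _ hxy, h.idem]
    · rw [if_neg hxy, h.orth _ hxy]
      rfl
  rw [orbSum, sum_conv', Finset.smul_sum]
  refine Finset.sum_congr rfl fun x _ => ?_
  rw [conv_sum']
  simp only [key]
  rw [← Finset.sum_filter, Finset.sum_const]
  have hc : (Finset.univ.filter fun y : G => x⁻¹ * y ∈ T).card = Nat.card T := by
    rw [Nat.card_eq_fintype_card, ← Fintype.card_subtype]
    exact Fintype.card_congr
      { toFun := fun y => ⟨x⁻¹ * y.1, y.2⟩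
        invFun := fun t => ⟨x * t.1, by simp⟩
        left_inv := fun y => by simp
        right_inv := fun t => by simp }
  rw [hc, ← Nat.cast_smul_eq_nsmul ℂ]

/-- restriction to `T` -/
def resT (T : Subgroup G) (f : G → ℂ) : T → ℂ := fun t => f t

omit [Fintype G] in
theorem resT_apply (T : Subgroup G) (f : G → ℂ) (t : T) : resT T f t = f t := rfl

theorem StabIdem.isClassFunction_res (h : StabIdem T ε) : IsClassFunction T (resT T ε) :=
  fun t k => (cjF_eq_iff (k : G) ε).mp (h.inv k k.2) t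

theorem StabIdem.eq_ext (h : StabIdem T ε) : ε = extendByZero T (resT T ε) :=
  eq_ext_of_supp h.supp

theorem StabIdem.conv_res (h : StabIdem T ε) : conv (resT T ε) (resT T ε) = resT T ε := by
  apply ext_injective T
  rw [ext_conv, ← h.eq_ext, h.idem]

theorem StabIdem.om_res (h : StabIdem T ε) (ψ : IrrCharacter T) :
    om (ψ : T → ℂ) (resT T ε) = 0 ∨ om (ψ : T → ℂ) (resT T ε) = 1 := by
  have h1 := om_conv ψ.2 h.isClassFunction_res h.isClassFunction_res
  rw [h.conv_res] at h1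
  have h2 : om (ψ : T → ℂ) (resT T ε) * (om (ψ : T → ℂ) (resT T ε) - 1) = 0 := by
    rw [mul_sub, ← h1]
    ring
  rcases mul_eq_zero.mp h2 with h3 | h3
  · exact Or.inl h3
  · exact Or.inr (sub_eq_zero.mp h3)

theorem tw_coe (h : StabIdem T ε) (χ : G → ℂ) (t : T) :
    tw ε χ t = ∑ n : T, resT T ε n * χ ((n : G) * t) := by
  rw [tw_apply]
  conv_lhs => rw [h.eq_ext]
  exact sum_extendByZero_mul T (resT T ε) (fun n => χ (n * t))

theorem tw_irr (h : StabIdem T ε) (ψ : IrrCharacter T) (t : T) :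
    ∑ n : T, resT T ε n * (ψ : T → ℂ) (n * t) = om (ψ : T → ℂ) (resT T ε) * (ψ : T → ℂ) t :=
  sum_class_mul_irr ψ.2 h.isClassFunction_res t

theorem indFun_tw (h : StabIdem T ε) {χ : G → ℂ} (hχ : IsIrrCharacter G χ) :
    indFun T (resT T (tw ε χ)) = ((Nat.card T : ℂ)⁻¹ * om χ (orbSum ε)) • χ := by
  ext g
  have e1 : extendByZero T (resT T (tw ε χ)) = tw ε χ :=
    (eq_ext_of_supp (fun y hy => tw_eq_zero h (irr_isClassFunction hχ) hy)).symm
  rw [indFun, e1, sum_tw_conj hχ, Pi.smul_apply, smul_eq_mul, mul_assoc]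

theorem fr_main (h : StabIdem T ε) {χ : G → ℂ} (hχ : IsIrrCharacter G χ) {ψ₀ : IrrCharacter T}
    (h1 : om (ψ₀ : T → ℂ) (resT T ε) = 1) (h2 : classInner (resT T χ) (ψ₀ : T → ℂ) ≠ 0) :
    indFun T (ψ₀ : T → ℂ) = χ ∧ ∀ t : T, tw ε χ t = (ψ₀ : T → ℂ) t := by
  obtain ⟨n, hn⟩ := IsCharacter.exists_eq_sum
    (IsCharacter.restrict T (IsIrrCharacter.isCharacter hχ))
  have hn' : resT T χ = ∑ ψ : IrrCharacter T, (n ψ : ℂ) • (ψ : T → ℂ) := hn
  obtain ⟨k, hk⟩ : ∃ k : IrrCharacter T → ℕ, ∀ ψ : IrrCharacter T,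
      om (ψ : T → ℂ) (resT T ε) = k ψ ∧ k ψ * k ψ = k ψ := by
    refine ⟨fun ψ => if om (ψ : T → ℂ) (resT T ε) = 1 then 1 else 0, fun ψ => ?_⟩
    rcases h.om_res ψ with h3 | h3
    · simp [h3]
    · simp [h3]
  obtain ⟨θ, hθ⟩ : ∃ θ : T → ℂ,
      θ = ∑ ψ : IrrCharacter T, ((n ψ * k ψ : ℕ) : ℂ) • (ψ : T → ℂ) := ⟨_, rfl⟩
  have htw : resT T (tw ε χ) = θ := by
    ext t
    rw [resT_apply, tw_coe h, hθ, Finset.sum_apply]
    have e1 : ∀ m : T, χ ((m : G) * t) = ∑ ψ : IrrCharacter T, (n ψ : ℂ) * (ψ : T → ℂ) (m * t) := by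
      intro m
      have := congrFun hn' (m * t)
      rw [Finset.sum_apply] at this
      exact this
    simp only [e1, Finset.mul_sum]
    rw [Finset.sum_comm]
    refine Finset.sum_congr rfl fun ψ _ => ?_
    have e2 := tw_irr h ψ t
    rw [(hk ψ).1] at e2
    rw [Pi.smul_apply, smul_eq_mul]
    push_cast
    rw [mul_assoc, ← e2, Finset.mul_sum]
    refine Finset.sum_congr rfl fun m _ => ?_
    ring
  obtain ⟨c, hc⟩ : ∃ c : ℂ, c = (Nat.card T : ℂ)⁻¹ * om χ (orbSum ε) := ⟨_, rfl⟩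
  have hind : indFun T θ = c • χ := by
    rw [← htw, hc]
    exact indFun_tw h hχ
  have hT0 : (Nat.card T : ℂ) ≠ 0 := card_subgroup_ne_zero T
  have hc2 : c * c = c := by
    have e1 := om_conv hχ (isClassFunction_orbSum ε) (isClassFunction_orbSum ε)
    rw [conv_orbSum h, om_smul] at e1
    rw [hc]
    field_simp
    rw [pow_two, ← e1]
  have hsum : ∀ a : IrrCharacter T → ℕ, classInner θ (∑ ψ : IrrCharacter T, (a ψ : ℂ) • (ψ : T → ℂ)) =
      ((∑ ψ : IrrCharacter T, n ψ * k ψ * a ψ : ℕ) : ℂ) := by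
    intro a
    rw [hθ, classInner_sum_irr]
    push_cast
    refine Finset.sum_congr rfl fun ψ _ => ?_
    rw [Complex.conj_natCast]
  have hin1 : classInner θ (resT T χ) = c := by
    have e1 := frobenius_reciprocity T θ χ (irr_isClassFunction hχ)
    rw [hind, classInner_smul_left, classInner_irr hχ hχ, if_pos rfl, mul_one] at e1
    exact e1.symm
  have hin2 : classInner θ θ = c := by
    rw [← hin1, hn', hsum]
    have e1 := hsum (fun ψ => n ψ * k ψ)
    rw [← hθ] at e1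
    rw [e1]
    congr 1
    refine Finset.sum_congr rfl fun ψ _ => ?_
    rw [mul_assoc, mul_comm (k ψ) (n ψ * k ψ), mul_assoc (n ψ), (hk ψ).2]
    ring
  have hnψ : classInner (resT T χ) (ψ₀ : T → ℂ) = n ψ₀ := by
    rw [hn', classInner_sum_irr_left]
  have hkψ : k ψ₀ = 1 := by
    have := (hk ψ₀).1
    rw [h1] at this
    exact_mod_cast this.symm
  have hθψ : classInner θ (ψ₀ : T → ℂ) = n ψ₀ := by
    rw [hθ, classInner_sum_irr_left, hkψ, mul_one]
  have hn0 : (n ψ₀ : ℂ) ≠ 0 := hnψ ▸ h2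
  have hc0 : c ≠ 0 := by
    intro h0
    rw [h0] at hind
    have e1 := frobenius_reciprocity T θ χ (irr_isClassFunction hχ)
    rw [← hin1, hn', hsum] at h0
    have h3 : ∑ ψ : IrrCharacter T, n ψ * k ψ * n ψ = 0 := by exact_mod_cast h0
    have h4 := (Finset.sum_eq_zero_iff.mp h3) ψ₀ (Finset.mem_univ _)
    rw [hkψ, mul_one] at h4
    apply hn0
    have : n ψ₀ = 0 := by
      rcases Nat.mul_eq_zero.mp h4 with h5 | h5 <;> exact h5
    rw [this, Nat.cast_zero]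
  have hc1 : c = 1 := by
    have : c * (c - 1) = 0 := by rw [mul_sub, hc2]; ring
    rcases mul_eq_zero.mp this with h3 | h3
    · exact absurd h3 hc0
    · exact sub_eq_zero.mp h3
  have hθirr : IsIrrCharacter T θ := by
    apply isIrrCharacter_of_classInner_eq_one _ (by rw [hin2, hc1])
    rw [hθ]
    exact isCharacter_sum_nat _
  have hθeq : θ = (ψ₀ : T → ℂ) := by
    by_contra hne
    rw [classInner_irr hθirr ψ₀.2, if_neg hne] at hθψ
    exact hn0 hθψ.symm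
  refine ⟨?_, fun t => ?_⟩
  · rw [← hθeq, hind, hc1, one_smul]
  · rw [← hθeq, ← htw]
    rfl

theorem fr_irr (h : StabIdem T ε) {ψ : IrrCharacter T}
    (h1 : om (ψ : T → ℂ) (resT T ε) = 1) :
    IsIrrCharacter G (indFun T (ψ : T → ℂ)) ∧
      ∀ t : T, tw ε (indFun T (ψ : T → ℂ)) t = (ψ : T → ℂ) t := by
  have hchar : IsCharacter G (indFun T (ψ : T → ℂ)) :=
    IsCharacter.indFun T (IsIrrCharacter.isCharacter ψ.2)
  have hne : indFun T (ψ : T → ℂ) 1 ≠ 0 := by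
    rw [Cfsg.Agent.Lib.Helper6.indFun_one]
    exact mul_ne_zero (div_ne_zero card_ne_zero_complex (card_subgroup_ne_zero T))
      (irr_one_ne_zero ψ.2)
  obtain ⟨χ, hχ⟩ := Cfsg.Agent.Lib.Helper24.exists_constituent hchar hne
  rw [frobenius_reciprocity T _ _ (irr_isClassFunction χ.2)] at hχ
  have h2 : classInner (resT T (χ : G → ℂ)) (ψ : T → ℂ) ≠ 0 := by
    intro h0
    apply hχ
    have := classInner_conj_symm (resT T (χ : G → ℂ)) (ψ : T → ℂ)
    rw [h0, map_zero] at this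
    exact this.symm
  obtain ⟨h3, h4⟩ := fr_main h χ.2 h1 h2
  rw [h3]
  exact ⟨χ.2, h4⟩

/-- the central element of `G` attached to a class function `u` of `T` -/
noncomputable def zEl (T : Subgroup G) (ε : G → ℂ) (u : T → ℂ) : G → ℂ :=
  indFun T (conv u (resT T ε))

theorem isClassFunction_zEl (T : Subgroup G) (ε : G → ℂ) (u : T → ℂ) :
    IsClassFunction G (zEl T ε u) := indFun_isClassFunction T _

theorem om_zEl (h : StabIdem T ε) {ψ : IrrCharacter T}
    (h1 : om (ψ : T → ℂ) (resT T ε) = 1) (u : T → ℂ) :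
    om (indFun T (ψ : T → ℂ)) (zEl T ε u) = om (ψ : T → ℂ) u := by
  obtain ⟨hirr, htw⟩ := fr_irr h h1
  obtain ⟨χ, hχ⟩ : ∃ χ, χ = indFun T (ψ : T → ℂ) := ⟨_, rfl⟩
  rw [← hχ] at hirr htw ⊢
  have hcl := irr_isClassFunction hirr
  have e1 : ∑ g, zEl T ε u g * χ g =
      (Nat.card G : ℂ) / (Nat.card T : ℂ) * ∑ t : T, χ t * conv u (resT T ε) t := by
    rw [← sum_mul_indFun T _ hcl]
    exact Finset.sum_congr rfl fun g _ => mul_comm _ _
  have e2 : ∑ t : T, χ t * conv u (resT T ε) t = ∑ x : T, u x * (ψ : T → ℂ) x := by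
    have e3 := sum_conv_mul u (resT T ε) (resT T χ)
    have e4 : ∑ t : T, χ t * conv u (resT T ε) t = ∑ t : T, conv u (resT T ε) t * resT T χ t :=
      Finset.sum_congr rfl fun g _ => mul_comm _ _
    rw [e4, e3]
    refine Finset.sum_congr rfl fun x _ => ?_
    rw [← htw x, tw_coe h, Finset.mul_sum]
    refine Finset.sum_congr rfl fun y _ => ?_
    have e5 : resT T χ (x * y) = χ ((y : G) * x) := by
      rw [resT_apply]
      have := hcl ((y : G) * x) x
      rw [← this]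
      congr 1
      rw [Subgroup.coe_mul]
      group
    rw [e5]
    ring
  have e6 : χ 1 = (Nat.card G : ℂ) / (Nat.card T : ℂ) * (ψ : T → ℂ) 1 := by
    rw [hχ, Cfsg.Agent.Lib.Helper6.indFun_one]
  have hG : (Nat.card G : ℂ) ≠ 0 := card_ne_zero_complex
  have hT : (Nat.card T : ℂ) ≠ 0 := card_subgroup_ne_zero T
  have hψ1 := irr_one_ne_zero ψ.2
  rw [om, om, e1, e2, e6]
  field_simp

theorem indFun_memLocalRing {M : Ideal AlgInt} [M.IsPrime] (T : Subgroup G) {v : T → ℂ}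
    (hv : IsClassFunction T v) (hS : ∀ t, MemLocalRing M (v t)) (g : G) :
    MemLocalRing M (indFun T v g) := by
  rw [Cfsg.Agent.Lib.Helper13.indFun_eq_sum_reps T (fun q : G ⧸ T => q.out)
    (by
      have : (fun q : G ⧸ T => (QuotientGroup.mk q.out : G ⧸ T)) = id := by
        ext q
        exact QuotientGroup.out_eq' q
      rw [this]
      exact Function.bijective_id) v hv g]
  exact MemLocalRing.sum _ fun q _ => memLocalRing_ext T hS _

/-- `χ` lies over `ε` -/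
def Over (T : Subgroup G) (ε χ : G → ℂ) : Prop :=
  ∃ ψ₀ : IrrCharacter T, om (ψ₀ : T → ℂ) (resT T ε) = 1 ∧
    classInner (resT T χ) (ψ₀ : T → ℂ) ≠ 0

theorem over_indFun (h : StabIdem T ε) {ψ : IrrCharacter T}
    (h1 : om (ψ : T → ℂ) (resT T ε) = 1) : Over T ε (indFun T (ψ : T → ℂ)) := by
  refine ⟨ψ, h1, ?_⟩
  have hirr := (fr_irr h h1).1
  have e1 := frobenius_reciprocity T (ψ : T → ℂ) _ (irr_isClassFunction hirr)
  rw [classInner_irr hirr hirr, if_pos rfl] at e1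
  intro h0
  have := classInner_conj_symm (resT T (indFun T (ψ : T → ℂ))) (ψ : T → ℂ)
  rw [h0, map_zero] at this
  have e2 : classInner (ψ : T → ℂ) (resT T (indFun T (ψ : T → ℂ))) = 1 := e1.symm
  rw [e2] at this
  exact zero_ne_one this

theorem om_zEl_delta_of_over (h : StabIdem T ε) {χ : G → ℂ} (hχ : IsIrrCharacter G χ)
    (ho : Over T ε χ) : om χ (zEl T ε delta) = 1 := by
  obtain ⟨ψ₀, h1, h2⟩ := ho
  rw [← (fr_main h hχ h1 h2).1, om_zEl h h1, om_delta ψ₀.2]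

theorem om_zEl_delta_of_not_over (h : StabIdem T ε) {χ : G → ℂ} (hχ : IsIrrCharacter G χ)
    (ho : ¬ Over T ε χ) : om χ (zEl T ε delta) = 0 := by
  obtain ⟨n, hn⟩ := IsCharacter.exists_eq_sum
    (IsCharacter.restrict T (IsIrrCharacter.isCharacter hχ))
  have hn' : resT T χ = ∑ ψ : IrrCharacter T, (n ψ : ℂ) • (ψ : T → ℂ) := hn
  have e1 : ∑ g, zEl T ε delta g * χ g =
      (Nat.card G : ℂ) / (Nat.card T : ℂ) * ∑ t : T, χ t * resT T ε t := by
    rw [← sum_mul_indFun T _ (irr_isClassFunction hχ), zEl, delta_conv]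
    exact Finset.sum_congr rfl fun g _ => mul_comm _ _
  have e2 : ∑ t : T, χ t * resT T ε t = 0 := by
    have e3 : ∀ t : T, χ t = ∑ ψ : IrrCharacter T, (n ψ : ℂ) * (ψ : T → ℂ) t := by
      intro t
      have := congrFun hn' t
      rw [Finset.sum_apply] at this
      exact this
    simp only [e3, Finset.sum_mul]
    rw [Finset.sum_comm]
    refine Finset.sum_eq_zero fun ψ _ => ?_
    have e4 : ∑ t : T, (n ψ : ℂ) * (ψ : T → ℂ) t * resT T ε t =
        (n ψ : ℂ) * (om (ψ : T → ℂ) (resT T ε) * (ψ : T → ℂ) 1) := by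
      rw [om, div_mul_cancel₀ _ (irr_one_ne_zero ψ.2), Finset.mul_sum]
      exact Finset.sum_congr rfl fun t _ => by ring
    rw [e4]
    rcases h.om_res ψ with h3 | h3
    · rw [h3]; ring
    · have : (n ψ : ℂ) = 0 := by
        by_contra hne
        apply ho
        refine ⟨ψ, h3, ?_⟩
        rw [hn', classInner_sum_irr_left]
        exact hne
      rw [this]; ring
  rw [om, e1, e2]
  simp

section blocks

variable {M : Ideal AlgInt} [M.IsPrime]

theorem sameBlock_indFun {ψ₁ ψ₂ : IrrCharacter T}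
    (hs : SameBlock M (ψ₁ : T → ℂ) (ψ₂ : T → ℂ)) :
    SameBlock M (indFun T (ψ₁ : T → ℂ)) (indFun T (ψ₂ : T → ℂ)) := by
  intro g
  rw [← inducedCentralChar_eq_centralChar, ← inducedCentralChar_eq_centralChar,
    inducedCentralChar_eq_om, inducedCentralChar_eq_om]
  apply om_sub_memLocalIdeal ψ₁.2 ψ₂.2 hs (isClassFunction_res T (isClassFunction_classInd g))
  intro t
  rw [classInd_apply]
  split_ifs
  · exact memLocalRing_one
  · exact memLocalRing_zero

theorem memLocalRing_zEl (h : StabIdem T ε) (hS : ∀ g, MemLocalRing M (ε g)) {u : T → ℂ}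
    (hu : IsClassFunction T u) (huS : ∀ t, MemLocalRing M (u t)) (g : G) :
    MemLocalRing M (zEl T ε u g) :=
  indFun_memLocalRing T (isClassFunction_conv hu h.isClassFunction_res)
    (memLocalRing_conv huS fun t => hS t) g

theorem sameBlock_of_indFun (h : StabIdem T ε) (hS : ∀ g, MemLocalRing M (ε g))
    {ψ₁ ψ₂ : IrrCharacter T} (h1 : om (ψ₁ : T → ℂ) (resT T ε) = 1)
    (h2 : om (ψ₂ : T → ℂ) (resT T ε) = 1)
    (hs : SameBlock M (indFun T (ψ₁ : T → ℂ)) (indFun T (ψ₂ : T → ℂ))) :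
    SameBlock M (ψ₁ : T → ℂ) (ψ₂ : T → ℂ) := by
  intro t
  rw [← om_classInd (irr_isClassFunction ψ₁.2), ← om_classInd (irr_isClassFunction ψ₂.2),
    ← om_zEl h h1, ← om_zEl h h2]
  apply om_sub_memLocalIdeal (fr_irr h h1).1 (fr_irr h h2).1 hs (isClassFunction_zEl T ε _)
  apply memLocalRing_zEl h hS (isClassFunction_classInd t)
  intro s
  rw [classInd_apply]
  split_ifs
  · exact memLocalRing_one
  · exact memLocalRing_zero

theorem om_res_eq_one_of_sameBlock (h : StabIdem T ε) (hS : ∀ g, MemLocalRing M (ε g))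
    {ψ₁ ψ₂ : IrrCharacter T} (hs : SameBlock M (ψ₁ : T → ℂ) (ψ₂ : T → ℂ))
    (h1 : om (ψ₁ : T → ℂ) (resT T ε) = 1) : om (ψ₂ : T → ℂ) (resT T ε) = 1 := by
  rcases h.om_res ψ₂ with h3 | h3
  · exfalso
    have := om_sub_memLocalIdeal ψ₁.2 ψ₂.2 hs h.isClassFunction_res (fun t => hS t)
    rw [h1, h3, sub_zero] at this
    exact not_memLocalIdeal_one this
  · exact h3

theorem over_of_sameBlock (h : StabIdem T ε) (hS : ∀ g, MemLocalRing M (ε g))
    {χ₁ χ₂ : G → ℂ} (hχ₁ : IsIrrCharacter G χ₁) (hχ₂ : IsIrrCharacter G χ₂)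
    (hs : SameBlock M χ₁ χ₂) (ho : Over T ε χ₁) : Over T ε χ₂ := by
  by_contra hcon
  have := om_sub_memLocalIdeal hχ₁ hχ₂ hs (isClassFunction_zEl T ε delta)
    (memLocalRing_zEl h hS isClassFunction_delta memLocalRing_delta)
  rw [om_zEl_delta_of_over h hχ₁ ho, om_zEl_delta_of_not_over h hχ₂ hcon, sub_zero] at this
  exact not_memLocalIdeal_one this

theorem fr_induced (h : StabIdem T ε) (hS : ∀ g, MemLocalRing M (ε g))
    {B' : Set (IrrCharacter T)} (hB' : IsPBlock M B') {ψ₀ : IrrCharacter T} (hψ₀ : ψ₀ ∈ B')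
    (h0 : om (ψ₀ : T → ℂ) (resT T ε) = 1) :
    ∃ B : Set (IrrCharacter G), IsInducedBlock M T B' B ∧
      (∀ ψ ∈ B', IsIrrCharacter G (indFun T (ψ : T → ℂ))) ∧
      ∀ χ : IrrCharacter G, χ ∈ B ↔ ∃ ψ ∈ B', (χ : G → ℂ) = indFun T (ψ : T → ℂ) := by
  have hall : ∀ ψ ∈ B', om (ψ : T → ℂ) (resT T ε) = 1 := fun ψ hψ =>
    om_res_eq_one_of_sameBlock h hS (IsPBlock.sameBlock hB' hψ₀ hψ) h0
  obtain ⟨χ₀, hχ₀⟩ : ∃ χ₀ : IrrCharacter G, (χ₀ : G → ℂ) = indFun T (ψ₀ : T → ℂ) :=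
    ⟨⟨_, (fr_irr h h0).1⟩, rfl⟩
  have hiff : ∀ χ : IrrCharacter G, χ ∈ blockOf M (χ₀ : G → ℂ) ↔
      ∃ ψ ∈ B', (χ : G → ℂ) = indFun T (ψ : T → ℂ) := by
    intro χ
    constructor
    · intro hχ
      have hs : SameBlock M (χ₀ : G → ℂ) (χ : G → ℂ) := hχ
      have ho : Over T ε (χ : G → ℂ) :=
        over_of_sameBlock h hS χ₀.2 χ.2 hs (hχ₀ ▸ over_indFun h h0)
      obtain ⟨ψ, h1, h2⟩ := ho
      have h3 := (fr_main h χ.2 h1 h2).1
      refine ⟨ψ, ?_, h3.symm⟩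
      rw [IsPBlock.eq_blockOf hB' hψ₀]
      apply sameBlock_of_indFun h hS h0 h1
      rw [h3, ← hχ₀]
      exact hs
    · rintro ⟨ψ, hψ, hχ⟩
      show SameBlock M (χ₀ : G → ℂ) (χ : G → ℂ)
      rw [hχ₀, hχ]
      exact sameBlock_indFun (IsPBlock.sameBlock hB' hψ₀ hψ)
  refine ⟨blockOf M (χ₀ : G → ℂ), ⟨hB', ⟨χ₀, rfl⟩, ?_⟩, fun ψ hψ => (fr_irr h (hall ψ hψ)).1, hiff⟩
  intro ξ hξ χ hχ g
  rw [inducedCentralChar_eq_centralChar]
  have hs1 : SameBlock M (χ₀ : G → ℂ) (χ : G → ℂ) := hχ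
  have hs2 : SameBlock M (χ₀ : G → ℂ) (indFun T (ξ : T → ℂ)) := by
    rw [hχ₀]
    exact sameBlock_indFun (IsPBlock.sameBlock hB' hψ₀ hξ)
  exact (SameBlock.trans (SameBlock.symm hs2) hs1) g

theorem fr_inj (h : StabIdem T ε) (hS : ∀ g, MemLocalRing M (ε g))
    {B'₁ B'₂ : Set (IrrCharacter T)} {ψ₁ ψ₂ : IrrCharacter T} (hψ₁ : ψ₁ ∈ B'₁)
    (h1 : om (ψ₁ : T → ℂ) (resT T ε) = 1) (hψ₂ : ψ₂ ∈ B'₂)
    (h2 : om (ψ₂ : T → ℂ) (resT T ε) = 1) {B : Set (IrrCharacter G)}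
    (hi₁ : IsInducedBlock M T B'₁ B) (hi₂ : IsInducedBlock M T B'₂ B) : B'₁ = B'₂ := by
  obtain ⟨χ, hχ⟩ := IsPBlock.nonempty hi₁.2.1
  have hs : SameBlock M (indFun T (ψ₁ : T → ℂ)) (indFun T (ψ₂ : T → ℂ)) := by
    intro g
    have e1 := hi₁.2.2 ψ₁ hψ₁ χ hχ g
    have e2 := hi₂.2.2 ψ₂ hψ₂ χ hχ g
    rw [inducedCentralChar_eq_centralChar] at e1 e2
    have := MemLocalIdeal.sub e1 e2
    rwa [sub_sub_sub_cancel_right] at this
  have hs' := sameBlock_of_indFun h hS h1 h2 hs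
  have hmem : ψ₂ ∈ B'₁ := by
    rw [IsPBlock.eq_blockOf hi₁.1 hψ₁]
    exact hs'
  exact IsPBlock.eq_of_mem_of_mem hi₁.1 hi₂.1 hmem hψ₂

theorem fr_surj (h : StabIdem T ε) (hS : ∀ g, MemLocalRing M (ε g))
    {B : Set (IrrCharacter G)} (hB : IsPBlock M B) {χ : IrrCharacter G} (hχ : χ ∈ B)
    (ho : Over T ε (χ : G → ℂ)) :
    ∃ (B' : Set (IrrCharacter T)) (ψ : IrrCharacter T), IsPBlock M B' ∧ ψ ∈ B' ∧
      om (ψ : T → ℂ) (resT T ε) = 1 ∧ IsInducedBlock M T B' B := by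
  obtain ⟨ψ, h1, h2⟩ := ho
  obtain ⟨B₁, hind, -, hiff⟩ := fr_induced h hS (B' := blockOf M (ψ : T → ℂ)) ⟨ψ, rfl⟩
    (mem_blockOf_self ψ) h1
  have h3 : χ ∈ B₁ := (hiff χ).mpr ⟨ψ, mem_blockOf_self ψ, (fr_main h χ.2 h1 h2).1.symm⟩
  rw [IsPBlock.eq_of_mem_of_mem hind.2.1 hB h3 hχ] at hind
  exact ⟨_, ψ, ⟨ψ, rfl⟩, mem_blockOf_self ψ, h1, hind⟩

end blocks

end abstract

end Cfsg.Agent.Lib.Helper24
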