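import Cfsg.Agent.Lib.Helper24.FongReynolds
import Cfsg.Agent.Lib.Helper6.IndDefect

/-!
# The Fong–Reynolds correspondence for the stabilizer of a block of a normal subgroup
-/

set_option autoImplicit false

namespace Cfsg.Agent.Lib.Helper24

open Cfsg Cfsg.Agent.Lib.Helper2 Cfsg.Agent.Lib.Helper6
open scoped ComplexConjugate Classical

attribute [local instance] irrFintype

section trans

variable {A B : Type*} [Group A] [Group B] [Fintype A] [Fintype B]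

theorem constituent_trans (ι : A →* B) {φ : B → ℂ} (hφ : IsCharacter B φ) (θ : IrrCharacter A) :
    classInner (φ ∘ ι) (θ : A → ℂ) ≠ 0 ↔
      ∃ ψ : IrrCharacter B, classInner φ (ψ : B → ℂ) ≠ 0 ∧
        classInner ((ψ : B → ℂ) ∘ ι) (θ : A → ℂ) ≠ 0 := by
  obtain ⟨n, hn⟩ := IsCharacter.exists_eq_sum hφ
  have h1 : ∀ ψ : IrrCharacter B, classInner φ (ψ : B → ℂ) = n ψ := by
    intro ψ
    conv_lhs => rw [hn]
    exact classInner_sum_irr_left _ ψ
  choose m hm using fun ψ : IrrCharacter B => IsCharacter.classInner_nat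
    (IsCharacter.comp_hom ι (IsIrrCharacter.isCharacter ψ.2)) (IsIrrCharacter.isCharacter θ.2)
  have hm' : ∀ ψ : IrrCharacter B, classInner ((ψ : B → ℂ) ∘ ι) (θ : A → ℂ) = m ψ := hm
  have h2 : φ ∘ ι = ∑ ψ : IrrCharacter B, (n ψ : ℂ) • ((ψ : B → ℂ) ∘ ι) := by
    ext a
    rw [Function.comp_apply, hn]
    simp
  have h3 : classInner (φ ∘ ι) (θ : A → ℂ) = ((∑ ψ : IrrCharacter B, n ψ * m ψ : ℕ) : ℂ) := by
    rw [h2, classInner_sum_left]
    push_cast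
    refine Finset.sum_congr rfl fun ψ _ => ?_
    rw [classInner_smul_left, hm']
  rw [h3]
  simp only [h1, hm']
  constructor
  · intro h
    by_contra hcon
    push Not at hcon
    apply h
    rw [Nat.cast_eq_zero]
    refine Finset.sum_eq_zero fun ψ _ => ?_
    by_cases h0 : n ψ = 0
    · rw [h0, zero_mul]
    · have := hcon ψ (by exact_mod_cast h0)
      have h5 : m ψ = 0 := by exact_mod_cast this
      rw [h5, mul_zero]
  · rintro ⟨ψ, h4, h5⟩ h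
    have h6 : ∑ ψ : IrrCharacter B, n ψ * m ψ = 0 := by exact_mod_cast h
    have h7 := (Finset.sum_eq_zero_iff.mp h6) ψ (Finset.mem_univ _)
    rcases Nat.mul_eq_zero.mp h7 with h8 | h8
    · exact h4 (by rw [h8, Nat.cast_zero])
    · exact h5 (by rw [h8, Nat.cast_zero])

end trans

section concrete

variable {G : Type*} [Group G] [Fintype G] {N : Subgroup G} {M : Ideal AlgInt} {p : ℕ}
  {b : Set (IrrCharacter N)} {T : Subgroup G}

theorem stabIdem_sbc [M.IsPrime] [N.Normal] (hb : IsPBlock M b)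
    (hT : ∀ g, g ∈ T ↔ StabilizesBlock N b g) : StabIdem T (subgroupBlockCoeff N b) := by
  have hnor : ∀ x : G, x ∈ Subgroup.normalizer (N : Set G) := by
    intro x
    rw [Subgroup.mem_normalizer_iff]
    intro h
    refine ⟨fun hh => (inferInstance : N.Normal).conj_mem _ hh _, fun hh => ?_⟩
    have h1 := (inferInstance : N.Normal).conj_mem _ hh x⁻¹
    have h2 : x⁻¹ * (x * h * x⁻¹) * x⁻¹⁻¹ = h := by group
    rwa [h2] at h1
  refine ⟨sbc_idem N b, fun t ht => ((stabilizesBlock_iff _ _ _).mp ((hT t).mp ht)).2, ?_, ?_⟩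
  · intro x hx
    have hc := isConjSub_of_mem_normalizer (hnor x)
    rw [← sbc_conjSet hc, sbc_conv]
    have : b ∩ conjSet hc b = ∅ := by
      by_contra hne
      obtain ⟨θ, hθ1, hθ2⟩ := Set.nonempty_iff_ne_empty.mpr hne
      have h1 := IsPBlock.eq_of_mem_of_mem hb (isPBlock_conjSet hc hb) hθ1 hθ2
      apply hx
      rw [hT, stabilizesBlock_iff]
      refine ⟨hnor x, ?_⟩
      rw [← sbc_conjSet hc, ← h1]
    rw [this, sbc_empty]
  · intro g hg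
    apply sbc_not_mem
    intro hgN
    exact hg ((hT g).mpr (le_stabSub N b hgN))

theorem om_res_sbc [M.IsPrime] [N.Normal] (hb : IsPBlock M b)
    (hT : ∀ g, g ∈ T ↔ StabilizesBlock N b g) (hNT : N ≤ T) {ψ : IrrCharacter T}
    {θ : IrrCharacter N}
    (hc : classInner ((ψ : T → ℂ) ∘ Subgroup.inclusion hNT) (θ : N → ℂ) ≠ 0) :
    om (ψ : T → ℂ) (resT T (subgroupBlockCoeff N b)) = b.indicator (1 : IrrCharacter N → ℂ) θ := by
  rw [om_eq_of_constituent (Subgroup.inclusion hNT) (Subgroup.inclusion_injective hNT) ψ.2 θ hc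
    (stabIdem_sbc hb hT).isClassFunction_res, ← om_coef (b.indicator 1) θ]
  · congr 1
    ext n
    rw [Function.comp_apply, ← blockCoeff_eq_coef]
    exact sbc_coe N b n
  · intro t ht
    apply sbc_not_mem
    intro htN
    exact ht ⟨⟨t, htN⟩, rfl⟩

/-- a character of `T` lies over `b` -/
def OverT (hNT : N ≤ T) (b : Set (IrrCharacter N)) (ψ : T → ℂ) : Prop :=
  ∃ θ ∈ b, classInner (fun n : N => ψ ⟨(n : G), hNT n.2⟩) (θ : N → ℂ) ≠ 0

theorem overT_iff [M.IsPrime] [N.Normal] (hb : IsPBlock M b)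
    (hT : ∀ g, g ∈ T ↔ StabilizesBlock N b g) (hNT : N ≤ T) (ψ : IrrCharacter T) :
    OverT hNT b (ψ : T → ℂ) ↔ om (ψ : T → ℂ) (resT T (subgroupBlockCoeff N b)) = 1 := by
  constructor
  · rintro ⟨θ, hθ, hc⟩
    rw [om_res_sbc hb hT hNT hc, Set.indicator_of_mem hθ]
    rfl
  · intro h
    obtain ⟨θ, hθ⟩ := exists_constituent_incl hNT ψ
    refine ⟨θ, ?_, hθ⟩
    rw [om_res_sbc hb hT hNT hθ] at h
    by_contra hcon
    rw [Set.indicator_of_notMem hcon] at h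
    exact zero_ne_one h

/-- a character of `G` lies over `b` -/
def OverG (b : Set (IrrCharacter N)) (χ : G → ℂ) : Prop :=
  ∃ θ ∈ b, classInner (fun n : N => χ n) (θ : N → ℂ) ≠ 0

theorem over_iff [M.IsPrime] [N.Normal] (hb : IsPBlock M b)
    (hT : ∀ g, g ∈ T ↔ StabilizesBlock N b g) (hNT : N ≤ T) (χ : IrrCharacter G) :
    Over T (subgroupBlockCoeff N b) (χ : G → ℂ) ↔ OverG b (χ : G → ℂ) := by
  have hchar : IsCharacter T (resT T (χ : G → ℂ)) :=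
    IsCharacter.restrict T (IsIrrCharacter.isCharacter χ.2)
  constructor
  · rintro ⟨ψ₀, h1, h2⟩
    obtain ⟨θ, hθ, hc⟩ := (overT_iff hb hT hNT ψ₀).mpr h1
    exact ⟨θ, hθ, (constituent_trans (Subgroup.inclusion hNT) hchar θ).mpr ⟨ψ₀, h2, hc⟩⟩
  · rintro ⟨θ, hθ, hc⟩
    obtain ⟨ψ, h2, h3⟩ := (constituent_trans (Subgroup.inclusion hNT) hchar θ).mp hc
    exact ⟨ψ, (overT_iff hb hT hNT ψ).mp ⟨θ, hθ, h3⟩, h2⟩

theorem fongReynolds [M.IsPrime] [N.Normal] (hb : IsPBlock M b)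
    (hT : ∀ g, g ∈ T ↔ StabilizesBlock N b g) (hNT : N ≤ T) :
    (∀ B' : Set (IrrCharacter T), IsPBlock M B' → (∃ ψ ∈ B', OverT hNT b (ψ : T → ℂ)) →
      ∃ B : Set (IrrCharacter G), IsInducedBlock M T B' B ∧ (∃ χ ∈ B, OverG b (χ : G → ℂ)) ∧
        (∀ ψ ∈ B', IsIrrCharacter G (indFun T (ψ : T → ℂ))) ∧
        ∀ χ : IrrCharacter G, χ ∈ B ↔ ∃ ψ ∈ B', (χ : G → ℂ) = indFun T (ψ : T → ℂ)) ∧
    (∀ B'₁ B'₂ : Set (IrrCharacter T), IsPBlock M B'₁ → IsPBlock M B'₂ →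
      (∃ ψ ∈ B'₁, OverT hNT b (ψ : T → ℂ)) → (∃ ψ ∈ B'₂, OverT hNT b (ψ : T → ℂ)) →
      ∀ B : Set (IrrCharacter G), IsInducedBlock M T B'₁ B → IsInducedBlock M T B'₂ B →
        B'₁ = B'₂) ∧
    (∀ B : Set (IrrCharacter G), IsPBlock M B → (∃ χ ∈ B, OverG b (χ : G → ℂ)) →
      ∃ B' : Set (IrrCharacter T), IsPBlock M B' ∧ (∃ ψ ∈ B', OverT hNT b (ψ : T → ℂ)) ∧
        IsInducedBlock M T B' B) := by
  have h := stabIdem_sbc hb hT
  have hS := sbc_memLocalRing N hb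
  refine ⟨?_, ?_, ?_⟩
  · rintro B' hB' ⟨ψ₀, hψ₀, ho⟩
    have h0 := (overT_iff hb hT hNT ψ₀).mp ho
    obtain ⟨B, hind, hirr, hiff⟩ := fr_induced h hS hB' hψ₀ h0
    obtain ⟨χ₀, hχ₀⟩ : ∃ χ₀ : IrrCharacter G, (χ₀ : G → ℂ) = indFun T (ψ₀ : T → ℂ) :=
      ⟨⟨_, hirr ψ₀ hψ₀⟩, rfl⟩
    refine ⟨B, hind, ⟨χ₀, (hiff χ₀).mpr ⟨ψ₀, hψ₀, hχ₀⟩, ?_⟩, hirr, hiff⟩
    refine (over_iff hb hT hNT χ₀).mp ?_
    rw [hχ₀]
    exact over_indFun h h0
  · rintro B'₁ B'₂ - - ⟨ψ₁, hψ₁, ho₁⟩ ⟨ψ₂, hψ₂, ho₂⟩ B hi₁ hi₂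
    exact fr_inj h hS hψ₁ ((overT_iff hb hT hNT ψ₁).mp ho₁) hψ₂
      ((overT_iff hb hT hNT ψ₂).mp ho₂) hi₁ hi₂
  · rintro B hB ⟨χ, hχ, ho⟩
    obtain ⟨B', ψ, hB', hψ, h1, hind⟩ := fr_surj h hS hB hχ ((over_iff hb hT hNT χ).mpr ho)
    exact ⟨B', hB', ⟨ψ, hψ, (overT_iff hb hT hNT ψ).mpr h1⟩, hind⟩

omit [Fintype G] in
theorem isInducedBlock_unique [Finite G] [M.IsPrime] {H : Subgroup G} {c : Set (IrrCharacter H)}
    {B₁ B₂ : Set (IrrCharacter G)} (h₁ : IsInducedBlock M H c B₁) (h₂ : IsInducedBlock M H c B₂) :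
    B₁ = B₂ := by
  obtain ⟨ξ, hξ⟩ := IsPBlock.nonempty h₁.1
  obtain ⟨χ₁, hχ₁⟩ := IsPBlock.nonempty h₁.2.1
  obtain ⟨χ₂, hχ₂⟩ := IsPBlock.nonempty h₂.2.1
  have hs : SameBlock M (χ₁ : G → ℂ) (χ₂ : G → ℂ) := by
    intro g
    have := MemLocalIdeal.sub (h₂.2.2 ξ hξ χ₂ hχ₂ g) (h₁.2.2 ξ hξ χ₁ hχ₁ g)
    rwa [sub_sub_sub_cancel_left] at this
  have hmem : χ₂ ∈ B₁ := by
    rw [IsPBlock.eq_blockOf h₁.2.1 hχ₁]
    exact hs
  exact IsPBlock.eq_of_mem_of_mem h₁.2.1 h₂.2.1 hmem hχ₂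

theorem sInf_image_add {α : Type*} {S : Set α} (hS : S.Nonempty) (f : α → ℕ) (a : ℕ) :
    sInf ((fun x => a + f x) '' S) = a + sInf (f '' S) := by
  have h1 : (f '' S).Nonempty := hS.image f
  have h2 : ((fun x => a + f x) '' S).Nonempty := hS.image _
  apply le_antisymm
  · obtain ⟨x, hx, hfx⟩ := Nat.sInf_mem h1
    rw [← hfx]
    exact Nat.sInf_le ⟨x, hx, rfl⟩
  · obtain ⟨x, hx, hfx⟩ := Nat.sInf_mem h2
    rw [← hfx]
    have h3 : sInf (f '' S) ≤ f x := Nat.sInf_le ⟨x, hx, rfl⟩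
    exact Nat.add_le_add_left h3 a

theorem fongReynolds_defect (hM : IsPModular p M) [N.Normal] (hb : IsPBlock M b)
    (hT : ∀ g, g ∈ T ↔ StabilizesBlock N b g) (hNT : N ≤ T) {B' : Set (IrrCharacter T)}
    (hB' : IsPBlock M B') (hcov : ∃ ψ ∈ B', OverT hNT b (ψ : T → ℂ))
    {B : Set (IrrCharacter G)} (hind : IsInducedBlock M T B' B) :
    (∀ D : Subgroup T, IsDefectGroup p M B' D → IsDefectGroup p M B (D.map T.subtype)) ∧
      ∀ ψ ∈ B', ∃ χ ∈ B, (χ : G → ℂ) = indFun T (ψ : T → ℂ) ∧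
        blockHeight p B (χ : G → ℂ) = blockHeight p B' (ψ : T → ℂ) := by
  have := IsPModular.isPrime hM
  have : Fact p.Prime := ⟨hM.1⟩
  have hp : p.Prime := hM.1
  obtain ⟨B₁, hind₁, -, hirr, hiff⟩ := (fongReynolds hb hT hNT).1 B' hB' hcov
  obtain rfl := isInducedBlock_unique hind₁ hind
  have hB := hind.2.1
  obtain ⟨a, ha⟩ : ∃ a, a = T.index.factorization p := ⟨_, rfl⟩
  have hdeg : ∀ ψ : IrrCharacter T, (charDegree (indFun T (ψ : T → ℂ))).factorization p =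
      a + (charDegree (ψ : T → ℂ)).factorization p := by
    intro ψ
    rw [charDegree_indFun T (IsIrrCharacter.isCharacter ψ.2),
      Nat.factorization_mul Subgroup.index_ne_zero_of_finite (charDegree_pos ψ.2).ne', ha]
    rfl
  have hset : (fun χ : IrrCharacter G => (charDegree (χ : G → ℂ)).factorization p) '' B₁ =
      (fun ψ : IrrCharacter T => a + (charDegree (ψ : T → ℂ)).factorization p) '' B' := by
    ext k
    constructor
    · rintro ⟨χ, hχ, rfl⟩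
      obtain ⟨ψ, hψ, hχψ⟩ := (hiff χ).mp hχ
      refine ⟨ψ, hψ, ?_⟩
      simp only
      rw [hχψ, hdeg]
    · rintro ⟨ψ, hψ, rfl⟩
      refine ⟨⟨_, hirr ψ hψ⟩, (hiff _).mpr ⟨ψ, hψ, rfl⟩, ?_⟩
      simp only
      rw [hdeg]
  have hinf : sInf ((fun χ : IrrCharacter G => (charDegree (χ : G → ℂ)).factorization p) '' B₁) =
      a + sInf ((fun ψ : IrrCharacter T => (charDegree (ψ : T → ℂ)).factorization p) '' B') := by
    rw [hset]
    exact sInf_image_add (IsPBlock.nonempty hB') _ a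
  have hcard : (Nat.card G).factorization p = a + (Nat.card T).factorization p := by
    rw [← Subgroup.index_mul_card T,
      Nat.factorization_mul Subgroup.index_ne_zero_of_finite Nat.card_pos.ne', ha]
    rfl
  have hdef : blockDefect p B₁ = blockDefect p B' := by
    unfold blockDefect
    rw [hinf, hcard]
    omega
  constructor
  · intro D hD
    obtain ⟨E, hE, hDE⟩ := exists_isDefectGroup_ge_of_induced hM T hind hD
    have h1 : Nat.card E = Nat.card (D.map T.subtype) := by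
      rw [IsDefectGroup.card_eq hM hB hE, hdef, ← IsDefectGroup.card_eq hM hB' hD,
        Subgroup.card_map_of_injective T.subtype_injective]
    rw [Subgroup.eq_of_le_of_card_ge hDE h1.le]
    exact hE
  · intro ψ hψ
    refine ⟨⟨_, hirr ψ hψ⟩, (hiff _).mpr ⟨ψ, hψ, rfl⟩, rfl, ?_⟩
    unfold blockHeight
    rw [hinf]
    simp only
    rw [hdeg]
    omega

theorem stabilizesBlock_inv_iff_forall [hN : N.Normal] (b : Set (IrrCharacter N))
    (g : G) :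
    StabilizesBlock N b g⁻¹ ↔ ∀ θ ∈ b, ∀ θ' : IrrCharacter N,
      (∀ n : N, (θ' : N → ℂ) n = (θ : N → ℂ) ⟨g * n * g⁻¹, hN.conj_mem n n.2 g⟩) → θ' ∈ b := by
  have hx : g⁻¹ ∈ Subgroup.normalizer (N : Set G) := by
    rw [Subgroup.mem_normalizer_iff]
    intro h
    refine ⟨fun hh => hN.conj_mem _ hh _, fun hh => ?_⟩
    have h1 := hN.conj_mem _ hh g⁻¹⁻¹
    have h2 : g⁻¹⁻¹ * (g⁻¹ * h * g⁻¹⁻¹) * g⁻¹⁻¹⁻¹ = h := by group
    rwa [h2] at h1
  rw [stabilizesBlock_iff_forall b hx]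
  refine forall_congr' fun θ => forall_congr' fun _ => forall_congr' fun θ' => ?_
  refine imp_congr_left ⟨fun h n => ?_, fun h n n' hn => ?_⟩
  · apply h
    simp only
    group
  · rw [h n']
    apply congrArg
    apply Subtype.ext
    simp only
    rw [hn]
    group

theorem mem_iff_stabilizesBlock_of_forall [hN : N.Normal] {b : Set (IrrCharacter N)}
    (hT : ∀ g : G, g ∈ T ↔ ∀ θ ∈ b, ∀ θ' : IrrCharacter N,
      (∀ n : N, (θ' : N → ℂ) n = (θ : N → ℂ) ⟨g * n * g⁻¹, hN.conj_mem n n.2 g⟩) → θ' ∈ b)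
    (g : G) : g ∈ T ↔ StabilizesBlock N b g := by
  rw [← T.inv_mem_iff, hT, ← stabilizesBlock_inv_iff_forall, inv_inv]

end concrete

end Cfsg.Agent.Lib.Helper24
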