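import Cfsg.Agent.Lib.Helper24.PairStab
import Cfsg.Agent.Lib.Helper24.Covering
import Cfsg.Agent.Lib.Helper6.NormalIdem

/-!
# Stable blocks of normal subgroups: central characters; normal subgroups of `p`-power index
-/

set_option autoImplicit false

namespace Cfsg.Agent.Lib.Helper24

open Cfsg Cfsg.Agent.Lib.Helper2 Cfsg.Agent.Lib.Helper6
open scoped ComplexConjugate Classical

attribute [local instance] irrFintype

section classes

variable {G : Type*} [Group G] (N : Subgroup G) [N.Normal]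

/-- conjugation by `x` on the normal subgroup `N` -/
def cjN (x : G) : N ≃* N := MulAut.conjNormal x

theorem cjN_coe (x : G) (n : N) : ((cjN N x n : N) : G) = x * n * x⁻¹ := rfl

theorem isConj_cjN_iff (n₀ : N) (x y : G) :
    IsConj (cjN N x n₀) (cjN N y n₀) ↔ y⁻¹ * x ∈ N ⊔ cen (n₀ : G) := by
  rw [isConj_iff, ← SetLike.mem_coe, Subgroup.normal_mul]
  constructor
  · rintro ⟨m, hm⟩
    have h1 : (m : G) * (x * n₀ * x⁻¹) * (m : G)⁻¹ = y * n₀ * y⁻¹ := congrArg Subtype.val hm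
    refine ⟨y⁻¹ * (m : G)⁻¹ * y, ?_, y⁻¹ * m * x, ?_, by group⟩
    · have := (inferInstance : N.Normal).conj_mem _ (N.inv_mem m.2) y⁻¹
      simpa using this
    · rw [SetLike.mem_coe, Subgroup.mem_centralizer_singleton_iff]
      have h2 : (n₀ : G) = y⁻¹ * ((m : G) * (x * n₀ * x⁻¹) * (m : G)⁻¹) * y := by
        rw [h1]; group
      calc y⁻¹ * m * x * (n₀ : G)
          = (y⁻¹ * ((m : G) * (x * n₀ * x⁻¹) * (m : G)⁻¹) * y) * (y⁻¹ * m * x) := by group
        _ = n₀ * (y⁻¹ * m * x) := by rw [← h2]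
  · rintro ⟨m, hm, k, hk, hmk⟩
    rw [SetLike.mem_coe, Subgroup.mem_centralizer_singleton_iff] at hk
    refine ⟨⟨y * m⁻¹ * y⁻¹, (inferInstance : N.Normal).conj_mem _ (N.inv_mem hm) y⟩, ?_⟩
    apply Subtype.ext
    show y * m⁻¹ * y⁻¹ * (x * n₀ * x⁻¹) * (y * m⁻¹ * y⁻¹)⁻¹ = y * n₀ * y⁻¹
    have hmk' : m * k = y⁻¹ * x := hmk
    have hx : x = y * (m * k) := by rw [hmk']; group
    have hk' : k * (n₀ : G) * k⁻¹ = n₀ := by rw [hk]; group
    calc y * m⁻¹ * y⁻¹ * (x * n₀ * x⁻¹) * (y * m⁻¹ * y⁻¹)⁻¹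
        = y * (k * (n₀ : G) * k⁻¹) * y⁻¹ := by rw [hx]; group
      _ = y * n₀ * y⁻¹ := by rw [hk']

variable [Fintype G]

theorem classInd_comp_eq_sum (n₀ : N) :
    (classInd (n₀ : G)) ∘ N.subtype =
      ∑ q : G ⧸ (N ⊔ cen (n₀ : G)), classInd (cjN N q.out n₀) := by
  ext n
  rw [Finset.sum_apply, Function.comp_apply, classInd_apply]
  simp only [classInd_apply]
  by_cases h : IsConj (n₀ : G) (N.subtype n)
  · rw [if_pos h]
    obtain ⟨y, hy⟩ := isConj_iff.mp h
    have hn : n = cjN N y n₀ := Subtype.ext hy.symm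
    have h1 : ∀ q : G ⧸ (N ⊔ cen (n₀ : G)), IsConj (cjN N q.out n₀) n ↔ q = QuotientGroup.mk y := by
      intro q
      rw [hn, isConj_cjN_iff, ← QuotientGroup.eq, QuotientGroup.out_eq']
      exact eq_comm
    simp only [h1]
    simp
  · rw [if_neg h]
    symm
    apply Finset.sum_eq_zero
    intro q _
    rw [if_neg]
    intro h2
    apply h
    obtain ⟨m, hm⟩ := isConj_iff.mp h2
    have h3 : (m : G) * (q.out * n₀ * q.out⁻¹) * (m : G)⁻¹ = n := congrArg Subtype.val hm
    exact isConj_iff.mpr ⟨m * q.out, by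
      show _ = (n : G)
      rw [← h3]; simp [mul_assoc]⟩

theorem centralChar_eq_sum {χ : G → ℂ} (hχ : IsIrrCharacter G χ) (θ : IrrCharacter N)
    (hcon : classInner (χ ∘ N.subtype) (θ : N → ℂ) ≠ 0) (n₀ : N) :
    centralChar χ (n₀ : G) =
      ∑ q : G ⧸ (N ⊔ cen (n₀ : G)), centralChar (θ : N → ℂ) (cjN N q.out n₀) := by
  rw [← om_classInd (irr_isClassFunction hχ),
    om_eq_of_constituent N.subtype N.subtype_injective hχ θ hcon (isClassFunction_classInd _),
    classInd_comp_eq_sum, om_sum]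
  · exact Finset.sum_congr rfl fun q _ => om_classInd (irr_isClassFunction θ.2) _
  · intro t ht
    rw [classInd_apply, if_neg]
    intro h
    apply ht
    obtain ⟨y, hy⟩ := isConj_iff.mp h
    exact ⟨⟨t, hy ▸ (inferInstance : N.Normal).conj_mem _ n₀.2 y⟩, rfl⟩

variable {M : Ideal AlgInt} {p : ℕ}

theorem comp_cjN_mem {c : Set (IrrCharacter N)} {x : G} (hst : StabilizesBlock N c x⁻¹)
    {θ : IrrCharacter N} (hθ : θ ∈ c) : irrMap (cjN N x) θ ∈ c := by
  obtain ⟨θ', hθ', h⟩ := hst.2 θ hθ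
  have : irrMap (cjN N x) θ = θ' := by
    apply Subtype.ext
    ext k
    rw [irrMap_apply]
    symm
    apply h
    rw [cjN_coe]
    group
  rw [this]
  exact hθ'

/-- the central character of `χ` at `n₀ ∈ N` is congruent to `|G : N C_G(n₀)|` times the one of a
constituent `θ` of `χ_N` lying in a `G`-stable block. -/
theorem centralChar_sub_index_mul [M.IsPrime] {c : Set (IrrCharacter N)} (hc : IsPBlock M c)
    (hst : ∀ x : G, StabilizesBlock N c x) {θ : IrrCharacter N} (hθ : θ ∈ c) {χ : G → ℂ}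
    (hχ : IsIrrCharacter G χ) (hcon : classInner (χ ∘ N.subtype) (θ : N → ℂ) ≠ 0) (n₀ : N) :
    MemLocalIdeal M (centralChar χ (n₀ : G) -
      ((N ⊔ cen (n₀ : G)).index : ℂ) * centralChar (θ : N → ℂ) n₀) := by
  rw [centralChar_eq_sum N hχ θ hcon n₀]
  have h1 : ((N ⊔ cen (n₀ : G)).index : ℂ) * centralChar (θ : N → ℂ) n₀ =
      ∑ _q : G ⧸ (N ⊔ cen (n₀ : G)), centralChar (θ : N → ℂ) n₀ := by
    rw [Finset.sum_const, Finset.card_univ, nsmul_eq_mul, Subgroup.index, Nat.card_eq_fintype_card]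
  rw [h1, ← Finset.sum_sub_distrib]
  apply MemLocalIdeal.sum
  intro q _
  have h2 := IsPBlock.sameBlock hc (comp_cjN_mem N (hst q.out⁻¹) hθ) hθ n₀
  rwa [irrMap_coe, centralChar_comp] at h2

end classes

section grp
variable {G : Type*} [Group G] {p : ℕ}

theorem card_inf_mul_relIndex (N K : Subgroup G) :
    Nat.card (K ⊓ N : Subgroup G) * N.relIndex K = Nat.card K := by
  rw [← Subgroup.relIndex_bot_left, ← Subgroup.relIndex_bot_left, ← Subgroup.inf_relIndex_left K N]
  exact Subgroup.relIndex_mul_relIndex _ _ _ bot_le inf_le_left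

theorem sylow_of_sup_eq_top [Finite G] [Fact p.Prime] {N C P : Subgroup G} [N.Normal] {k : ℕ}
    (hN : N.index = p ^ k) (hNC : N ⊔ C = ⊤) (hP : IsSylIn p C P) :
    N ⊔ P = ⊤ ∧ IsSylIn p (C ⊓ N) (P ⊓ N) := by
  have hp : p.Prime := Fact.out
  have h1 : N.relIndex C = p ^ k := by
    rw [← Subgroup.relIndex_sup_left, hNC, Subgroup.relIndex_top_right, hN]
  have h2 := card_inf_mul_relIndex N C
  have h3 := card_inf_mul_relIndex N P
  rw [h1] at h2
  have hcP := hP.card
  have hpos : Nat.card (C ⊓ N : Subgroup G) ≠ 0 := Nat.card_pos.ne'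
  rw [← h2, Nat.factorization_mul hpos (pow_ne_zero _ hp.ne_zero), Finsupp.add_apply,
    hp.factorization_pow, Finsupp.single_eq_same, pow_add] at hcP
  -- bounds
  obtain ⟨j, hj⟩ : ∃ j, Nat.card (P ⊓ N : Subgroup G) = p ^ j :=
    IsPGroup.iff_card.mp (hP.isPGroup.to_le inf_le_left)
  have h4 : j ≤ (Nat.card (C ⊓ N : Subgroup G)).factorization p := by
    rw [← hp.pow_dvd_iff_le_factorization hpos, ← hj]
    exact Subgroup.card_dvd_of_le (inf_le_inf_right _ hP.le)
  have h5 : N.relIndex P ∣ p ^ k := hN ▸ Subgroup.relIndex_dvd_index_of_normal N P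
  obtain ⟨i, hi, hi'⟩ := (Nat.dvd_prime_pow hp).mp h5
  rw [hj, hi', hcP, ← pow_add, ← pow_add] at h3
  have h6 := Nat.pow_right_injective hp.two_le h3
  have hik : i = k := by omega
  have hja : j = (Nat.card (C ⊓ N : Subgroup G)).factorization p := by omega
  constructor
  · rw [← Subgroup.index_eq_one]
    have h7 := Subgroup.relIndex_mul_index (le_sup_left : N ≤ N ⊔ P)
    rw [Subgroup.relIndex_sup_left, hi', hik, hN] at h7
    exact Nat.eq_of_mul_eq_mul_left (pow_pos hp.pos k) (by rw [h7, mul_one])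
  · rw [isSylIn_iff]
    exact ⟨inf_le_inf_right _ hP.le, by rw [hj, hja]⟩

end grp

section pindex

variable {G : Type*} [Group G] [Fintype G] (N : Subgroup G) [N.Normal] {M : Ideal AlgInt} {p : ℕ}

omit [N.Normal] in
theorem mem_iff_of_over {B : Set (IrrCharacter G)} {c : Set (IrrCharacter N)}
    (hBc : ∀ g, blockCoeff B g = subgroupBlockCoeff N c g) {θ : IrrCharacter N}
    {ψ : IrrCharacter G} (hcon : classInner ((ψ : G → ℂ) ∘ N.subtype) (θ : N → ℂ) ≠ 0) :
    ψ ∈ B ↔ θ ∈ c := by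
  have h1 : om (ψ : G → ℂ) (coef (B.indicator 1)) = om (θ : N → ℂ) (coef (c.indicator 1)) := by
    rw [om_eq_of_constituent N.subtype N.subtype_injective ψ.2 θ hcon (isClassFunction_coef _)]
    · congr 1
      ext n
      rw [Function.comp_apply, ← blockCoeff_eq_coef, ← blockCoeff_eq_coef, hBc]
      exact sbc_coe N c n
    · intro t ht
      rw [← blockCoeff_eq_coef, hBc, sbc_not_mem]
      intro h
      exact ht ⟨⟨t, h⟩, rfl⟩
  rw [om_coef, om_coef] at h1
  by_cases hψ : ψ ∈ B <;> by_cases hθ : θ ∈ c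
  · exact ⟨fun _ => hθ, fun _ => hψ⟩
  · rw [Set.indicator_of_mem hψ, Set.indicator_of_notMem hθ] at h1
    exact absurd h1 one_ne_zero
  · rw [Set.indicator_of_notMem hψ, Set.indicator_of_mem hθ] at h1
    exact absurd h1.symm one_ne_zero
  · exact ⟨fun h => absurd h hψ, fun h => absurd h hθ⟩

/-- `N` normal of `p`-power index, `c` a `G`-stable block of `N`, `B` the block of `G` with the
same idempotent, `P` a defect group of `B`: then `G = N P` and `P ∩ N` is a defect group of `c`. -/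
theorem stable_pindex_defect (hM : IsPModular p M) {k : ℕ} (hN : N.index = p ^ k)
    {c : Set (IrrCharacter N)} (hc : IsPBlock M c) (hst : ∀ x : G, StabilizesBlock N c x)
    {B : Set (IrrCharacter G)} (hBc : ∀ g, blockCoeff B g = subgroupBlockCoeff N c g)
    {P : Subgroup G} (hP : IsDefectGroup p M B P) :
    N ⊔ P = ⊤ ∧ IsDefectGroup p M c ((P ⊓ N).subgroupOf N) := by
  have := IsPModular.isPrime hM
  have : Fact p.Prime := ⟨hM.1⟩
  obtain ⟨g, hg, hPg⟩ := isDefectGroup_iff.mp hP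
  have hgN : g ∈ N := by
    by_contra hcon
    apply hg.2.1
    rw [hBc, sbc_not_mem _ _ hcon]
    exact memLocalIdeal_zero
  obtain ⟨n₀, hn₀⟩ : ∃ n₀ : N, (n₀ : G) = g := ⟨⟨g, hgN⟩, rfl⟩
  have key : ∀ θ ∈ c, ¬ MemLocalIdeal M
      (((N ⊔ cen (n₀ : G)).index : ℂ) * centralChar (θ : N → ℂ) n₀) := by
    intro θ hθ
    obtain ⟨ψ, hψ⟩ := exists_irr_over N.subtype N.subtype_injective θ
    have hψB : ψ ∈ B := (mem_iff_of_over N hBc hψ).mpr hθ
    have h1 := centralChar_sub_index_mul N hc hst hθ ψ.2 hψ n₀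
    rw [← memLocalIdeal_congr h1, hn₀]
    exact hg.2.2 ψ hψB
  have htop : N ⊔ cen (n₀ : G) = ⊤ := by
    rw [← Subgroup.index_eq_one]
    obtain ⟨θ, hθ⟩ := IsPBlock.nonempty hc
    have h1 : (N ⊔ cen (n₀ : G)).index ∣ p ^ k := hN ▸ Subgroup.index_dvd_of_le le_sup_left
    obtain ⟨i, -, hi⟩ := (Nat.dvd_prime_pow hM.1).mp h1
    rcases Nat.eq_zero_or_pos i with h0 | h0
    · rw [hi, h0, pow_zero]
    · exfalso
      apply key θ hθ
      apply MemLocalIdeal.mul_right _
        (memLocalRing_of_isIntegral (centralChar_isIntegral θ.2 n₀))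
      rw [memLocalIdeal_natCast_iff hM, hi]
      exact dvd_pow_self p h0.ne'
  rw [hn₀] at htop
  obtain ⟨h1, h2⟩ := sylow_of_sup_eq_top hN htop hPg
  refine ⟨h1, isDefectGroup_iff.mpr ⟨n₀, ⟨?_, ?_, ?_⟩, ?_⟩⟩
  · rw [← sbc_coe N c n₀, ← hBc, hn₀]
    exact hg.1
  · rw [← sbc_coe N c n₀, ← hBc, hn₀]
    exact hg.2.1
  · intro θ hθ
    have := key θ hθ
    rwa [hn₀, htop, Subgroup.index_top, Nat.cast_one, one_mul] at this
  · have hcopy : IsCopy (cen n₀) (cen g ⊓ N) := by
      intro x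
      rw [Subgroup.mem_inf, Subgroup.mem_centralizer_singleton_iff]
      constructor
      · rintro ⟨hx1, hx2⟩
        refine ⟨hx2, Subgroup.mem_centralizer_singleton_iff.mpr (Subtype.ext ?_)⟩
        show x * (n₀ : G) = n₀ * x
        rw [hn₀, hx1]
      · rintro ⟨hx2, hx1⟩
        have := congrArg Subtype.val (Subgroup.mem_centralizer_singleton_iff.mp hx1)
        refine ⟨?_, hx2⟩
        rw [← hn₀]
        exact this
    rw [isSylIn_iff, card_subgroupOf_inf, hcopy.card_eq]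
    refine ⟨?_, h2.card⟩
    intro x hx
    exact (hcopy.coe_mem_iff x).mp (h2.le (Subgroup.mem_subgroupOf.mp hx))

theorem exists_block_of_stable_pindex (hM : IsPModular p M) {k : ℕ} (hN : N.index = p ^ k)
    {c : Set (IrrCharacter N)} (hc : IsPBlock M c) (hst : ∀ x : G, StabilizesBlock N c x) :
    ∃ B : Set (IrrCharacter G), IsPBlock M B ∧ ∀ g, blockCoeff B g = subgroupBlockCoeff N c g := by
  have := IsPModular.isPrime hM
  obtain ⟨F, hF, hFc⟩ := exists_block_of_stable (T := ⊤) (le_top : N ≤ ⊤) hc (fun x _ => hst x)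
    (by
      intro F hF g hg
      rw [sbc_mem _ _ (Subgroup.mem_top g), blockCoeff_eq_coef]
      apply coef_indicator_eq_zero hM hF
      rw [Subgroup.orderOf_mk]
      by_contra hcon
      exact hg (mem_of_index_pow hM.1 N hN hcon))
  refine ⟨blockMap Subgroup.topEquiv.symm F, isPBlock_blockMap _ hF, fun g => ?_⟩
  rw [blockCoeff_blockMap, ← hFc, ← sbc_coe]
  rfl

end pindex

section rel

variable {G : Type*} [Group G] [Fintype G] {M : Ideal AlgInt} {p : ℕ}

/-- relative version: `C` normal of `p`-power index in `L`, `c` an `L`-stable block of `C`, `F` the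
block of `L` with the same idempotent, `D` a defect group of `F`: then `L = C D`. -/
theorem sup_defectGroup_eq_of_relIndex (hM : IsPModular p M) {L C : Subgroup G} (hCL : C ≤ L)
    (hLN : L ≤ Subgroup.normalizer (C : Set G)) {k : ℕ} (hidx : C.relIndex L = p ^ k)
    {c : Set (IrrCharacter C)} (hc : IsPBlock M c) (hst : L ≤ stabSub C c)
    {F : Set (IrrCharacter L)} (hFc : subgroupBlockCoeff L F = subgroupBlockCoeff C c)
    {D : Subgroup L} (hD : IsDefectGroup p M F D) : C ⊔ D.map L.subtype = L := by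
  have hn : (C.subgroupOf L).Normal := (Subgroup.normal_subgroupOf_iff_le_normalizer hCL).mpr hLN
  have hcopy : IsCopy (C.subgroupOf L) C := isCopy_subgroupOf hCL
  obtain ⟨c', rfl⟩ := exists_upSet_eq hcopy c
  have h1 := (stable_pindex_defect (C.subgroupOf L) hM hidx ((isPBlock_upSet_iff hcopy).mp hc)
    (fun x => (stabilizesBlock_upSet_iff hcopy x).mp (hst x.2))
    (fun g => by rw [← sbc_upSet_coe hcopy, ← hFc, sbc_coe]) hD).1
  have h2 := congrArg (Subgroup.map L.subtype) h1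
  rwa [Subgroup.map_sup, ← hcopy.eq_map, ← MonoidHom.range_eq_map, Subgroup.range_subtype] at h2

end rel

end Cfsg.Agent.Lib.Helper24
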