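import Cfsg.Agent.Lib.Helper24.SubPair

/-!
# Stabilizers of Brauer pairs; abelian defect groups
-/

set_option autoImplicit false

namespace Cfsg.Agent.Lib.Helper24

open Cfsg Cfsg.Agent.Lib.Helper2 Cfsg.Agent.Lib.Helper6
open scoped ComplexConjugate Classical

attribute [local instance] irrFintype

section

variable {G : Type*} [Group G] [Fintype G] {M : Ideal AlgInt} {p : ℕ}

theorem cjIdx_eq_self_iff {P : Subgroup G} {e : Set (IrrCharacter (cz P))} {z : G} :
    cjIdx z ⟨P, e⟩ = (⟨P, e⟩ : BrauerPairIdx G) ↔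
      z ∈ Subgroup.normalizer (P : Set G) ∧ StabilizesBlock (cz P) e z := by
  constructor
  · intro h
    have h1 : P.map (MulAut.conj z).toMonoidHom = P := congrArg Sigma.fst h
    have h2 : IsConjSub z P P := by
      have := isConjSub_map z P
      rwa [h1] at this
    have h3 := congrArg (fun a : BrauerPairIdx G => subgroupBlockCoeff (cz a.1) a.2) h
    simp only [cjIdx, sbc_conjBlock] at h3
    exact ⟨h2.mem_normalizer, (stabilizesBlock_iff _ _ _).mpr ⟨h2.centralizer.mem_normalizer, h3⟩⟩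
  · rintro ⟨h1, h2⟩
    exact cjIdx_eq (isConjSub_of_mem_normalizer h1) ((stabilizesBlock_iff _ _ _).mp h2).2.symm

omit [Fintype G] in
theorem card_cjIdx (x : G) (a : BrauerPairIdx G) : Nat.card (cjIdx x a).1 = Nat.card a.1 :=
  (isConjSub_map x a.1).card_eq

/-- a conjugate of a pair lying below the pair is the pair -/
theorem cjIdx_eq_of_PLE (hM : IsPModular p M) {a : BrauerPairIdx G} {x : G}
    (h : PLE p M (cjIdx x a) a) : cjIdx x a = a := by
  have := IsPModular.isPrime hM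
  exact PLE.eq_of_eq h (Subgroup.eq_of_le_of_card_ge (PLE.le h) (card_cjIdx x a).ge)

theorem card_le_of_isBrauerPairOf (hM : IsPModular p M) {B : Set (IrrCharacter G)}
    {P R : Subgroup G} {e : Set (IrrCharacter (cz P))} {g : Set (IrrCharacter (cz R))}
    (hmax : IsMaximalBrauerPair p M B P e) (hRg : IsBrauerPairOf p M B R g) :
    Nat.card R ≤ Nat.card P := by
  obtain ⟨x, hx⟩ := exists_conj_le_maximal hM hmax hRg
  rw [← (isConjSub_map x R).card_eq]
  exact Subgroup.card_le_of_le (PLE.le hx)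

/-- an element stabilizing `(P, e)` and normalizing `Q` stabilizes the pair `(Q, f) ≤ (P, e)` -/
theorem stabilizes_of_PLE (hM : IsPModular p M) {P Q : Subgroup G}
    {e : Set (IrrCharacter (cz P))} {f : Set (IrrCharacter (cz Q))}
    (hle : SubpairLE p M Q f P e) {y : G} (hyP : y ∈ Subgroup.normalizer (P : Set G))
    (hye : StabilizesBlock (cz P) e y) (hyQ : y ∈ Subgroup.normalizer (Q : Set G)) :
    StabilizesBlock (cz Q) f y := by
  have h1 : PLE p M (cjIdx y ⟨Q, f⟩) (cjIdx y ⟨P, e⟩) := PLE_cjIdx y hle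
  rw [cjIdx_eq_self_iff.mpr ⟨hyP, hye⟩] at h1
  have hc := isConjSub_of_mem_normalizer hyQ
  obtain ⟨f', hf'⟩ : ∃ f' : Set (IrrCharacter (cz Q)), f' = conjSet hc.centralizer f := ⟨_, rfl⟩
  have h2 : cjIdx y ⟨Q, f⟩ = ⟨Q, f'⟩ := cjIdx_eq hc (by rw [hf', sbc_conjSet])
  rw [h2] at h1
  have h3 : f' = f := PLE_unique hM _ ⟨P, e⟩ Q f' f rfl h1 hle
  rw [h3] at h2
  exact (cjIdx_eq_self_iff.mp h2).2

/-- If `C_P(Q) Q` has the order of `P` (for example `P` abelian) then `C_P(Q)` is a defect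
group of `f`. -/
theorem isDefectGroup_centralizer_of_le (hM : IsPModular p M) {B : Set (IrrCharacter G)}
    {P Q : Subgroup G} {e : Set (IrrCharacter (cz P))} {f : Set (IrrCharacter (cz Q))}
    (hmax : IsMaximalBrauerPair p M B P e) (hle : SubpairLE p M Q f P e) (hPQ : P ≤ cz Q) :
    IsDefectGroup p M f (P.subgroupOf (cz Q)) := by
  have : Fact p.Prime := ⟨hM.1⟩
  have hQf : IsBrauerPairOf p M B Q f := (PLE.isBrauerPairOf_iff hM hle hmax.1.2.1).mp hmax.1
  obtain ⟨D, hD, hDle⟩ := exists_defectGroup_ge_centralizer hM hmax.1.1 hle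
  rw [inf_eq_left.mpr hPQ] at hDle
  obtain ⟨R, hR, g, hg⟩ : ∃ R : Subgroup G, R = Q ⊔ D.map (cz Q).subtype ∧
      ∃ g : Set (IrrCharacter (cz R)), IsNormalSubpair p M Q f R g :=
    ⟨_, rfl, exists_overpair_of_defectGroup hM hQf.1 (Subgroup.centralizer_le_normalizer _)
      (le_stabSub _ _) rfl hD⟩
  have hRg : IsBrauerPairOf p M B R g :=
    (isBrauerPairOf_iff_of_normalSubpair hM hg hmax.1.2.1).mpr hQf
  have h1 := card_le_of_isBrauerPairOf hM hmax hRg
  have h2 : Nat.card D ≤ Nat.card R := by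
    rw [← Subgroup.card_map_of_injective (Subgroup.subtype_injective (cz Q))]
    exact Subgroup.card_le_of_le (hR ▸ le_sup_right)
  have h3 : Nat.card (P.subgroupOf (cz Q)) = Nat.card P :=
    Nat.card_congr (Subgroup.subgroupOfEquivOfLe hPQ).toEquiv
  rw [Subgroup.eq_of_le_of_card_ge hDle (by omega)]
  exact hD

/-- `N_G(Q, f) = (N_G(P, e) ∩ N_G(Q)) C_G(Q)` when `P ≤ C_G(Q)`. -/
theorem exists_factorization_of_le (hM : IsPModular p M) {B : Set (IrrCharacter G)}
    {P Q : Subgroup G} {e : Set (IrrCharacter (cz P))} {f : Set (IrrCharacter (cz Q))}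
    (hmax : IsMaximalBrauerPair p M B P e) (hle : SubpairLE p M Q f P e) (hPQ : P ≤ cz Q)
    {x : G} (hxQ : x ∈ Subgroup.normalizer (Q : Set G)) (hxf : StabilizesBlock (cz Q) f x) :
    ∃ y c : G, y ∈ Subgroup.normalizer (P : Set G) ∧ StabilizesBlock (cz P) e y ∧ c ∈ cz Q ∧
      x = y * c := by
  have hD := isDefectGroup_centralizer_of_le hM hmax hle hPQ
  have hn : IsNormalSubpair p M Q f P e :=
    rel_of_PLE_of_normal hM hle hmax.1.1 (hPQ.trans (Subgroup.centralizer_le_normalizer _))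
  have hn' : NormalSubpairRel p M (cjIdx x ⟨Q, f⟩) (cjIdx x ⟨P, e⟩) := rel_cjIdx x hn
  rw [cjIdx_eq_self_iff.mpr ⟨hxQ, hxf⟩] at hn'
  have hPx : (cjIdx x ⟨P, e⟩).1 ≤ cz Q :=
    (isConjSub_map x P).mono (isConjSub_of_mem_normalizer hxQ).centralizer hPQ
  obtain ⟨c, hc, hle'⟩ := exists_conj_le_of_defectGroup hM (H := cz Q) le_rfl hn.1.2 rfl hn' hn
    hPx hPQ hD
  have h1 : cjIdx c (cjIdx x ⟨P, e⟩) = cjIdx (c * x) ⟨P, e⟩ := (cjIdx_mul c x _).symm
  change PLE p M (cjIdx c (cjIdx x ⟨P, e⟩)) ⟨P, e⟩ at hle'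
  rw [h1] at hle'
  obtain ⟨h2, h3⟩ := cjIdx_eq_self_iff.mp (cjIdx_eq_of_PLE hM hle')
  refine ⟨c * x, (c * x)⁻¹ * c⁻¹ * (c * x), h2, h3, ?_, by group⟩
  have h4 : c * x ∈ Subgroup.normalizer (Q : Set G) :=
    Subgroup.mul_mem _ (Subgroup.centralizer_le_normalizer _ hc) hxQ
  exact ((isConjSub_of_mem_normalizer h4).centralizer c⁻¹).mp (Subgroup.inv_mem _ hc)

end

end Cfsg.Agent.Lib.Helper24
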