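import Cfsg.Agent.Lib.Helper24.BlockFusion

/-!
# Subgroups of a subgroup `H` and their copies in `G`; transport of blocks and Brauer pairs
-/

set_option autoImplicit false

namespace Cfsg.Agent.Lib.Helper24

open Cfsg Cfsg.Agent.Lib.Helper2 Cfsg.Agent.Lib.Helper6
open scoped ComplexConjugate Classical

attribute [local instance] irrFintype

section group

variable {G : Type*} [Group G] {H : Subgroup G}

/-- `K` is the image in `G` of the subgroup `K'` of `H` -/
def IsCopy (K' : Subgroup H) (K : Subgroup G) : Prop :=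
  ∀ g : G, g ∈ K ↔ ∃ h : g ∈ H, (⟨g, h⟩ : H) ∈ K'

theorem IsCopy.le {K' : Subgroup H} {K : Subgroup G} (h : IsCopy K' K) : K ≤ H :=
  fun g hg => ((h g).mp hg).1

theorem IsCopy.coe_mem_iff {K' : Subgroup H} {K : Subgroup G} (h : IsCopy K' K) (x : H) :
    (x : G) ∈ K ↔ x ∈ K' := by
  rw [h]
  exact ⟨fun ⟨_, h2⟩ => h2, fun h2 => ⟨x.2, h2⟩⟩

theorem isCopy_subgroupOf {K : Subgroup G} (hKH : K ≤ H) : IsCopy (K.subgroupOf H) K := by
  intro g
  exact ⟨fun hg => ⟨hKH hg, Subgroup.mem_subgroupOf.mpr hg⟩,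
    fun ⟨_, h2⟩ => Subgroup.mem_subgroupOf.mp h2⟩

theorem isCopy_map (K' : Subgroup H) : IsCopy K' (K'.map H.subtype) := by
  intro g
  constructor
  · rintro ⟨x, hx, rfl⟩
    exact ⟨x.2, hx⟩
  · rintro ⟨h, h2⟩
    exact ⟨⟨g, h⟩, h2, rfl⟩

theorem IsCopy.eq_map {K' : Subgroup H} {K : Subgroup G} (h : IsCopy K' K) :
    K = K'.map H.subtype := by
  ext g
  rw [h g, isCopy_map K' g]

theorem IsCopy.eq_subgroupOf {K' : Subgroup H} {K : Subgroup G} (h : IsCopy K' K) :
    K' = K.subgroupOf H := by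
  ext x
  rw [Subgroup.mem_subgroupOf, h.coe_mem_iff]

theorem IsCopy.unique {K' : Subgroup H} {K₁ K₂ : Subgroup G} (h₁ : IsCopy K' K₁)
    (h₂ : IsCopy K' K₂) : K₁ = K₂ := by rw [h₁.eq_map, h₂.eq_map]

/-- the isomorphism from the copy to the subgroup of `H` -/
def copyIso {K' : Subgroup H} {K : Subgroup G} (h : IsCopy K' K) : K ≃* K' where
  toFun k := ⟨⟨k.1, h.le k.2⟩, (h.coe_mem_iff ⟨k.1, h.le k.2⟩).mp k.2⟩
  invFun k := ⟨k.1.1, (h.coe_mem_iff k.1).mpr k.2⟩
  left_inv _ := rfl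
  right_inv _ := rfl
  map_mul' _ _ := rfl

theorem copyIso_coe {K' : Subgroup H} {K : Subgroup G} (h : IsCopy K' K) (k : K) :
    ((copyIso h k : H) : G) = k := rfl

theorem IsCopy.card_eq {K' : Subgroup H} {K : Subgroup G} (h : IsCopy K' K) :
    Nat.card K' = Nat.card K := (Nat.card_congr (copyIso h).toEquiv).symm

theorem IsCopy.isPGroup_iff {K' : Subgroup H} {K : Subgroup G} (h : IsCopy K' K) {p : ℕ} :
    IsPGroup p K' ↔ IsPGroup p K :=
  ⟨fun h1 => h1.of_equiv (copyIso h).symm, fun h1 => h1.of_equiv (copyIso h)⟩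

theorem IsCopy.le_iff {K₁' K₂' : Subgroup H} {K₁ K₂ : Subgroup G} (h₁ : IsCopy K₁' K₁)
    (h₂ : IsCopy K₂' K₂) : K₁' ≤ K₂' ↔ K₁ ≤ K₂ := by
  constructor
  · intro h g hg
    obtain ⟨hH, h2⟩ := (h₁ g).mp hg
    exact (h₂ g).mpr ⟨hH, h h2⟩
  · intro h x hx
    exact (h₂.coe_mem_iff x).mp (h ((h₁.coe_mem_iff x).mpr hx))

theorem IsCopy.mem_normalizer_iff {K' : Subgroup H} {K : Subgroup G} (h : IsCopy K' K) (x : H) :
    x ∈ Subgroup.normalizer (K' : Set H) ↔ (x : G) ∈ Subgroup.normalizer (K : Set G) := by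
  rw [Subgroup.mem_normalizer_iff, Subgroup.mem_normalizer_iff]
  constructor
  · intro hx g
    by_cases hg : g ∈ H
    · have := hx ⟨g, hg⟩
      rw [← h.coe_mem_iff, ← h.coe_mem_iff] at this
      exact this
    · constructor
      · intro h1
        exact absurd (h.le h1) hg
      · intro h1
        exfalso
        apply hg
        have h2 := H.mul_mem (H.mul_mem (H.inv_mem x.2) (h.le h1)) x.2
        have h3 : (x : G)⁻¹ * ((x : G) * g * (x : G)⁻¹) * x = g := by group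
        rwa [h3] at h2
  · intro hx y
    rw [← h.coe_mem_iff, ← h.coe_mem_iff]
    exact hx y

theorem IsCopy.mem_centralizer_iff {R' : Subgroup H} {R : Subgroup G} (h : IsCopy R' R) (x : H) :
    x ∈ cz R' ↔ (x : G) ∈ cz R := by
  rw [Subgroup.mem_centralizer_iff, Subgroup.mem_centralizer_iff]
  constructor
  · intro hx g hg
    obtain ⟨hH, h2⟩ := (h g).mp hg
    exact congrArg Subtype.val (hx ⟨g, hH⟩ h2)
  · intro hx y hy
    exact Subtype.ext (hx y ((h.coe_mem_iff y).mpr hy))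

theorem IsCopy.centralizer {R' : Subgroup H} {R : Subgroup G} (h : IsCopy R' R)
    (hC : cz R ≤ H) : IsCopy (cz R') (cz R) := by
  intro g
  constructor
  · intro hg
    exact ⟨hC hg, (h.mem_centralizer_iff ⟨g, hC hg⟩).mpr hg⟩
  · rintro ⟨hH, h2⟩
    exact (h.mem_centralizer_iff ⟨g, hH⟩).mp h2

theorem IsCopy.conj {K' : Subgroup H} {K : Subgroup G} (h : IsCopy K' K) (x : H) :
    IsCopy (K'.map (MulAut.conj x).toMonoidHom) (K.map (MulAut.conj (x : G)).toMonoidHom) := by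
  intro g
  rw [isConjSub_map (x : G) K g, h]
  constructor
  · rintro ⟨hH, h2⟩
    have hg : g ∈ H := by
      have h3 := H.mul_mem (H.mul_mem x.2 hH) (H.inv_mem x.2)
      have h4 : (x : G) * ((x : G)⁻¹ * g * x) * (x : G)⁻¹ = g := by group
      rwa [h4] at h3
    exact ⟨hg, (isConjSub_map x K' ⟨g, hg⟩).mpr h2⟩
  · rintro ⟨hH, h2⟩
    exact ⟨H.mul_mem (H.mul_mem (H.inv_mem x.2) hH) x.2, (isConjSub_map x K' ⟨g, hH⟩).mp h2⟩

theorem cjF_extendByZero (x : H) (φ : H → ℂ) :
    cjF (x : G) (extendByZero H φ) = extendByZero H (cjF x φ) := by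
  ext g
  rw [cjF_apply]
  by_cases hg : g ∈ H
  · have h1 : (x : G)⁻¹ * g * x ∈ H := H.mul_mem (H.mul_mem (H.inv_mem x.2) hg) x.2
    rw [extendByZero_mem H _ hg, extendByZero_mem H _ h1, cjF_apply]
    rfl
  · rw [extendByZero_not_mem H _ hg, extendByZero_not_mem]
    intro h1
    apply hg
    have h3 := H.mul_mem (H.mul_mem x.2 h1) (H.inv_mem x.2)
    have h4 : (x : G) * ((x : G)⁻¹ * g * x) * (x : G)⁻¹ = g := by group
    rwa [h4] at h3

end group

section blocks

variable {G : Type*} [Group G] [Fintype G] {H : Subgroup G} {M : Ideal AlgInt} {p : ℕ}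

/-- transport of a set of irreducible characters from a subgroup of `H` to its copy in `G` -/
def upSet {K' : Subgroup H} {K : Subgroup G} (h : IsCopy K' K) (b' : Set (IrrCharacter K')) :
    Set (IrrCharacter K) := blockMap (copyIso h) b'

theorem sbc_upSet {K' : Subgroup H} {K : Subgroup G} (h : IsCopy K' K)
    (b' : Set (IrrCharacter K')) :
    subgroupBlockCoeff K (upSet h b') = extendByZero H (subgroupBlockCoeff K' b') := by
  ext g
  by_cases hg : g ∈ K
  · rw [sbc_mem _ _ hg, extendByZero_mem H _ (h.le hg), upSet, blockCoeff_blockMap,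
      sbc_mem _ _ ((h.coe_mem_iff ⟨g, h.le hg⟩).mp hg)]
    rfl
  · rw [sbc_not_mem _ _ hg]
    by_cases hH : g ∈ H
    · rw [extendByZero_mem H _ hH, sbc_not_mem]
      intro h2
      exact hg ((h.coe_mem_iff ⟨g, hH⟩).mpr h2)
    · rw [extendByZero_not_mem H _ hH]

theorem sbc_upSet_coe {K' : Subgroup H} {K : Subgroup G} (h : IsCopy K' K)
    (b' : Set (IrrCharacter K')) (x : H) :
    subgroupBlockCoeff K (upSet h b') x = subgroupBlockCoeff K' b' x := by
  rw [sbc_upSet, extendByZero_coe]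

theorem exists_upSet_eq {K' : Subgroup H} {K : Subgroup G} (h : IsCopy K' K)
    (b : Set (IrrCharacter K)) : ∃ b' : Set (IrrCharacter K'), upSet h b' = b := by
  refine ⟨blockMap (copyIso h).symm b, ?_⟩
  apply sbc_injective
  ext g
  by_cases hg : g ∈ K
  · rw [sbc_mem _ _ hg, sbc_mem _ _ hg, upSet, blockCoeff_blockMap, blockCoeff_blockMap]
    rfl
  · rw [sbc_not_mem _ _ hg, sbc_not_mem _ _ hg]

theorem upSet_injective {K' : Subgroup H} {K : Subgroup G} (h : IsCopy K' K)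
    {b₁ b₂ : Set (IrrCharacter K')} (hb : upSet h b₁ = upSet h b₂) : b₁ = b₂ :=
  (irrMap (copyIso h)).injective.image_injective hb

theorem isPBlock_upSet_iff {K' : Subgroup H} {K : Subgroup G} (h : IsCopy K' K)
    {b' : Set (IrrCharacter K')} : IsPBlock M (upSet h b') ↔ IsPBlock M b' := by
  refine ⟨fun hb => ?_, fun hb => isPBlock_blockMap _ hb⟩
  have h1 := isPBlock_blockMap (copyIso h).symm hb
  have h2 : blockMap (copyIso h).symm (upSet h b') = b' := by
    apply upSet_injective h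
    apply sbc_injective
    ext g
    by_cases hg : g ∈ K
    · rw [sbc_mem _ _ hg, sbc_mem _ _ hg, upSet, upSet, blockCoeff_blockMap, blockCoeff_blockMap,
        blockCoeff_blockMap, blockCoeff_blockMap]
      rfl
    · rw [sbc_not_mem _ _ hg, sbc_not_mem _ _ hg]
  rwa [h2] at h1

theorem stabilizesBlock_upSet_iff {K' : Subgroup H} {K : Subgroup G} (h : IsCopy K' K)
    {b' : Set (IrrCharacter K')} (x : H) :
    StabilizesBlock K (upSet h b') (x : G) ↔ StabilizesBlock K' b' x := by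
  rw [stabilizesBlock_iff, stabilizesBlock_iff, h.mem_normalizer_iff, sbc_upSet,
    cjF_extendByZero]
  exact and_congr_right fun _ => ⟨fun h1 => ext_injective H h1, fun h1 => by rw [h1]⟩

theorem brauerOmega_up {R' : Subgroup H} {R : Subgroup G} (hc : IsCopy (cz R') (cz R))
    (β : G → ℂ) (ξ' : cz R' → ℂ) :
    brauerOmega R β (ξ' ∘ copyIso hc) = brauerOmega R' (fun x : H => β x) ξ' := by
  unfold brauerOmega
  rw [finsum_eq_sum_of_fintype, finsum_eq_sum_of_fintype]
  exact Fintype.sum_equiv (copyIso hc).toEquiv _ _ fun c => rfl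

theorem forall_upSet_iff {K' : Subgroup H} {K : Subgroup G} (h : IsCopy K' K)
    {b' : Set (IrrCharacter K')} {C : (K → ℂ) → Prop} :
    (∀ ξ ∈ upSet h b', C (ξ : K → ℂ)) ↔ ∀ ξ' ∈ b', C ((ξ' : K' → ℂ) ∘ copyIso h) := by
  constructor
  · intro h1 ξ' hξ'
    exact h1 (irrMap (copyIso h) ξ') ((mem_blockMap _ _ _).mpr hξ')
  · rintro h1 _ ⟨ξ', hξ', rfl⟩
    exact h1 ξ' hξ'

end blocks

end Cfsg.Agent.Lib.Helper24
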