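import Cfsg.Agent.Lib.Helper24.SubCopy

/-!
# Brauer pairs of a subgroup `H` and Brauer pairs of `G`
-/

set_option autoImplicit false

namespace Cfsg.Agent.Lib.Helper24

open Cfsg Cfsg.Agent.Lib.Helper2 Cfsg.Agent.Lib.Helper6
open scoped ComplexConjugate Classical

attribute [local instance] irrFintype

section pairs

variable {G : Type*} [Group G] [Fintype G] {H : Subgroup G} {M : Ideal AlgInt} {p : ℕ}

theorem isBrauerPair_up_iff {R' : Subgroup H} {R : Subgroup G} (c : IsCopy R' R)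
    (hc : IsCopy (cz R') (cz R)) {g' : Set (IrrCharacter (cz R'))} :
    IsBrauerPair p M R (upSet hc g') ↔ IsBrauerPair p M R' g' := by
  unfold IsBrauerPair
  rw [c.isPGroup_iff, isPBlock_upSet_iff]

theorem occurs_up_iff {R' : Subgroup H} {R : Subgroup G}
    (hc : IsCopy (cz R') (cz R)) {g' : Set (IrrCharacter (cz R'))} (β : G → ℂ) :
    (∀ ξ ∈ upSet hc g', MemLocalIdeal M (brauerOmega R β (ξ : cz R → ℂ) - 1)) ↔
      ∀ ξ' ∈ g', MemLocalIdeal M (brauerOmega R' (fun x : H => β x) (ξ' : cz R' → ℂ) - 1) := by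
  rw [forall_upSet_iff hc (C := fun ξ => MemLocalIdeal M (brauerOmega R β ξ - 1))]
  simp only [brauerOmega_up]

theorem isNormalSubpair_up_iff {R₁' R₂' : Subgroup H} {R₁ R₂ : Subgroup G}
    (c₁ : IsCopy R₁' R₁) (hc₁ : IsCopy (cz R₁') (cz R₁)) (c₂ : IsCopy R₂' R₂)
    (hc₂ : IsCopy (cz R₂') (cz R₂)) {g₁' : Set (IrrCharacter (cz R₁'))}
    {g₂' : Set (IrrCharacter (cz R₂'))} :
    IsNormalSubpair p M R₁ (upSet hc₁ g₁') R₂ (upSet hc₂ g₂') ↔
      IsNormalSubpair p M R₁' g₁' R₂' g₂' := by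
  unfold IsNormalSubpair
  rw [isBrauerPair_up_iff c₁ hc₁, isBrauerPair_up_iff c₂ hc₂, c₁.le_iff c₂, occurs_up_iff hc₂]
  have e1 : R₂ ≤ Subgroup.normalizer (R₁ : Set G) ↔ R₂' ≤ Subgroup.normalizer (R₁' : Set H) := by
    constructor
    · intro h x hx
      exact (c₁.mem_normalizer_iff x).mpr (h ((c₂.coe_mem_iff x).mpr hx))
    · intro h g hg
      obtain ⟨hH, h2⟩ := (c₂ g).mp hg
      exact (c₁.mem_normalizer_iff ⟨g, hH⟩).mp (h h2)
  have e2 : (∀ x ∈ R₂, StabilizesBlock (cz R₁) (upSet hc₁ g₁') x) ↔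
      ∀ x ∈ R₂', StabilizesBlock (cz R₁') g₁' x := by
    constructor
    · intro h x hx
      exact (stabilizesBlock_upSet_iff hc₁ x).mp (h x ((c₂.coe_mem_iff x).mpr hx))
    · intro h g hg
      obtain ⟨hH, h2⟩ := (c₂ g).mp hg
      exact (stabilizesBlock_upSet_iff hc₁ ⟨g, hH⟩).mpr (h _ h2)
  have e3 : (fun x : H => subgroupBlockCoeff (cz R₁) (upSet hc₁ g₁') x) =
      subgroupBlockCoeff (cz R₁') g₁' := by
    ext x
    exact sbc_upSet_coe hc₁ g₁' x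
  rw [e1, e2, e3]

/-- the pair `a` of `G` is the copy of the pair `a'` of `H` (and `C_G(a.1) ≤ H`) -/
def PairCopy (a' : BrauerPairIdx H) (a : BrauerPairIdx G) : Prop :=
  IsCopy a'.1 a.1 ∧ cz a.1 ≤ H ∧
    subgroupBlockCoeff (cz a.1) a.2 = extendByZero H (subgroupBlockCoeff (cz a'.1) a'.2)

omit [Fintype G] in
theorem PairCopy.isCopy_cz {a' : BrauerPairIdx H} {a : BrauerPairIdx G} (h : PairCopy a' a) :
    IsCopy (cz a'.1) (cz a.1) := h.1.centralizer h.2.1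

theorem PairCopy.eq_upSet {a' : BrauerPairIdx H} {a : BrauerPairIdx G} (h : PairCopy a' a) :
    a.2 = upSet h.isCopy_cz a'.2 := by
  apply sbc_injective
  rw [h.2.2, sbc_upSet]

theorem pairCopy_mk {R' : Subgroup H} {R : Subgroup G} (c : IsCopy R' R) (hC : cz R ≤ H)
    (g' : Set (IrrCharacter (cz R'))) :
    PairCopy ⟨R', g'⟩ ⟨R, upSet (c.centralizer hC) g'⟩ :=
  ⟨c, hC, sbc_upSet _ _⟩

theorem PairCopy.unique {a' : BrauerPairIdx H} {a b : BrauerPairIdx G} (h₁ : PairCopy a' a)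
    (h₂ : PairCopy a' b) : a = b := by
  obtain ⟨R, g⟩ := a
  obtain ⟨S, k⟩ := b
  exact brauerPairIdx_ext (h₁.1.unique h₂.1) (h₁.2.2.trans h₂.2.2.symm)

theorem PairCopy.unique_down {a' b' : BrauerPairIdx H} {a : BrauerPairIdx G} (h₁ : PairCopy a' a)
    (h₂ : PairCopy b' a) : a' = b' := by
  obtain ⟨R, g⟩ := a'
  obtain ⟨S, k⟩ := b'
  exact brauerPairIdx_ext (h₁.1.eq_subgroupOf.trans h₂.1.eq_subgroupOf.symm)
    (ext_injective H (h₁.2.2.symm.trans h₂.2.2))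

theorem exists_pairCopy_up (a' : BrauerPairIdx H) (hC : cz (a'.1.map H.subtype) ≤ H) :
    ∃ a : BrauerPairIdx G, PairCopy a' a :=
  ⟨_, pairCopy_mk (isCopy_map a'.1) hC a'.2⟩

theorem exists_pairCopy_down (a : BrauerPairIdx G) (ha : a.1 ≤ H) (hC : cz a.1 ≤ H) :
    ∃ a' : BrauerPairIdx H, PairCopy a' a := by
  obtain ⟨R, g⟩ := a
  change R ≤ H at ha
  change cz R ≤ H at hC
  obtain ⟨g', hg'⟩ := exists_upSet_eq ((isCopy_subgroupOf ha).centralizer hC) g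
  refine ⟨⟨_, g'⟩, ?_⟩
  rw [← hg']
  exact pairCopy_mk (isCopy_subgroupOf ha) hC g'

theorem PairCopy.rel_iff {a' b' : BrauerPairIdx H} {a b : BrauerPairIdx G} (ha : PairCopy a' a)
    (hb : PairCopy b' b) : NormalSubpairRel p M a b ↔ NormalSubpairRel p M a' b' := by
  obtain ⟨R, g⟩ := a
  obtain ⟨S, k⟩ := b
  have h1 := ha.eq_upSet
  have h2 := hb.eq_upSet
  simp only at h1 h2
  unfold NormalSubpairRel
  simp only
  rw [h1, h2]
  exact isNormalSubpair_up_iff ha.1 _ hb.1 _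

theorem PairCopy.isBrauerPair_iff {a' : BrauerPairIdx H} {a : BrauerPairIdx G}
    (ha : PairCopy a' a) : IsBrauerPair p M a.1 a.2 ↔ IsBrauerPair p M a'.1 a'.2 := by
  obtain ⟨R, g⟩ := a
  have h1 := ha.eq_upSet
  simp only at h1 ⊢
  rw [h1]
  exact isBrauerPair_up_iff ha.1 _

theorem PairCopy.PLE_up {a' b' : BrauerPairIdx H} (h : PLE p M a' b') :
    ∀ {a b : BrauerPairIdx G}, PairCopy a' a → PairCopy b' b → PLE p M a b := by
  induction h with
  | refl =>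
    intro a b ha hb
    rw [ha.unique hb]
  | tail hac hcb ih =>
    rename_i c' b'
    intro a b ha hb
    have h1 : a'.1 ≤ c'.1 := PLE.le hac
    have h2 : cz (c'.1.map H.subtype) ≤ H :=
      (cz_anti ((ha.1.le_iff (isCopy_map c'.1)).mp h1)).trans ha.2.1
    obtain ⟨c, hc⟩ := exists_pairCopy_up c' h2
    exact (ih ha hc).tail ((hc.rel_iff hb).mpr hcb)

theorem PairCopy.PLE_down {a b : BrauerPairIdx G} (h : PLE p M a b) :
    ∀ {a' b' : BrauerPairIdx H}, PairCopy a' a → PairCopy b' b → PLE p M a' b' := by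
  induction h using Relation.ReflTransGen.head_induction_on with
  | refl =>
    intro a' b' ha hb
    rw [ha.unique_down hb]
  | head hac hcb ih =>
    rename_i a c
    intro a' b' ha hb
    have h1 : a.1 ≤ c.1 := hac.2.2.1
    have h2 : c.1 ≤ H := (PLE.le hcb).trans hb.1.le
    obtain ⟨c', hc⟩ := exists_pairCopy_down c h2 ((cz_anti h1).trans ha.2.1)
    exact (ih hc hb).head ((ha.rel_iff hc).mp hac)

theorem PairCopy.conj {a' : BrauerPairIdx H} {a : BrauerPairIdx G} (ha : PairCopy a' a) (x : H) :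
    PairCopy (cjIdx x a') (cjIdx (x : G) a) := by
  refine ⟨ha.1.conj x, ?_, ?_⟩
  · intro g hg
    have h1 := ha.2.1 ((isConjSub_cz_map a.1 (x : G) g).mp hg)
    have h3 := H.mul_mem (H.mul_mem x.2 h1) (H.inv_mem x.2)
    have h4 : (x : G) * ((x : G)⁻¹ * g * x) * (x : G)⁻¹ = g := by group
    rwa [h4] at h3
  · unfold cjIdx
    simp only
    rw [sbc_conjBlock, sbc_conjBlock, ha.2.2, cjF_extendByZero]

theorem PairCopy.isBrauerPairOf_iff {a' : BrauerPairIdx H} {a : BrauerPairIdx G}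
    (ha : PairCopy a' a) (F : Set (IrrCharacter H)) :
    IsBrauerPairOf p M F a'.1 a'.2 ↔ IsBrauerPair p M a.1 a.2 ∧ IsPBlock M F ∧
      ∀ ξ ∈ a.2, MemLocalIdeal M
        (brauerOmega a.1 (subgroupBlockCoeff H F) (ξ : cz a.1 → ℂ) - 1) := by
  obtain ⟨R, g⟩ := a
  have h1 := ha.eq_upSet
  simp only at h1 ⊢
  unfold IsBrauerPairOf
  rw [h1, occurs_up_iff, isBrauerPair_up_iff ha.1]
  have e3 : (fun x : H => subgroupBlockCoeff H F x) = blockCoeff F := by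
    ext x
    exact sbc_coe H F x
  rw [e3]

theorem isMaximalBrauerPair_of_isDefectGroup (hM : IsPModular p M) {B : Set (IrrCharacter G)}
    {P : Subgroup G} {e : Set (IrrCharacter (cz P))} (h : IsBrauerPairOf p M B P e)
    (hD : IsDefectGroup p M B P) : IsMaximalBrauerPair p M B P e := by
  have : Fact p.Prime := ⟨hM.1⟩
  refine ⟨h, fun R g hRg hle => ?_⟩
  obtain ⟨c, hc, hmax⟩ := exists_maximal_ge (p := p) (M := M) _ ⟨R, g⟩ hRg rfl
  have hD' := isDefectGroup_of_maximal hM hmax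
  have h1 : Nat.card c.1 = Nat.card P := by
    rw [IsDefectGroup.card_eq hM h.2.1 hD', IsDefectGroup.card_eq hM h.2.1 hD]
  have h2 : P ≤ R := PLE.le hle
  have h3 : R ≤ c.1 := PLE.le hc
  exact (Subgroup.eq_of_le_of_card_ge h2 (h1 ▸ Subgroup.card_le_of_le h3)).symm

/-- Sylow-type theorem for the Brauer pairs above `(Q, f)` inside a subgroup `H` containing
`C_G(Q)` in which the idempotent of `f` is a block idempotent. -/
theorem exists_conj_le_of_defectGroup (hM : IsPModular p M) {Q : Subgroup G}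
    {f : Set (IrrCharacter (cz Q))} (hCH : cz Q ≤ H) {F : Set (IrrCharacter H)}
    (hF : IsPBlock M F) (hFf : subgroupBlockCoeff H F = subgroupBlockCoeff (cz Q) f)
    {R₁ R₂ : Subgroup G} {g₁ : Set (IrrCharacter (cz R₁))} {g₂ : Set (IrrCharacter (cz R₂))}
    (h₁ : IsNormalSubpair p M Q f R₁ g₁) (h₂ : IsNormalSubpair p M Q f R₂ g₂) (hR₁ : R₁ ≤ H)
    (hR₂ : R₂ ≤ H) (hD : IsDefectGroup p M F (R₂.subgroupOf H)) :
    ∃ x ∈ H, PLE p M (cjIdx x ⟨R₁, g₁⟩) ⟨R₂, g₂⟩ := by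
  obtain ⟨a₁, ha₁⟩ := exists_pairCopy_down (H := H) ⟨R₁, g₁⟩ hR₁ ((cz_anti h₁.2.2.1).trans hCH)
  obtain ⟨a₂, ha₂⟩ := exists_pairCopy_down (H := H) ⟨R₂, g₂⟩ hR₂ ((cz_anti h₂.2.2.1).trans hCH)
  have hb₁ : IsBrauerPairOf p M F a₁.1 a₁.2 :=
    (ha₁.isBrauerPairOf_iff F).mpr ⟨h₁.2.1, hF, by rw [hFf]; exact h₁.2.2.2.2.2⟩
  have hb₂ : IsBrauerPairOf p M F a₂.1 a₂.2 :=
    (ha₂.isBrauerPairOf_iff F).mpr ⟨h₂.2.1, hF, by rw [hFf]; exact h₂.2.2.2.2.2⟩
  have hD₂ : IsDefectGroup p M F a₂.1 := by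
    rw [ha₂.1.eq_subgroupOf]
    exact hD
  obtain ⟨x, hx⟩ := exists_conj_le_maximal hM (isMaximalBrauerPair_of_isDefectGroup hM hb₂ hD₂) hb₁
  exact ⟨x, x.2, PairCopy.PLE_up (a' := cjIdx x a₁) (b' := a₂) hx (ha₁.conj x) ha₂⟩

end pairs

end Cfsg.Agent.Lib.Helper24
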