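import Cfsg.Agent.Lib.Helper24.PIndex
import Cfsg.Agent.Lib.Helper6.PPart

/-!
# The Sylow axiom for maximal Brauer pairs: `N_G(P, e) / P C_G(P)` is a `p'`-group
-/

set_option autoImplicit false

namespace Cfsg.Agent.Lib.Helper24

open Cfsg Cfsg.Agent.Lib.Helper2 Cfsg.Agent.Lib.Helper6
open scoped ComplexConjugate Classical

attribute [local instance] irrFintype

section

variable {G : Type*} [Group G] [Fintype G] {M : Ideal AlgInt} {p : ℕ}

/-- relative version of the existence of the block with the idempotent of a stable block of a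
normal subgroup of `p`-power index -/
theorem exists_block_of_stable_relIndex (hM : IsPModular p M) {L C : Subgroup G} (hCL : C ≤ L)
    (hLN : L ≤ Subgroup.normalizer (C : Set G)) {k : ℕ} (hidx : C.relIndex L = p ^ k)
    {c : Set (IrrCharacter C)} (hc : IsPBlock M c) (hst : L ≤ stabSub C c) :
    ∃ F : Set (IrrCharacter L), IsPBlock M F ∧
      subgroupBlockCoeff L F = subgroupBlockCoeff C c := by
  have := IsPModular.isPrime hM
  have hn : (C.subgroupOf L).Normal := (Subgroup.normal_subgroupOf_iff_le_normalizer hCL).mpr hLN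
  apply exists_block_of_stable hCL hc hst
  intro F hF g hg
  by_cases hgL : g ∈ L
  · rw [sbc_mem _ _ hgL, blockCoeff_eq_coef]
    apply coef_indicator_eq_zero hM hF
    by_contra hcon
    exact hg (Subgroup.mem_subgroupOf.mp (mem_of_index_pow hM.1 (C.subgroupOf L) hidx hcon))
  · exact sbc_not_mem _ _ hgL

omit [Fintype G] in
theorem relIndex_sup_of_le_normalizer {S C : Subgroup G}
    (h : S ≤ Subgroup.normalizer (C : Set G)) : C.relIndex (S ⊔ C) = C.relIndex S := by
  let _ := Subgroup.normal_subgroupOf_of_le_normalizer h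
  let _ := Subgroup.normal_subgroupOf_sup_of_le_normalizer h
  exact (Nat.card_congr (QuotientGroup.quotientInfEquivProdNormalizerQuotient _ _ h).toEquiv).symm

/-- A `p`-subgroup of `N_G(P, e)` lies in `P C_G(P)` when `(P, e)` is a maximal Brauer pair. -/
theorem pSubgroup_stab_le (hM : IsPModular p M) {B : Set (IrrCharacter G)} {P : Subgroup G}
    {e : Set (IrrCharacter (cz P))} (hmax : IsMaximalBrauerPair p M B P e) {S : Subgroup G}
    (hS : IsPGroup p S) (hSN : S ≤ Subgroup.normalizer (P : Set G))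
    (hSst : S ≤ stabSub (cz P) e) : S ≤ P ⊔ cz P := by
  have : Fact p.Prime := ⟨hM.1⟩
  have hSC : S ≤ Subgroup.normalizer ((cz P : Subgroup G) : Set G) := fun x hx =>
    (isConjSub_of_mem_normalizer (hSN hx)).centralizer.mem_normalizer
  obtain ⟨L, hL⟩ : ∃ L : Subgroup G, L = S ⊔ cz P := ⟨_, rfl⟩
  have hCL : cz P ≤ L := hL ▸ le_sup_right
  have hLN : L ≤ Subgroup.normalizer ((cz P : Subgroup G) : Set G) :=
    hL ▸ sup_le hSC Subgroup.le_normalizer
  have hLNP : L ≤ Subgroup.normalizer (P : Set G) :=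
    hL ▸ sup_le hSN (Subgroup.centralizer_le_normalizer _)
  have hLst : L ≤ stabSub (cz P) e := hL ▸ sup_le hSst (le_stabSub _ _)
  obtain ⟨k, hk⟩ : ∃ k, (cz P).relIndex L = p ^ k := by
    rw [hL, relIndex_sup_of_le_normalizer hSC]
    obtain ⟨j, hj⟩ := IsPGroup.iff_card.mp hS
    obtain ⟨i, -, hi⟩ := (Nat.dvd_prime_pow hM.1).mp (hj ▸ Subgroup.relIndex_dvd_card (cz P) S)
    exact ⟨i, hi⟩
  obtain ⟨F, hF, hFe⟩ := exists_block_of_stable_relIndex hM hCL hLN hk hmax.1.1.2 hLst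
  obtain ⟨D, hD⟩ := exists_isDefectGroup hM hF
  have h1 := sup_defectGroup_eq_of_relIndex hM hCL hLN hk hmax.1.1.2 hLst hFe hD
  obtain ⟨R, hR, g, hg⟩ : ∃ R : Subgroup G, R = P ⊔ D.map L.subtype ∧
      ∃ g : Set (IrrCharacter (cz R)), IsNormalSubpair p M P e R g :=
    ⟨_, rfl, exists_overpair_of_defectGroup hM hmax.1.1 hLNP hLst hFe hD⟩
  have hRg : IsBrauerPairOf p M B R g :=
    (isBrauerPairOf_iff_of_normalSubpair hM hg hmax.1.2.1).mpr hmax.1
  have h2 : R = P := hmax.2 R g hRg (Relation.ReflTransGen.single hg)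
  have h3 : D.map L.subtype ≤ P := by
    rw [← h2, hR]
    exact le_sup_right
  calc S ≤ L := hL ▸ le_sup_left
    _ = cz P ⊔ D.map L.subtype := h1.symm
    _ ≤ P ⊔ cz P := sup_le le_sup_right (h3.trans le_sup_left)

omit [Fintype G] in
theorem le_of_pParts [Finite G] (hp : p.Prime) {T K : Subgroup G}
    (h1 : ∀ y ∈ T, (∃ k : ℕ, orderOf y = p ^ k) → y ∈ K)
    (h2 : ∀ y ∈ T, ¬ p ∣ orderOf y → y ∈ K) : T ≤ K := by
  intro x hx
  obtain ⟨x₁, y, hxy, -, ⟨k, hk⟩, hy⟩ := exists_isPPart hp (⟨x, hx⟩ : T)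
  have h3 : (x₁ : G) * y = x := congrArg Subtype.val hxy
  rw [← h3]
  exact K.mul_mem (h1 _ x₁.2 ⟨k, by rw [Subgroup.orderOf_coe, hk]⟩)
    (h2 _ y.2 (by rw [Subgroup.orderOf_coe]; exact hy))

/-- elements of `p`-power order of `N_G(P, e)` lie in `P C_G(P)` -/
theorem mem_sup_of_orderOf_pow (hM : IsPModular p M) {B : Set (IrrCharacter G)} {P : Subgroup G}
    {e : Set (IrrCharacter (cz P))} (hmax : IsMaximalBrauerPair p M B P e) {y : G}
    (hyN : y ∈ Subgroup.normalizer (P : Set G)) (hyst : StabilizesBlock (cz P) e y) {k : ℕ}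
    (hk : orderOf y = p ^ k) : y ∈ P ⊔ cz P := by
  have : Fact p.Prime := ⟨hM.1⟩
  have h1 : IsPGroup p (Subgroup.zpowers y) := IsPGroup.of_card (n := k) (by rw [Nat.card_zpowers, hk])
  exact pSubgroup_stab_le hM hmax h1 (by rwa [Subgroup.zpowers_le])
    (by rw [Subgroup.zpowers_le]; exact hyst) (Subgroup.mem_zpowers y)

theorem cjIdx_one (a : BrauerPairIdx G) : cjIdx 1 a = a := by
  obtain ⟨Q, f⟩ := a
  exact cjIdx_eq_self_iff.mpr ⟨Subgroup.one_mem _, (stabSub (cz Q) f).one_mem⟩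

/-- conjugating the stabilizer of a pair -/
theorem cjIdx_conj_eq_self {a : BrauerPairIdx G} {x : G} (h : cjIdx x a = a) (y : G) :
    cjIdx (y * x * y⁻¹) (cjIdx y a) = cjIdx y a := by
  rw [← cjIdx_mul, inv_mul_cancel_right, cjIdx_mul, h]

end

end Cfsg.Agent.Lib.Helper24
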