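import Cfsg.Agent.Lib.Helper24.Galois

/-!
# Zeros of irreducible characters (Burnside; the bound `(χ(1)² - 1) |Z(χ)|`)
-/

set_option autoImplicit false
open Cfsg

namespace Cfsg.Agent.Lib.Helper24

open Cfsg.Agent.Lib.Helper2 Cfsg.Agent.Lib.Helper6
open scoped ComplexConjugate

variable {G : Type*} [Group G] [Fintype G]

theorem sum_norm_sq {χ : G → ℂ} (hχ : IsIrrCharacter G χ) :
    ∑ g : G, ‖χ g‖ ^ 2 = (Nat.card G : ℝ) := by
  have h := sum_mul_conj_self hχ
  have h2 : ((∑ g : G, ‖χ g‖ ^ 2 : ℝ) : ℂ) = ((Nat.card G : ℝ) : ℂ) := by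
    push_cast
    rw [← h]
    refine Finset.sum_congr rfl fun g _ => ?_
    rw [Complex.mul_conj, Complex.normSq_eq_norm_sq]
    push_cast
    rfl
  exact_mod_cast h2

/-- `χ(1)² |Z(χ)| + #{g ∉ Z(χ) : χ(g) ≠ 0} ≤ |G|`. -/
theorem zeros_bound {χ : G → ℂ} (hχ : IsIrrCharacter G χ)
    [DecidablePred fun g : G => ‖χ g‖ = (charDegree χ : ℝ)]
    [DecidablePred fun g : G => χ g = 0] :
    charDegree χ ^ 2 * (Finset.univ.filter (fun g : G => ‖χ g‖ = (charDegree χ : ℝ))).card +
      (Finset.univ.filter (fun g : G => ¬ ‖χ g‖ = (charDegree χ : ℝ) ∧ ¬ χ g = 0)).card ≤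
      Nat.card G := by
  classical
  have hc := IsIrrCharacter.isCharacter hχ
  have : NeZero (Nat.card G) := ⟨Nat.card_pos.ne'⟩
  set n := Nat.card G with hn
  set φ : ℝ := (Fintype.card (ZMod n)ˣ : ℝ) with hφ
  have hφpos : 0 < φ := by
    rw [hφ]; exact_mod_cast Fintype.card_pos
  have hxn : ∀ x : G, x ^ n = 1 := fun x => pow_card_eq_one'
  have hsum := sum_sum_pow_units (G := G) (fun g => ‖χ g‖ ^ 2)
  rw [sum_norm_sq hχ] at hsum
  have hW : ∀ x : G, φ * ((if ‖χ x‖ = (charDegree χ : ℝ) then (charDegree χ : ℝ) ^ 2 else 0) +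
      (if ¬ ‖χ x‖ = (charDegree χ : ℝ) ∧ ¬ χ x = 0 then 1 else 0)) ≤
      ∑ k : (ZMod n)ˣ, ‖χ (x ^ (k : ZMod n).val)‖ ^ 2 := by
    intro x
    by_cases h1 : ‖χ x‖ = (charDegree χ : ℝ)
    · rw [if_pos h1, if_neg (fun h => h.1 h1), add_zero]
      have : ∀ k : (ZMod n)ˣ, ‖χ (x ^ (k : ZMod n).val)‖ ^ 2 = (charDegree χ : ℝ) ^ 2 := by
        intro k
        rw [IsCharacter.norm_pow_eq hc h1]
      simp only [this, Finset.sum_const, Finset.card_univ, nsmul_eq_mul]
      exact le_refl _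
    · by_cases h2 : χ x = 0
      · rw [if_neg h1, if_neg (fun h => h.2 h2), add_zero, mul_zero]
        exact Finset.sum_nonneg fun _ _ => by positivity
      · rw [if_neg h1, if_pos ⟨h1, h2⟩, zero_add, mul_one]
        exact card_units_le_sum_norm_sq hc x n (hxn x) h2
  have h3 := Finset.sum_le_sum (s := Finset.univ) fun x _ => hW x
  rw [hsum, ← Finset.mul_sum] at h3
  have h4 := le_of_mul_le_mul_left h3 hφpos
  rw [Finset.sum_add_distrib, ← Finset.sum_filter, ← Finset.sum_filter, Finset.sum_const,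
    Finset.sum_const, nsmul_eq_mul, nsmul_eq_mul, mul_one] at h4
  have h5 : ((charDegree χ ^ 2 *
      (Finset.univ.filter (fun g : G => ‖χ g‖ = (charDegree χ : ℝ))).card +
      (Finset.univ.filter (fun g : G => ¬ ‖χ g‖ = (charDegree χ : ℝ) ∧ ¬ χ g = 0)).card : ℕ) : ℝ) ≤
      (n : ℝ) := by
    push_cast
    rw [mul_comm]
    convert h4 using 2
  exact_mod_cast h5

/-- The three parts `Z(χ)`, zeros, and the rest partition the group. -/
theorem card_partition {χ : G → ℂ} (hχ : IsIrrCharacter G χ)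
    [DecidablePred fun g : G => ‖χ g‖ = (charDegree χ : ℝ)]
    [DecidablePred fun g : G => χ g = 0] :
    (Finset.univ.filter (fun g : G => ‖χ g‖ = (charDegree χ : ℝ))).card +
      (Finset.univ.filter (fun g : G => χ g = 0)).card +
      (Finset.univ.filter (fun g : G => ¬ ‖χ g‖ = (charDegree χ : ℝ) ∧ ¬ χ g = 0)).card =
      Nat.card G := by
  classical
  have hpos := charDegree_pos hχ
  have hdis : ∀ g : G, ‖χ g‖ = (charDegree χ : ℝ) → χ g ≠ 0 := by
    intro g h1 h2
    rw [h2, norm_zero] at h1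
    have : (charDegree χ : ℝ) ≠ 0 := by exact_mod_cast hpos.ne'
    exact this h1.symm
  rw [Nat.card_eq_fintype_card, ← Finset.card_univ]
  rw [← Finset.card_union_of_disjoint, ← Finset.card_union_of_disjoint]
  · congr 1
    ext g
    simp only [Finset.mem_union, Finset.mem_filter, Finset.mem_univ, true_and, iff_true]
    tauto
  · rw [Finset.disjoint_left]
    intro g hg hg'
    simp only [Finset.mem_union, Finset.mem_filter, Finset.mem_univ, true_and] at hg hg'
    tauto
  · rw [Finset.disjoint_left]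
    intro g hg hg'
    simp only [Finset.mem_filter, Finset.mem_univ, true_and] at hg hg'
    exact hdis g hg hg'

/-- `χ` vanishes on at least `(χ(1)² - 1) |Z(χ)|` elements. -/
theorem card_zeros_ge {χ : G → ℂ} (hχ : IsIrrCharacter G χ)
    [DecidablePred fun g : G => ‖χ g‖ = (charDegree χ : ℝ)]
    [DecidablePred fun g : G => χ g = 0] :
    (charDegree χ ^ 2 - 1) * (Finset.univ.filter (fun g : G => ‖χ g‖ = (charDegree χ : ℝ))).card ≤
      (Finset.univ.filter (fun g : G => χ g = 0)).card := by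
  have h1 := zeros_bound hχ
  have h2 := card_partition hχ
  have hpos := charDegree_pos hχ
  have h3 : 1 ≤ charDegree χ ^ 2 := Nat.one_le_pow _ _ hpos
  obtain ⟨e, he⟩ : ∃ e, charDegree χ ^ 2 = e + 1 := ⟨charDegree χ ^ 2 - 1, by omega⟩
  rw [he] at h1 ⊢
  rw [Nat.add_sub_cancel]
  rw [add_mul, one_mul] at h1
  omega

end Cfsg.Agent.Lib.Helper24
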